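import Mathlib.Data.Nat.Bitwise
import Mathlib.Data.Nat.Log
import Mathlib.Tactic
set_option linter.all false

-- part: LargeExtra/Enum9/Code
section
/-!
# S1763, case II, type (B): codes (helper268)

`V` is the free `F₂[X]`-module of rank one, `X` elementary abelian of order 8; a vector is coded by a
number `n < 256` (bit `i` = coefficient of `x_i b`, `x_i x_j = x_(i xor j)`).
* `bt n i`: bit, `col M k`: byte `k` of `M`, `lin M n`: the sum of the `col M k` over the bits `k` of `n`.
* `px j n`: the code of `x_j n`; `par n`: parity; `orb n`: smallest element of the `X`-orbit.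
* `Tab`: tables for one of the five forms `b(e_i, e_j) = g(i xor j)`.
-/

set_option autoImplicit false

namespace Cfsg.Agent.LargeExtra.Enum9

/-- bit `i` of `n`, as a number -/
def bt (n i : ℕ) : ℕ := Nat.land (Nat.shiftRight n i) 1

/-- byte `k` of `M` -/
def col (M k : ℕ) : ℕ := Nat.land (Nat.shiftRight M (Nat.mul 8 k)) 255

/-- the sum (xor) of the bytes `col M k` over the bits `k < 8` of `n` -/
def lin (M n : ℕ) : ℕ :=
  Nat.xor (Nat.mul (bt n 0) (col M 0)) (Nat.xor (Nat.mul (bt n 1) (col M 1))
  (Nat.xor (Nat.mul (bt n 2) (col M 2)) (Nat.xor (Nat.mul (bt n 3) (col M 3))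
  (Nat.xor (Nat.mul (bt n 4) (col M 4)) (Nat.xor (Nat.mul (bt n 5) (col M 5))
  (Nat.xor (Nat.mul (bt n 6) (col M 6)) (Nat.mul (bt n 7) (col M 7))))))))

/-- the 256 bit word `k` of `R` -/
def word (R k : ℕ) : ℕ := Nat.land (Nat.shiftRight R (Nat.mul 256 k)) 0xffffffffffffffffffffffffffffffffffffffffffffffffffffffffffffffff

/-- the sum (xor) of the words `word R k` over the bits `k < 8` of `n` -/
def row (R n : ℕ) : ℕ :=
  Nat.xor (Nat.mul (bt n 0) (word R 0)) (Nat.xor (Nat.mul (bt n 1) (word R 1))
  (Nat.xor (Nat.mul (bt n 2) (word R 2)) (Nat.xor (Nat.mul (bt n 3) (word R 3))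
  (Nat.xor (Nat.mul (bt n 4) (word R 4)) (Nat.xor (Nat.mul (bt n 5) (word R 5))
  (Nat.xor (Nat.mul (bt n 6) (word R 6)) (Nat.mul (bt n 7) (word R 7))))))))

/-- table of `px` -/
def pxT : ℕ := 0xff7fbf3fdf5f9f1fef6faf2fcf4f8f0ff777b737d7579717e767a727c7478707fb7bbb3bdb5b9b1beb6bab2bcb4b8b0bf373b333d3539313e363a323c3438303fd7dbd3ddd5d9d1ded6dad2dcd4d8d0df575b535d5559515e565a525c5458505f979b939d9599919e969a929c9498909f171b131d1519111e161a121c1418101fe7ebe3ede5e9e1eee6eae2ece4e8e0ef676b636d6569616e666a626c6468606fa7aba3ada5a9a1aea6aaa2aca4a8a0af272b232d2529212e262a222c2428202fc7cbc3cdc5c9c1cec6cac2ccc4c8c0cf474b434d4549414e464a424c4448404f878b838d8589818e868a828c8488808f070b030d0509010e060a020c0408000ffbf7f3fefaf6f2fdf9f5f1fcf8f4f0ffbbb7b3bebab6b2bdb9b5b1bcb8b4b0bf7b77737e7a76727d7975717c7874707f3b37333e3a36323d3935313c3834303febe7e3eeeae6e2ede9e5e1ece8e4e0efaba7a3aeaaa6a2ada9a5a1aca8a4a0af6b67636e6a66626d6965616c6864606f2b27232e2a26222d2925212c2824202fdbd7d3dedad6d2ddd9d5d1dcd8d4d0df9b97939e9a96929d9995919c9894909f5b57535e5a56525d5955515c585450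5f1b17131e1a16121d1915111c1814101fcbc7c3cecac6c2cdc9c5c1ccc8c4c0cf8b87838e8a86828d8985818c8884808f4b47434e4a46424d4945414c4844404f0b07030e0a06020d0905010c0804000ffdfefcf7f5f6f4fbf9faf8f3f1f2f0ffdddedcd7d5d6d4dbd9dad8d3d1d2d0dfedeeece7e5e6e4ebe9eae8e3e1e2e0efcdceccc7c5c6c4cbc9cac8c3c1c2c0cf7d7e7c777576747b797a78737172707f5d5e5c575556545b595a58535152505f6d6e6c676566646b696a68636162606f4d4e4c474546444b494a48434142404fbdbebcb7b5b6b4bbb9bab8b3b1b2b0bf9d9e9c979596949b999a98939192909fadaeaca7a5a6a4aba9aaa8a3a1a2a0af8d8e8c878586848b898a88838182808f3d3e3c373536343b393a38333132303f1d1e1c171516141b191a18131112101f2d2e2c272526242b292a28232122202f0d0e0c070506040b090a08030102000ffefdfcfbfaf9f8f7f6f5f4f3f2f1f0ffeeedecebeae9e8e7e6e5e4e3e2e1e0efdedddcdbdad9d8d7d6d5d4d3d2d1d0dfcecdcccbcac9c8c7c6c5c4c3c2c1c0cfbebdbcbbbab9b8b7b6b5b4b3b2b1b0bfaeadacabaaa9a8a7a6a5a4a3a2a1a0af9e9d9c9b9a999897969594939291909f8e8d8c8b8a898887868584838281808f7e7d7c7b7a797877767574737271707f6e6d6c6b6a696867666564636261606f5e5d5c5b5a595857565554535251505f4e4d4c4b4a494847464544434241404f3e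3d3c3b3a393837363534333231303f2e2d2c2b2a292827262524232221202f1e1d1c1b1a191817161514131211101f0e0d0c0b0a090807060504030201000fff7fbf3fdf5f9f1fef6faf2fcf4f8f07f777b737d7579717e767a727c747870bfb7bbb3bdb5b9b1beb6bab2bcb4b8b03f373b333d3539313e363a323c343830dfd7dbd3ddd5d9d1ded6dad2dcd4d8d05f575b535d5559515e565a525c5458509f979b939d9599919e969a929c9498901f171b131d1519111e161a121c141810efe7ebe3ede5e9e1eee6eae2ece4e8e06f676b636d6569616e666a626c646860afa7aba3ada5a9a1aea6aaa2aca4a8a02f272b232d2529212e262a222c242820cfc7cbc3cdc5c9c1cec6cac2ccc4c8c04f474b434d4549414e464a424c4448408f878b838d8589818e868a828c8488800f070b030d0509010e060a020c040800fffbf7f3fefaf6f2fdf9f5f1fcf8f4f0bfbbb7b3bebab6b2bdb9b5b1bcb8b4b07f7b77737e7a76727d7975717c7874703f3b37333e3a36323d3935313c383430efebe7e3eeeae6e2ede9e5e1ece8e4e0afaba7a3aeaaa6a2ada9a5a1aca8a4a06f6b67636e6a66626d6965616c6864602f2b27232e2a26222d2925212c282420dfdbd7d3dedad6d2ddd9d5d1dcd8d4d09f9b97939e9a96929d9995919c9894905f5b57535e5a56525d5955515c5854501f1b17131e1a16121d1915111c181410cfcbc7c3cecac6c2cdc9c5c1ccc8c4c08f8b878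38e8a86828d8985818c8884804f4b47434e4a46424d4945414c4844400f0b07030e0a06020d0905010c080400fffdfefcf7f5f6f4fbf9faf8f3f1f2f0dfdddedcd7d5d6d4dbd9dad8d3d1d2d0efedeeece7e5e6e4ebe9eae8e3e1e2e0cfcdceccc7c5c6c4cbc9cac8c3c1c2c07f7d7e7c777576747b797a78737172705f5d5e5c575556545b595a58535152506f6d6e6c676566646b696a68636162604f4d4e4c474546444b494a4843414240bfbdbebcb7b5b6b4bbb9bab8b3b1b2b09f9d9e9c979596949b999a9893919290afadaeaca7a5a6a4aba9aaa8a3a1a2a08f8d8e8c878586848b898a88838182803f3d3e3c373536343b393a38333132301f1d1e1c171516141b191a18131112102f2d2e2c272526242b292a28232122200f0d0e0c070506040b090a0803010200fffefdfcfbfaf9f8f7f6f5f4f3f2f1f0efeeedecebeae9e8e7e6e5e4e3e2e1e0dfdedddcdbdad9d8d7d6d5d4d3d2d1d0cfcecdcccbcac9c8c7c6c5c4c3c2c1c0bfbebdbcbbbab9b8b7b6b5b4b3b2b1b0afaeadacabaaa9a8a7a6a5a4a3a2a1a09f9e9d9c9b9a999897969594939291908f8e8d8c8b8a898887868584838281807f7e7d7c7b7a797877767574737271706f6e6d6c6b6a696867666564636261605f5e5d5c5b5a595857565554535251504f4e4d4c4b4a494847464544434241403f3e3d3c3b3a393837363534333231302f2e2d2c2b2a292827262524232221201f1e1d1c1b1a191817161514131211100f0e0d0c0b0a09080706050403020100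

/-- table of parities -/
def parT : ℕ := 0x6996966996696996966969966996966996696996699696696996966996696996

/-- table of `orb` -/
def orbT : ℕ := 0xff7f7f3f7f5f6f1f7f6f5f1f3f1f1f0f7f777b377d576b177e675b1b3d1d1e077f7b77377e5b671b7d6b57173d1e1d073f3737333d3536133d3635133c1c1c037f7d7e3d7757671d7b6b5b1e37171b075f575b35575556155b565a1a35151a056f6b6736675666196b695616361619061f171b131d1519111e161a121c1418017f7e7d3d7b5b6b1e7767571d371b17076f676b366b56691667665619361916065f5b57355b5a561a57565515351a15051f1b17131e1a16121d1915111c1814013f3d3d3c3735361c3736351c331313031f1d1e1c171516141b191a18131112011f1e1d1c1b1a191817161514131211010f070703070506010706050103010100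

/-- the code of `x_j n` -/
def px (j n : ℕ) : ℕ := Nat.land (Nat.shiftRight pxT (Nat.mul 8 (Nat.add (Nat.mul 256 j) n))) 255

/-- parity of the number of bits of `n < 256` -/
def par (n : ℕ) : ℕ := bt parT n

/-- smallest element of the orbit of `n` -/
def orb (n : ℕ) : ℕ := col orbT n

/-- the tables of a form: `gm` = the function `g` as a bit mask, `gc` = multiplication by `g`
(bytes), `q` = quadratic form (bits), `l0`, `l1` = singular vectors `n` with `b(n, e_0) = 1` and
`b(n, a) = 0`, `1` (masks), `rp` = rows of the Gram matrix (words) -/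
structure Tab where
  gm : ℕ
  gc : ℕ
  q : ℕ
  l0 : ℕ
  l1 : ℕ
  rp : ℕ

/-- the form with `g = 1` on `[1]` -/
def T0 : Tab where
  gm := 2
  gc := 0xfffdfefcf7f5f6f4fbf9faf8f3f1f2f0dfdddedcd7d5d6d4dbd9dad8d3d1d2d0efedeeece7e5e6e4ebe9eae8e3e1e2e0cfcdceccc7c5c6c4cbc9cac8c3c1c2c07f7d7e7c777576747b797a78737172705f5d5e5c575556545b595a58535152506f6d6e6c676566646b696a68636162604f4d4e4c474546444b494a4843414240bfbdbebcb7b5b6b4bbb9bab8b3b1b2b09f9d9e9c979596949b999a9893919290afadaeaca7a5a6a4aba9aaa8a3a1a2a08f8d8e8c878586848b898a88838182803f3d3e3c373536343b393a38333132301f1d1e1c171516141b191a18131112102f2d2e2c272526242b292a28232122200f0d0e0c070506040b090a0803010200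
  q := 0x7888877787778777877778887888788887777888788878888777788878887888
  l0 := 0x8440488048800008488084408440000448808440844000040008000400048440
  l1 := 0x4000800084880000800040004844000080004000484404880844084400004
  rp := 0xffffffffffffffff0000000000000000ffffffffffffffff0000000000000000ffffffffffffffffffffffffffffffff00000000000000000000000000000000ffff0000ffff0000ffff0000ffff0000ffff0000ffff0000ffff0000ffff0000ffffffff00000000ffffffff00000000ffffffff00000000ffffffff00000000f0f0f0f0f0f0f0f0f0f0f0f0f0f0f0f0f0f0f0f0f0f0f0f0f0f0f0f0f0f0f0f0ff00ff00ff00ff00ff00ff00ff00ff00ff00ff00ff00ff00ff00ff00ff00ff00aaaaaaaaaaaaaaaaaaaaaaaaaaaaaaaaaaaaaaaaaaaaaaaaaaaaaaaaaaaaaaaacccccccccccccccccccccccccccccccccccccccccccccccccccccccccccccccc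

/-- the form with `g = 1` on `[1, 2, 3]` -/
def T1 : Tab where
  gm := 14
  gc := 0xfff1f2fcf4faf9f7f8f6f5fbf3fdfef01f11121c141a19171816151b131d1e102f21222c242a29272826252b232d2e20cfc1c2ccc4cac9c7c8c6c5cbc3cdcec04f41424c444a49474846454b434d4e40afa1a2aca4aaa9a7a8a6a5aba3adaea09f91929c949a99979896959b939d9e907f71727c747a79777876757b737d7e708f81828c848a89878886858b838d8e806f61626c646a69676866656b636d6e605f51525c545a59575856555b535d5e50bfb1b2bcb4bab9b7b8b6b5bbb3bdbeb03f31323c343a39373836353b333d3e30dfd1d2dcd4dad9d7d8d6d5dbd3ddded0efe1e2ece4eae9e7e8e6e5ebe3edeee00f01020c040a09070806050b030d0e00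
  q := 0x7ee88117811781178117811781177ee88117811781177ee881177ee87ee87ee8
  l0 := 0x8000400040000228400002280228011440000228022801140228011401148000
  l1 := 0x114022802284000022840004000800002284000400080004000800080000114
  rp := 0xffff00000000ffff0000ffffffff0000ffff00000000ffff0000ffffffff0000ffff00000000ffffffff00000000ffff0000ffffffff00000000ffffffff0000ffff0000ffff00000000ffff0000ffff0000ffff0000ffffffff0000ffff0000ffffffff0000000000000000ffffffff00000000ffffffffffffffff0000000096969696969696969696969696969696969696969696969696969696969696969966996699669966996699669966996699669966996699669966996699669966a55aa55aa55aa55aa55aa55aa55aa55aa55aa55aa55aa55aa55aa55aa55aa55ac33cc33cc33cc33cc33cc33cc33cc33cc33cc33cc33cc33cc33cc33cc33cc33c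

/-- the form with `g = 1` on `[1, 2, 4]` -/
def T2 : Tab where
  gm := 22
  gc := 0xffe9d6c0b6a09f89796f50463026190f9e88b7a1d7c1fee8180e31275147786e6d7b445224320d1bebfdc2d4a2b48b9d0c1a253345536c7a8a9ca3b5c3d5eafc6b7d425422340b1dedfbc4d2a4b28d9b0a1c233543556a7c8c9aa5b3c5d3ecfaf9efd0c6b0a6998f7f69564036201f09988eb1a7d1c7f8ee1e08372157417e689781bea8dec8f7e11107382e584e7167f6e0dfc9bfa996807066594f392f100605132c3a4c5a65738395aabccadce3f564724d5b2d3b0412e2f4cbddabbd829403152a3c4a5c63758593acbaccdae5f362744b5d2b3d0214e4f2cddbadbb84929187b8aed8cef1e717013e285e487761f0e6d9cfb9af908676605f493f291600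
  q := 0x7dbed714b172e4278d4ed81b4182eb2882be2814b18de4d88db1d8e4be821428
  l0 := 0x8241280040801008408004208241001441001428024008040240201041000000
  l1 := 0x2802010810020120040000140000410000400210204002040800412814
  rp := 0xff00ff0000ff00ff00ff00ffff00ff00ff00ff0000ff00ff00ff00ffff00ff00f0f00f0ff0f00f0ff0f00f0ff0f00f0f0f0ff0f00f0ff0f00f0ff0f00f0ff0f0cccc3333cccc3333cccc3333cccc33333333cccc3333cccc3333cccc3333ccccaaaaaaaa5555555555555555aaaaaaaaaaaaaaaa5555555555555555aaaaaaaac3c3c3c3c3c3c3c3c3c3c3c3c3c3c3c33c3c3c3c3c3c3c3c3c3c3c3c3c3c3c3caa55aa55aa55aa5555aa55aa55aa55aaaa55aa55aa55aa5555aa55aa55aa55aaaa55aa5555aa55aaaa55aa5555aa55aaaa55aa5555aa55aaaa55aa5555aa55aac3c33c3cc3c33c3cc3c33c3cc3c33c3cc3c33c3cc3c33c3cc3c33c3cc3c33c3c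

/-- the form with `g = 1` on `[1, 2, 3, 4, 5]` -/
def T3 : Tab where
  gm := 62
  gc := 0xffc1c2fc340a09373806053bf3cdcef01c22211fd7e9ead4dbe5e6d8102e2d132c12112fe7d9dae4ebd5d6e8201e1d23cff1f2cc043a39070836350bc3fdfec0437d7e4088b6b58b84bab9874f71724ca09e9da36b55566867595a64ac9291af90aead935b65665857696a549ca2a19f734d4e70b88685bbb48a89b77f41427c83bdbe804876754b447a79478fb1b28c605e5d63ab9596a8a7999aa46c52516f506e6d539ba5a69897a9aa945c62615fb38d8eb07846457b744a4977bf8182bc3f01023cf4cac9f7f8c6c5fb330d0e30dce2e1df17292a141b252618d0eeedd3ecd2d1ef27191a242b151628e0dedde30f31320cc4faf9c7c8f6f5cb033d3e00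
  q := 0x7ee8e771e77181178ee7e881e88171188ee7e881e88171188117188e188e7ee8
  l0 := 0x8000088208820228411014401440000441101440144000040228200020008000
  l1 := 0x114100010004000000800020002822000080002000282204000044104410114
  rp := 0xf00f0ff00ff0f00f0ff0f00ff00f0ff0f00f0ff00ff0f00f0ff0f00ff00f0ff0f00f0ff00ff0f00ff00f0ff00ff0f00f0ff0f00ff00f0ff00ff0f00ff00f0ff09999666699996666666699996666999966669999666699999999666699996666999999996666666666666666999999996666666699999999999999996666666696969696969696966969696969696969696969696969696996969696969696969966996699669966669966996699669966996699669966999966996699669966a55a5aa55aa5a55aa55a5aa55aa5a55aa55a5aa55aa5a55aa55a5aa55aa5a55ac33c3cc33cc3c33cc33c3cc33cc3c33cc33c3cc33cc3c33cc33c3cc33cc3c33c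

/-- the form with `g = 1` on `[1, 2, 3, 4, 5, 6, 7]` -/
def T4 : Tab where
  gm := 254
  gc := 0xff0102fc04faf90708f6f50bf30d0ef010eeed13eb1516e8e7191ae41ce2e11f20dedd23db2526d8d7292ad42cd2d12fcf3132cc34cac93738c6c53bc33d3ec040bebd43bb4546b8b7494ab44cb2b14faf5152ac54aaa95758a6a55ba35d5ea09f61629c649a99676896956b936d6e90708e8d738b75768887797a847c82817f807e7d837b85867877898a748c72718f6f91926c946a69979866659b639d9e605fa1a25ca45a59a7a85655ab53adae50b04e4db34bb5b64847b9ba44bc4241bf3fc1c23cc43a39c7c83635cb33cdce30d02e2dd32bd5d62827d9da24dc2221dfe01e1de31be5e61817e9ea14ec1211ef0ff1f20cf40a09f7f80605fb03fdfe00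
  q := 0x7ee8e881e8818117e88181178117177ee88181178117177e8117177e177e7ee8
  l0 := 0x8000000200020228000202280228288000020228022828800228288028808000
  l1 := 0x114144014404000144040004000000114404000400000014000000100010114
  rp := 0x966969966996966969969669966969969669699669969669699696699669699696696996699696699669699669969669699696699669699669969669966969969669699696696996699696696996966969969669699696699669699696696996966996696996699669966996966996696996699696699669966996696996699696966969696996966969969696966969696996969696696996966969696996969966669966999966669999669966669966999966996666999966669966999966a55a5aa55aa5a55a5aa5a55aa55a5aa55aa5a55aa55a5aa5a55a5aa55aa5a55ac33c3cc33cc3c33c3cc3c33cc33c3cc33cc3c33cc33c3cc3c33c3cc33cc3c33c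

/-- multiplication by `g` -/
def Tab.mg (T : Tab) (n : ℕ) : ℕ := col T.gc n

/-- the bilinear form on codes -/
def Tab.B (T : Tab) (n m : ℕ) : ℕ := par (Nat.land n (T.mg m))

/-- the coordinates of `t` with respect to the basis `col M k` (with Gram matrix `g`) -/
def Tab.crd (T : Tab) (M t : ℕ) : ℕ :=
  T.mg (Nat.add (T.B t (col M 0)) (Nat.add (Nat.mul 2 (T.B t (col M 1)))
    (Nat.add (Nat.mul 4 (T.B t (col M 2))) (Nat.add (Nat.mul 8 (T.B t (col M 3)))
    (Nat.add (Nat.mul 16 (T.B t (col M 4))) (Nat.add (Nat.mul 32 (T.B t (col M 5)))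
    (Nat.add (Nat.mul 64 (T.B t (col M 6))) (Nat.mul 128 (T.B t (col M 7)))))))))) 

/-- the action of `y_j : col M k ↦ col M (k xor j)` -/
def Tab.act (T : Tab) (M j t : ℕ) : ℕ := lin M (px j (T.crd M t))

/-- all `i < n` satisfy `f` -/
def allN : ℕ → (ℕ → Bool) → Bool
  | 0, _ => true
  | n + 1, f => f n && allN n f

theorem allN_iff (n : ℕ) (f : ℕ → Bool) : allN n f = true ↔ ∀ i, i < n → f i = true := by
  induction n with
  | zero => simp [allN]
  | succ n ih =>
    rw [allN, Bool.and_eq_true, ih]
    constructor
    · rintro ⟨h1, h2⟩ i hi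
      rcases Nat.lt_succ_iff_lt_or_eq.1 hi with h | rfl
      · exact h2 i h
      · exact h1
    · intro h
      exact ⟨h n (Nat.lt_succ_self n), fun i hi => h i (Nat.lt_succ_of_lt hi)⟩

/-! ### type independent facts -/

theorem px_spec : ∀ n, n < 256 → ∀ j, j < 8 →
    px j n < 256 ∧ ∀ i, i < 8 → bt (px j n) i = bt n (Nat.xor i j) := by
  have h : (allN 256 fun n => allN 8 fun j => Nat.blt (px j n) 256 &&
      allN 8 fun i => Nat.beq (bt (px j n) i) (bt n (Nat.xor i j))) = true := by decide +kernel
  intro n hn j hj
  have h1 := (allN_iff _ _).1 ((allN_iff _ _).1 h n hn) j hj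
  rw [Bool.and_eq_true, allN_iff, Nat.blt_eq] at h1
  exact ⟨h1.1, fun i hi => Nat.eq_of_beq_eq_true (h1.2 i hi)⟩

theorem par_spec : ∀ n, n < 256 → par n = (bt n 0 + bt n 1 + bt n 2 + bt n 3 + bt n 4 + bt n 5 +
    bt n 6 + bt n 7) % 2 := by
  have h : (allN 256 fun n => Nat.beq (par n) ((bt n 0 + bt n 1 + bt n 2 + bt n 3 + bt n 4 + bt n 5 +
    bt n 6 + bt n 7) % 2)) = true := by decide +kernel
  intro n hn
  exact Nat.eq_of_beq_eq_true ((allN_iff _ _).1 h n hn)

theorem orb_spec : ∀ n, n < 256 → ∀ j, j < 8 → orb (px j n) = orb n := by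
  have h : (allN 256 fun n => allN 8 fun j => Nat.beq (orb (px j n)) (orb n)) = true := by
    decide +kernel
  intro n hn j hj
  exact Nat.eq_of_beq_eq_true ((allN_iff _ _).1 ((allN_iff _ _).1 h n hn) j hj)

/-- removing the top bit -/
theorem top_spec : ∀ n, n < 256 → n ≠ 0 → Nat.log2 n < 8 ∧
    Nat.xor n (Nat.shiftLeft 1 (Nat.log2 n)) < n ∧
    Nat.xor (Nat.xor n (Nat.shiftLeft 1 (Nat.log2 n))) (Nat.shiftLeft 1 (Nat.log2 n)) = n := by
  have h : (allN 256 fun n => Nat.beq n 0 || (Nat.blt (Nat.log2 n) 8 &&
      (Nat.blt (Nat.xor n (Nat.shiftLeft 1 (Nat.log2 n))) n &&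
      Nat.beq (Nat.xor (Nat.xor n (Nat.shiftLeft 1 (Nat.log2 n))) (Nat.shiftLeft 1 (Nat.log2 n))) n)))
      = true := by decide +kernel
  intro n hn h0
  have h1 := (allN_iff _ _).1 h n hn
  rw [Bool.or_eq_true, Bool.and_eq_true, Bool.and_eq_true, Nat.blt_eq, Nat.blt_eq] at h1
  rcases h1 with h1 | h1
  · exact absurd (Nat.eq_of_beq_eq_true h1) h0
  · exact ⟨h1.1, h1.2.1, Nat.eq_of_beq_eq_true h1.2.2⟩

/-- convolution: the sum of the `px j n` over the bits `j` of `s` -/
def conv (s n : ℕ) : ℕ :=
  Nat.xor (Nat.mul (bt s 0) (px 0 n)) (Nat.xor (Nat.mul (bt s 1) (px 1 n))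
  (Nat.xor (Nat.mul (bt s 2) (px 2 n)) (Nat.xor (Nat.mul (bt s 3) (px 3 n))
  (Nat.xor (Nat.mul (bt s 4) (px 4 n)) (Nat.xor (Nat.mul (bt s 5) (px 5 n))
  (Nat.xor (Nat.mul (bt s 6) (px 6 n)) (Nat.mul (bt s 7) (px 7 n))))))))

/-- witnesses for `conv_spec` -/
def convT : ℕ := 0x1ffff55ff3333ffff3333ff55ffff11ff0f0fff0fffff0f0fffff0fff0f0fffff0f0fff0fffff0f0fffff0fff0f0fff55ffff05ff0605ffff0506ff05ffff55ff0f0fff0fffff0f0fffff0fff0f0fff33ffff06ff0303ffff0303ff06ffff3333ffff05ff0303ffff0303ff05ffff33ff0f0fff0fffff0f0fffff0fff0f0fffff0f0fff0fffff0f0fffff0fff0f0fff33ffff05ff0303ffff0303ff05ffff3333ffff06ff0303ffff0303ff06ffff33ff0f0fff0fffff0f0fffff0fff0f0fff55ffff05ff0605ffff0506ff05ffff55ff0f0fff0fffff0f0fffff0fff0f0fffff0f0fff0fffff0f0fffff0fff0f0fff11ffff55ff3333ffff3333ff55ffff00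

theorem conv_spec : ∀ n, n < 256 → n ≠ 0 → conv (col convT n) n = 255 := by
  have h : (allN 256 fun n => Nat.beq n 0 || Nat.beq (conv (col convT n) n) 255) = true := by
    decide +kernel
  intro n hn h0
  have h1 := (allN_iff _ _).1 h n hn
  rw [Bool.or_eq_true] at h1
  rcases h1 with h1 | h1
  · exact absurd (Nat.eq_of_beq_eq_true h1) h0
  · exact Nat.eq_of_beq_eq_true h1

/-! ### type dependent facts -/

/-- the finite facts about the tables -/
def Tab.okn (T : Tab) (n : ℕ) : Bool :=
  Nat.blt (T.mg n) 256 && (Nat.beq (T.mg (T.mg n)) n &&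
  ((allN 8 fun k => Nat.beq (T.B n (px k n)) (Nat.mul (bt T.gm k) (par n))) &&
  ((allN 8 fun i => Nat.beq (bt (word T.rp i) n) (bt (T.mg n) i)) &&
  ((allN 8 fun i => Nat.beq (bt T.q (Nat.xor n (Nat.shiftLeft 1 i)))
      (Nat.land (Nat.add (bt T.q n) (bt (T.mg n) i)) 1)) &&
  ((allN 8 fun i => Nat.beq (par (Nat.land n (T.mg (Nat.shiftLeft 1 i)))) (bt (T.mg n) i)) &&
  (Nat.beq (bt T.l0 n) (Nat.mul (Nat.land (Nat.add (bt T.q n) 1) 1) (Nat.mul (T.B n 1)
        (Nat.land (Nat.add (par n) 1) 1))) &&
      Nat.beq (bt T.l1 n) (Nat.mul (Nat.land (Nat.add (bt T.q n) 1) 1)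
        (Nat.mul (T.B n 1) (par n)))))))))

/-- all finite facts about the tables -/
def Tab.okb (T : Tab) : Bool :=
  Nat.beq (bt T.gm 0) 0 && (Nat.beq (T.mg 255) 255 && (Nat.beq (T.mg 0) 0 && (Nat.beq (bt T.q 0) 0 &&
  ((allN 256 fun n => T.okn n) &&
  (allN 8 fun i => allN 8 fun j => Nat.beq (bt (T.mg (Nat.shiftLeft 1 i)) j)
    (bt T.gm (Nat.xor i j)))))))

theorem ok0 : T0.okb = true := by decide +kernel
theorem ok1 : T1.okb = true := by decide +kernel
theorem ok2 : T2.okb = true := by decide +kernel
theorem ok3 : T3.okb = true := by decide +kernel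
theorem ok4 : T4.okb = true := by decide +kernel

end Cfsg.Agent.LargeExtra.Enum9
end

-- part: LargeExtra/Enum9/Check
section
/-!
# S1763, case II, type (B): the kernel checker for level 1 (helper268)
-/

set_option autoImplicit false

namespace Cfsg.Agent.LargeExtra.Enum9

/-- evaluate `n` before applying `k` -/
def fc {α : Type} (n : ℕ) (k : ℕ → α) : α :=
  match n with
  | 0 => k 0
  | Nat.succ m => k (Nat.succ m)

theorem fc_eq {α : Type} (n : ℕ) (k : ℕ → α) : fc n k = k n := by cases n <;> rfl

/-- the numbers in the list are exactly the bits of the mask, and `f n a` for all of them -/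
def zipF {α : Type} (f : ℕ → α → Bool) : ℕ → List (ℕ × α) → Bool
  | mask, [] => Nat.beq mask 0
  | mask, (h, a) :: as => Nat.beq (bt mask h) 1 && (f h a &&
      fc (Nat.xor mask (Nat.shiftLeft 1 h)) fun m => zipF f m as)

/-- nested certificates -/
abbrev C1 := List (ℕ × ℕ)
/-- nested certificates -/
abbrev C2 := List (ℕ × C1)
/-- nested certificates -/
abbrev C3 := List (ℕ × C2)
/-- nested certificates -/
abbrev C4 := List (ℕ × C3)
/-- nested certificates -/
abbrev C5 := List (ℕ × C4)

/-- mask of the `n` with `b(n, m) = g(d)` -/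
def Tab.msk (T : Tab) (d m : ℕ) : ℕ :=
  Nat.xor (row T.rp m) (Nat.mul (Nat.sub 1 (bt T.gm d)) (0xffffffffffffffffffffffffffffffffffffffffffffffffffffffffffffffff))

/-- mask of the singular `n` with `b(n, b) = 1`, `b(n, a) = g(k)` -/
def Tab.base (T : Tab) (k : ℕ) : ℕ := bif Nat.beq (bt T.gm k) 0 then T.l0 else T.l1

/-- clear the bits below `l` -/
def clr (mask l : ℕ) : ℕ := Nat.shiftLeft (Nat.shiftRight mask l) l

/-- one letter: `x_j` for `l = j < 8`, `y_j` for `l = 8 + j` -/
def Tab.lt (T : Tab) (M l t : ℕ) : ℕ := bif Nat.blt l 8 then px l t else T.act M (Nat.sub l 8) t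

/-- a word of at most `f` letters (hexadecimal digits, applied from the lowest) -/
def Tab.evw (T : Tab) (M : ℕ) : ℕ → ℕ → ℕ → ℕ
  | 0, _, t => t
  | Nat.succ f, w, t => bif Nat.beq w 0 then t else
      fc (T.lt M (Nat.land w 15) t) fun s => T.evw M f (Nat.shiftRight w 4) s

/-- `W` is a contradiction for the pair with matrix `M` -/
def Tab.conf (T : Tab) (M W : ℕ) : Bool :=
  fc (Nat.land W 255) fun t => fc (Nat.land (Nat.shiftRight W 8) 7) fun k =>
  fc (bt W 11) fun p => fc (bt W 12) fun p' => fc (Nat.shiftRight W 13) fun w =>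
  Nat.beq (T.evw M 4 w (bif Nat.beq p 0 then 255 else 1)) (bif Nat.beq p' 0 then 255 else 1) &&
  fc (T.evw M 4 w t) fun s1 =>
  fc (T.evw M 4 w (bif Nat.beq p 0 then px k t else T.act M k t)) fun s2 =>
  not (Nat.beq (orb (bif Nat.beq p' 0 then s1 else T.crd M s1))
    (orb (bif Nat.beq p' 0 then s2 else T.crd M s2)))

/-- leaf: `W = 1` means survivor -/
def Tab.leaf (T : Tab) (S : List ℕ) (M W : ℕ) : Bool :=
  bif Nat.beq W 1 then S.any (Nat.beq M) else T.conf M W

/-- the checker for a fixed `m1`; `lo` (hexadecimal digits): `m_(lo k) ≤ m_k` -/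
def Tab.chk1 (T : Tab) (S : List ℕ) (lo m1 : ℕ) (c : C5) : Bool :=
  zipF (fun m2 c => zipF (fun m3 c => zipF (fun m4 c => zipF (fun m5 c => zipF (fun m6 W =>
      fc (Nat.xor 254 (Nat.xor m1 (Nat.xor m2 (Nat.xor m3 (Nat.xor m4 (Nat.xor m5 m6)))))) fun m7 =>
      (bif Nat.beq (Nat.land (Nat.shiftRight lo 28) 15) 4 then Nat.blt m7 m4 else false) ||
      fc (Nat.add 255 (Nat.shiftLeft (Nat.add m1 (Nat.shiftLeft (Nat.add m2 (Nat.shiftLeft (Nat.add m3
        (Nat.shiftLeft (Nat.add m4 (Nat.shiftLeft (Nat.add m5 (Nat.shiftLeft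
          (Nat.add m6 (Nat.shiftLeft m7 8)) 8)) 8)) 8)) 8)) 8)) 8)) fun M => T.leaf S M W)
      (fc (Nat.land (T.base 6) (Nat.land (T.msk 7 m1) (Nat.land (T.msk 4 m2) (Nat.land (T.msk 5 m3)
        (Nat.land (T.msk 2 m4) (T.msk 3 m5)))))) fun m =>
        bif Nat.beq (Nat.land (Nat.shiftRight lo 24) 15) 4 then clr m m4 else m) c)
      (fc (Nat.land (T.base 5) (Nat.land (T.msk 4 m1) (Nat.land (T.msk 7 m2) (Nat.land (T.msk 6 m3)
        (T.msk 1 m4))))) fun m =>
        bif Nat.beq (Nat.land (Nat.shiftRight lo 20) 15) 4 then clr m m4 else m) c)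
      (fc (Nat.land (T.base 4) (Nat.land (T.msk 5 m1) (Nat.land (T.msk 6 m2) (T.msk 7 m3)))) fun m =>
        bif Nat.beq (Nat.land (Nat.shiftRight lo 16) 15) 2 then clr m m2 else m) c)
      (fc (Nat.land (T.base 3) (Nat.land (T.msk 2 m1) (T.msk 1 m2))) fun m =>
        bif Nat.beq (Nat.land (Nat.shiftRight lo 12) 15) 2 then clr m m2 else m) c)
      (fc (Nat.land (T.base 2) (T.msk 3 m1)) fun m =>
        bif Nat.beq (Nat.land (Nat.shiftRight lo 8) 15) 1 then clr m m1 else m) c

end Cfsg.Agent.LargeExtra.Enum9
end

-- part: LargeExtra/Enum9/Vec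
section
/-!
# S1763, case II, type (B): vectors of codes (helper268)
-/

set_option autoImplicit false

namespace Cfsg.Agent.LargeExtra.Enum9

variable {V : Type*} [AddCommGroup V] [Module (ZMod 2) V]

omit [Module (ZMod 2) V] in
theorem bt_eq (n i : ℕ) : bt n i = (n.testBit i).toNat := by
  rw [Nat.toNat_testBit]
  show (n >>> i) &&& 1 = _
  rw [Nat.and_one_is_mod, Nat.shiftRight_eq_div_pow]

theorem bt_cases (n i : ℕ) : bt n i = 0 ∨ bt n i = 1 := by
  rw [bt_eq]; cases n.testBit i <;> simp

theorem bt_xor (n m i : ℕ) : bt (Nat.xor n m) i = (bt n i + bt m i) % 2 := by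
  rw [bt_eq, bt_eq, bt_eq]
  show ((n ^^^ m).testBit i).toNat = _
  rw [Nat.testBit_xor]
  cases n.testBit i <;> cases m.testBit i <;> rfl

theorem bt_land (n m i : ℕ) : bt (Nat.land n m) i = bt n i * bt m i := by
  rw [bt_eq, bt_eq, bt_eq]
  show ((n &&& m).testBit i).toNat = _
  rw [Nat.testBit_and]
  cases n.testBit i <;> cases m.testBit i <;> rfl

theorem bt_mul_bt (n i m j : ℕ) : bt (Nat.mul (bt n i) m) j = bt n i * bt m j := by
  rcases bt_cases n i with h | h <;> rw [h]
  · show bt (0 * m) j = _
    rw [zero_mul, zero_mul, bt_eq]; simp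
  · show bt (1 * m) j = _
    rw [one_mul, one_mul]

theorem add_self (v : V) : v + v = 0 := by
  have : (2 : ZMod 2) • v = 0 := by rw [show (2 : ZMod 2) = 0 from rfl, zero_smul]
  rwa [two_smul] at this

theorem bt_xor_smul (n m i : ℕ) (v : V) : bt (Nat.xor n m) i • v = bt n i • v + bt m i • v := by
  rw [bt_xor]
  rcases bt_cases n i with h | h <;> rcases bt_cases m i with h' | h' <;> rw [h, h'] <;> simp [add_self]

/-- vector of a code -/
def vec (e : ℕ → V) (n : ℕ) : V :=
  bt n 0 • e 0 + (bt n 1 • e 1 + (bt n 2 • e 2 + (bt n 3 • e 3 + (bt n 4 • e 4 +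
    (bt n 5 • e 5 + (bt n 6 • e 6 + bt n 7 • e 7))))))

theorem vec_xor (e : ℕ → V) (n m : ℕ) : vec e (Nat.xor n m) = vec e n + vec e m := by
  simp only [vec, bt_xor_smul]
  abel

omit [Module (ZMod 2) V] in
theorem vec_zero (e : ℕ → V) : vec e 0 = 0 := by
  have h : ∀ i, bt 0 i = 0 := fun i => by rw [bt_eq]; simp
  simp only [vec, h, zero_smul, add_zero]

omit [Module (ZMod 2) V] in
theorem vec_mul (e : ℕ → V) (n k m : ℕ) : vec e (Nat.mul (bt n k) m) = bt n k • vec e m := by
  rcases bt_cases n k with h | h <;> rw [h]
  · show vec e (0 * m) = _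
    rw [zero_mul, zero_smul, vec_zero]
  · show vec e (1 * m) = _
    rw [one_mul, one_smul]

theorem vec_lin (e : ℕ → V) (M n : ℕ) : vec e (lin M n) = vec (fun k => vec e (col M k)) n := by
  rw [lin]
  simp only [vec_xor, vec_mul]
  rfl

omit [Module (ZMod 2) V] in
theorem vec_congr {e e' : ℕ → V} (h : ∀ k, k < 8 → e k = e' k) (n : ℕ) : vec e n = vec e' n := by
  simp only [vec, h 0 (by norm_num), h 1 (by norm_num), h 2 (by norm_num), h 3 (by norm_num),
    h 4 (by norm_num), h 5 (by norm_num), h 6 (by norm_num), h 7 (by norm_num)]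

omit [Module (ZMod 2) V] in
theorem vec_two_pow (e : ℕ → V) {i : ℕ} (hi : i < 8) : vec e (Nat.shiftLeft 1 i) = e i := by
  have h : ∀ i, i < 8 → ∀ j, j < 8 → bt (Nat.shiftLeft 1 i) j = if j = i then 1 else 0 := by decide
  simp only [vec, h i hi 0 (by norm_num), h i hi 1 (by norm_num), h i hi 2 (by norm_num),
    h i hi 3 (by norm_num), h i hi 4 (by norm_num), h i hi 5 (by norm_num), h i hi 6 (by norm_num),
    h i hi 7 (by norm_num)]
  interval_cases i <;> simp

omit [Module (ZMod 2) V] in
theorem map_vec {W F : Type*} [AddCommGroup W] [FunLike F V W] [AddMonoidHomClass F V W] (f : F)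
    (e : ℕ → V) (n : ℕ) : f (vec e n) = vec (fun k => f (e k)) n := by
  simp only [vec, map_add, map_nsmul]

omit [Module (ZMod 2) V] in
theorem vec_px (e : ℕ → V) {j : ℕ} (hj : j < 8) {n : ℕ} (hn : n < 256) :
    vec (fun k => e (Nat.xor j k)) n = vec e (px j n) := by
  obtain ⟨-, h⟩ := px_spec n hn j hj
  simp only [vec, h 0 (by norm_num), h 1 (by norm_num), h 2 (by norm_num), h 3 (by norm_num),
    h 4 (by norm_num), h 5 (by norm_num), h 6 (by norm_num), h 7 (by norm_num)]
  have x : ∀ a b c : ℕ, (h : a ^^^ b = c) → Nat.xor a b = c := fun _ _ _ h => h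
  interval_cases j
  · simp only [Nat.xor_zero, Nat.zero_xor, show ∀ a : ℕ, Nat.xor a 0 = a from Nat.xor_zero,
      show ∀ a : ℕ, Nat.xor 0 a = a from Nat.zero_xor]
  all_goals
    simp only [show Nat.xor 1 0 = 1 from rfl, show Nat.xor 1 1 = 0 from rfl, show Nat.xor 1 2 = 3 from rfl,
      show Nat.xor 1 3 = 2 from rfl, show Nat.xor 1 4 = 5 from rfl, show Nat.xor 1 5 = 4 from rfl,
      show Nat.xor 1 6 = 7 from rfl, show Nat.xor 1 7 = 6 from rfl,
      show Nat.xor 2 0 = 2 from rfl, show Nat.xor 2 1 = 3 from rfl, show Nat.xor 2 2 = 0 from rfl,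
      show Nat.xor 2 3 = 1 from rfl, show Nat.xor 2 4 = 6 from rfl, show Nat.xor 2 5 = 7 from rfl,
      show Nat.xor 2 6 = 4 from rfl, show Nat.xor 2 7 = 5 from rfl,
      show Nat.xor 3 0 = 3 from rfl, show Nat.xor 3 1 = 2 from rfl, show Nat.xor 3 2 = 1 from rfl,
      show Nat.xor 3 3 = 0 from rfl, show Nat.xor 3 4 = 7 from rfl, show Nat.xor 3 5 = 6 from rfl,
      show Nat.xor 3 6 = 5 from rfl, show Nat.xor 3 7 = 4 from rfl,
      show Nat.xor 4 0 = 4 from rfl, show Nat.xor 4 1 = 5 from rfl, show Nat.xor 4 2 = 6 from rfl,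
      show Nat.xor 4 3 = 7 from rfl, show Nat.xor 4 4 = 0 from rfl, show Nat.xor 4 5 = 1 from rfl,
      show Nat.xor 4 6 = 2 from rfl, show Nat.xor 4 7 = 3 from rfl,
      show Nat.xor 5 0 = 5 from rfl, show Nat.xor 5 1 = 4 from rfl, show Nat.xor 5 2 = 7 from rfl,
      show Nat.xor 5 3 = 6 from rfl, show Nat.xor 5 4 = 1 from rfl, show Nat.xor 5 5 = 0 from rfl,
      show Nat.xor 5 6 = 3 from rfl, show Nat.xor 5 7 = 2 from rfl,
      show Nat.xor 6 0 = 6 from rfl, show Nat.xor 6 1 = 7 from rfl, show Nat.xor 6 2 = 4 from rfl,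
      show Nat.xor 6 3 = 5 from rfl, show Nat.xor 6 4 = 2 from rfl, show Nat.xor 6 5 = 3 from rfl,
      show Nat.xor 6 6 = 0 from rfl, show Nat.xor 6 7 = 1 from rfl,
      show Nat.xor 7 0 = 7 from rfl, show Nat.xor 7 1 = 6 from rfl, show Nat.xor 7 2 = 5 from rfl,
      show Nat.xor 7 3 = 4 from rfl, show Nat.xor 7 4 = 3 from rfl, show Nat.xor 7 5 = 2 from rfl,
      show Nat.xor 7 6 = 1 from rfl, show Nat.xor 7 7 = 0 from rfl,
      show Nat.xor 0 1 = 1 from rfl, show Nat.xor 0 2 = 2 from rfl, show Nat.xor 0 3 = 3 from rfl,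
      show Nat.xor 0 4 = 4 from rfl, show Nat.xor 0 5 = 5 from rfl, show Nat.xor 0 6 = 6 from rfl,
      show Nat.xor 0 7 = 7 from rfl]
    abel

/-- linear combinations of numbers -/
theorem vec_zmod (c : ℕ → ZMod 2) (n : ℕ) : vec c n = (bt n 0 : ZMod 2) * c 0 + ((bt n 1 : ZMod 2) * c 1 +
    ((bt n 2 : ZMod 2) * c 2 + ((bt n 3 : ZMod 2) * c 3 + ((bt n 4 : ZMod 2) * c 4 +
    ((bt n 5 : ZMod 2) * c 5 + ((bt n 6 : ZMod 2) * c 6 + (bt n 7 : ZMod 2) * c 7)))))) := by
  simp only [vec, nsmul_eq_mul]

theorem land_lt {n m : ℕ} (hn : n < 256) : Nat.land n m < 256 :=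
  lt_of_le_of_lt (Nat.and_le_left (n := n) (m := m)) hn

/-- `par (n ∧ s)` as a bilinear expression -/
theorem par_land {n : ℕ} (hn : n < 256) (s : ℕ) :
    ((par (Nat.land n s) : ℕ) : ZMod 2) = vec (fun k => (bt s k : ZMod 2)) n := by
  rw [par_spec _ (land_lt hn), vec_zmod]
  simp only [bt_land]
  rw [ZMod.natCast_mod]
  push_cast
  ring

theorem par_eq {n : ℕ} (hn : n < 256) : ((par n : ℕ) : ZMod 2) = vec (fun _ => (1 : ZMod 2)) n := by
  rw [par_spec _ hn, vec_zmod, ZMod.natCast_mod]
  push_cast
  ring

theorem par_cases (n : ℕ) : par n = 0 ∨ par n = 1 := bt_cases _ _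

theorem xor_lt {n m : ℕ} (hn : n < 256) (hm : m < 256) : Nat.xor n m < 256 :=
  Nat.xor_lt_two_pow (n := 8) hn hm

theorem col_lt (M k : ℕ) : col M k < 256 :=
  lt_of_le_of_lt (Nat.and_le_right (n := Nat.shiftRight M (Nat.mul 8 k)) (m := 255)) (by norm_num)

theorem mul_bt_lt {n k m : ℕ} (hm : m < 256) : Nat.mul (bt n k) m < 256 := by
  rcases bt_cases n k with h | h <;> rw [h]
  · show 0 * m < 256
    omega
  · show 1 * m < 256
    omega

theorem lin_lt (M n : ℕ) : lin M n < 256 := by
  rw [lin]
  have h : ∀ k, Nat.mul (bt n k) (col M k) < 256 := fun k => mul_bt_lt (col_lt M k)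
  exact xor_lt (h 0) (xor_lt (h 1) (xor_lt (h 2) (xor_lt (h 3) (xor_lt (h 4) (xor_lt (h 5)
    (xor_lt (h 6) (h 7)))))))

theorem px_lt {j n : ℕ} (hj : j < 8) (hn : n < 256) : px j n < 256 := (px_spec n hn j hj).1

/-- induction on codes -/
theorem code_induction {P : ℕ → Prop} (h0 : P 0)
    (h1 : ∀ n, n < 256 → ∀ i, i < 8 → P n → P (Nat.xor n (Nat.shiftLeft 1 i))) :
    ∀ n, n < 256 → P n := by
  intro n
  induction n using Nat.strong_induction_on with
  | _ n ih =>
    intro hn
    by_cases hz : n = 0
    · rw [hz]; exact h0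
    · obtain ⟨k1, k2, k3⟩ := top_spec n hn hz
      have k4 := h1 _ (k2.trans hn) _ k1 (ih _ k2 (k2.trans hn))
      rwa [k3] at k4

end Cfsg.Agent.LargeExtra.Enum9
end

-- part: LargeExtra/Enum9/Frame
section
/-!
# S1763, case II, type (B): frames (helper268)

`BFam q b H a X`: `X` is normal in the stabiliser of `a` in `H`, elementary abelian of order 8, and
`∑ x v = a` over `x ∈ X` for `b(a, v) = 1`.  `Lab F T p r f`: a numbering `f` of `X_p` and a reference
vector `r` of the orbit with `b(p, r) = 1`, with Gram matrix `b(f_i r, f_j r) = g(i xor j)`.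
-/

set_option autoImplicit false

namespace Cfsg.Agent.LargeExtra.Enum9

variable {V : Type*} [AddCommGroup V] [Module (ZMod 2) V]

/-- the abstract situation of type (B) -/
structure BFam (q : V → ZMod 2) (b : LinearMap.BilinForm (ZMod 2) V)
    (H : Subgroup (V ≃ₗ[ZMod 2] V)) (a : V) (X : Subgroup (V ≃ₗ[ZMod 2] V)) : Prop where
  card : Nat.card V = 256
  q_add : ∀ v w, q (v + w) = q v + q w + b v w
  q_H : ∀ h ∈ H, ∀ v, q (h v) = q v
  q_a : q a = 0
  a_ne : a ≠ 0
  X_le : X ≤ H
  X_norm : ∀ h ∈ H, h a = a → ∀ x ∈ X, h * x * h⁻¹ ∈ X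
  lab : ∃ x : ℕ → (V ≃ₗ[ZMod 2] V), (∀ k, k < 8 → x k ∈ X) ∧ (∀ f ∈ X, ∃ k, k < 8 ∧ f = x k) ∧
    (∀ j, j < 8 → ∀ k, k < 8 → x (Nat.xor j k) = x j * x k) ∧
    ∀ v, b a v = 1 → vec (fun k => x k v) 255 = a
  opp : ∃ h ∈ H, b a (h a) = 1

theorem zm (c : ZMod 2) : c = 0 ∨ c = 1 := by revert c; decide

theorem zadd (c : ZMod 2) : c + c = 0 := by revert c; decide

namespace BFam

variable {q : V → ZMod 2} {b : LinearMap.BilinForm (ZMod 2) V}
  {H : Subgroup (V ≃ₗ[ZMod 2] V)} {a : V} {X : Subgroup (V ≃ₗ[ZMod 2] V)}

theorem b_eq (F : BFam q b H a X) (v w : V) : b v w = q (v + w) + q v + q w := by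
  rw [F.q_add]
  generalize q v = x, q w = y, b v w = z
  revert x y z; decide

theorem q_zero (F : BFam q b H a X) : q 0 = 0 := by
  have h := F.q_add 0 0
  rw [add_zero, map_zero, add_zero, zadd] at h
  exact h

theorem b_comm (F : BFam q b H a X) (v w : V) : b v w = b w v := by
  rw [F.b_eq, F.b_eq, add_comm w v]; ring

theorem b_self (F : BFam q b H a X) (v : V) : b v v = 0 := by
  rw [F.b_eq, add_self, F.q_zero, zero_add, zadd]

theorem b_H (F : BFam q b H a X) {h : V ≃ₗ[ZMod 2] V} (hh : h ∈ H) (v w : V) :
    b (h v) (h w) = b v w := by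
  rw [F.b_eq, F.b_eq, ← map_add, F.q_H h hh, F.q_H h hh, F.q_H h hh]

end BFam

theorem inv_apply (f : V ≃ₗ[ZMod 2] V) (v : V) : f⁻¹ (f v) = v := f.symm_apply_apply v

theorem apply_inv (f : V ≃ₗ[ZMod 2] V) (v : V) : f (f⁻¹ v) = v := f.apply_symm_apply v

/-- the conjugate of `X` at the point `p` -/
def XX (H : Subgroup (V ≃ₗ[ZMod 2] V)) (a : V) (X : Subgroup (V ≃ₗ[ZMod 2] V)) (p : V) :
    Set (V ≃ₗ[ZMod 2] V) := {f | ∃ h ∈ H, h a = p ∧ h⁻¹ * f * h ∈ X}

/-- the orbit of `a` -/
def Orb (H : Subgroup (V ≃ₗ[ZMod 2] V)) (a : V) : Set V := {p | ∃ h ∈ H, h a = p}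

section

variable {q : V → ZMod 2} {b : LinearMap.BilinForm (ZMod 2) V}
  {H : Subgroup (V ≃ₗ[ZMod 2] V)} {a : V} {X : Subgroup (V ≃ₗ[ZMod 2] V)}

theorem XX_conj {p : V} {f h : V ≃ₗ[ZMod 2] V} (hh : h ∈ H) (hf : f ∈ XX H a X p) :
    h * f * h⁻¹ ∈ XX H a X (h p) := by
  obtain ⟨k, hk, rfl, hx⟩ := hf
  refine ⟨h * k, H.mul_mem hh hk, rfl, ?_⟩
  have : (h * k)⁻¹ * (h * f * h⁻¹) * (h * k) = k⁻¹ * f * k := by group
  rw [this]; exact hx

theorem XX_le_H (F : BFam q b H a X) {p : V} {f : V ≃ₗ[ZMod 2] V} (hf : f ∈ XX H a X p) : f ∈ H := by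
  obtain ⟨k, hk, rfl, hx⟩ := hf
  have h1 := H.mul_mem (H.mul_mem hk (F.X_le hx)) (H.inv_mem hk)
  have : k * (k⁻¹ * f * k) * k⁻¹ = f := by group
  rwa [this] at h1

theorem mem_XX_a (F : BFam q b H a X) {f : V ≃ₗ[ZMod 2] V} : f ∈ XX H a X a ↔ f ∈ X := by
  constructor
  · rintro ⟨h, hh, ha, hx⟩
    have h1 := F.X_norm h hh ha _ hx
    have : h * (h⁻¹ * f * h) * h⁻¹ = f := by group
    rwa [this] at h1
  · intro hf
    exact ⟨1, H.one_mem, rfl, by simpa using hf⟩

theorem Orb_map {p : V} (hp : p ∈ Orb H a) {h : V ≃ₗ[ZMod 2] V} (hh : h ∈ H) : h p ∈ Orb H a := by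
  obtain ⟨k, hk, rfl⟩ := hp
  exact ⟨h * k, H.mul_mem hh hk, rfl⟩

theorem Orb_trans {p r : V} (hp : p ∈ Orb H a) (hr : r ∈ Orb H a) : ∃ h ∈ H, h p = r := by
  obtain ⟨k, hk, rfl⟩ := hp
  obtain ⟨l, hl, rfl⟩ := hr
  refine ⟨l * k⁻¹, H.mul_mem hl (H.inv_mem hk), ?_⟩
  show l (k⁻¹ (k a)) = l a
  rw [inv_apply]

theorem q_Orb (F : BFam q b H a X) {p : V} (hp : p ∈ Orb H a) : q p = 0 := by
  obtain ⟨k, hk, rfl⟩ := hp
  rw [F.q_H k hk]; exact F.q_a

/-- a numbering of `X_p` -/
structure PLab (q : V → ZMod 2) (b : LinearMap.BilinForm (ZMod 2) V)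
    (H : Subgroup (V ≃ₗ[ZMod 2] V)) (a : V) (X : Subgroup (V ≃ₗ[ZMod 2] V))
    (p r : V) (f : ℕ → (V ≃ₗ[ZMod 2] V)) : Prop where
  fam : BFam q b H a X
  hp : p ∈ Orb H a
  hr : r ∈ Orb H a
  bpr : b p r = 1
  mem : ∀ k, k < 8 → f k ∈ XX H a X p
  surj : ∀ x ∈ XX H a X p, ∃ k, k < 8 ∧ x = f k
  mul : ∀ j, j < 8 → ∀ k, k < 8 → f (Nat.xor j k) = f j * f k
  norm : ∀ v, b p v = 1 → vec (fun k => f k v) 255 = p

/-- a numbering of `X_p` with the Gram matrix of type `T` -/
structure Lab (q : V → ZMod 2) (b : LinearMap.BilinForm (ZMod 2) V)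
    (H : Subgroup (V ≃ₗ[ZMod 2] V)) (a : V) (X : Subgroup (V ≃ₗ[ZMod 2] V)) (T : Tab)
    (p r : V) (f : ℕ → (V ≃ₗ[ZMod 2] V)) : Prop extends PLab q b H a X p r f where
  ok : T.okb = true
  gram : ∀ k, k < 8 → b r (f k r) = (bt T.gm k : ℕ)

theorem allN_apply {n : ℕ} {f : ℕ → Bool} (h : allN n f = true) {i : ℕ} (hi : i < n) : f i = true :=
  (allN_iff n f).1 h i hi

namespace Tab

theorem ok_gm {T : Tab} (h : T.okb = true) : bt T.gm 0 = 0 := by
  simp only [okb, Bool.and_eq_true] at h
  exact Nat.eq_of_beq_eq_true h.1

theorem ok_full {T : Tab} (h : T.okb = true) : T.mg 255 = 255 := by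
  simp only [okb, Bool.and_eq_true] at h
  exact Nat.eq_of_beq_eq_true h.2.1

theorem ok_mg0 {T : Tab} (h : T.okb = true) : T.mg 0 = 0 := by
  simp only [okb, Bool.and_eq_true] at h
  exact Nat.eq_of_beq_eq_true h.2.2.1

theorem ok_q0 {T : Tab} (h : T.okb = true) : bt T.q 0 = 0 := by
  simp only [okb, Bool.and_eq_true] at h
  exact Nat.eq_of_beq_eq_true h.2.2.2.1

theorem ok_basis {T : Tab} (h : T.okb = true) {i j : ℕ} (hi : i < 8) (hj : j < 8) :
    bt (T.mg (Nat.shiftLeft 1 i)) j = bt T.gm (Nat.xor i j) := by
  simp only [okb, Bool.and_eq_true] at h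
  exact Nat.eq_of_beq_eq_true (allN_apply (allN_apply h.2.2.2.2.2 hi) hj)

theorem okn_of {T : Tab} (h : T.okb = true) {n : ℕ} (hn : n < 256) : T.okn n = true := by
  simp only [okb, Bool.and_eq_true] at h
  exact allN_apply h.2.2.2.2.1 hn

theorem mg_lt {T : Tab} (n : ℕ) : T.mg n < 256 := col_lt _ _

theorem mg_mg {T : Tab} (h : T.okb = true) {n : ℕ} (hn : n < 256) : T.mg (T.mg n) = n := by
  have h1 := okn_of h hn
  simp only [okn, Bool.and_eq_true] at h1
  exact Nat.eq_of_beq_eq_true h1.2.1

theorem B_px {T : Tab} (h : T.okb = true) {n : ℕ} (hn : n < 256) {k : ℕ} (hk : k < 8) :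
    T.B n (px k n) = bt T.gm k * par n := by
  have h1 := okn_of h hn
  simp only [okn, Bool.and_eq_true] at h1
  exact Nat.eq_of_beq_eq_true (allN_apply h1.2.2.1 hk)

theorem word_rp {T : Tab} (h : T.okb = true) {n : ℕ} (hn : n < 256) {k : ℕ} (hk : k < 8) :
    bt (word T.rp k) n = bt (T.mg n) k := by
  have h1 := okn_of h hn
  simp only [okn, Bool.and_eq_true] at h1
  exact Nat.eq_of_beq_eq_true (allN_apply h1.2.2.2.1 hk)

theorem q_step {T : Tab} (h : T.okb = true) {n : ℕ} (hn : n < 256) {k : ℕ} (hk : k < 8) :
    bt T.q (Nat.xor n (Nat.shiftLeft 1 k)) = Nat.land (Nat.add (bt T.q n) (bt (T.mg n) k)) 1 := by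
  have h1 := okn_of h hn
  simp only [okn, Bool.and_eq_true] at h1
  exact Nat.eq_of_beq_eq_true (allN_apply h1.2.2.2.2.1 hk)

theorem par_mg {T : Tab} (h : T.okb = true) {n : ℕ} (hn : n < 256) {k : ℕ} (hk : k < 8) :
    par (Nat.land n (T.mg (Nat.shiftLeft 1 k))) = bt (T.mg n) k := by
  have h1 := okn_of h hn
  simp only [okn, Bool.and_eq_true] at h1
  exact Nat.eq_of_beq_eq_true (allN_apply h1.2.2.2.2.2.1 hk)

theorem l0_spec {T : Tab} (h : T.okb = true) {n : ℕ} (hn : n < 256) :
    bt T.l0 n = Nat.mul (Nat.land (Nat.add (bt T.q n) 1) 1) (Nat.mul (T.B n 1)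
      (Nat.land (Nat.add (par n) 1) 1)) := by
  have h1 := okn_of h hn
  simp only [okn, Bool.and_eq_true] at h1
  exact Nat.eq_of_beq_eq_true h1.2.2.2.2.2.2.1

theorem l1_spec {T : Tab} (h : T.okb = true) {n : ℕ} (hn : n < 256) :
    bt T.l1 n = Nat.mul (Nat.land (Nat.add (bt T.q n) 1) 1) (Nat.mul (T.B n 1) (par n)) := by
  have h1 := okn_of h hn
  simp only [okn, Bool.and_eq_true] at h1
  exact Nat.eq_of_beq_eq_true h1.2.2.2.2.2.2.2

end Tab

namespace PLab

variable {p r : V} {f : ℕ → (V ≃ₗ[ZMod 2] V)}

/-- `f_j` on vectors of codes -/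
theorem f_vec (L : PLab q b H a X p r f) {j : ℕ} (hj : j < 8) {n : ℕ} (hn : n < 256) (w : V) :
    f j (vec (fun k => f k w) n) = vec (fun k => f k w) (px j n) := by
  rw [map_vec, ← vec_px _ hj hn]
  refine vec_congr (fun k hk => ?_) n
  show f j (f k w) = f (Nat.xor j k) w
  rw [L.mul j hj k hk]; rfl

theorem mem_H (L : PLab q b H a X p r f) {k : ℕ} (hk : k < 8) : f k ∈ H := XX_le_H L.fam (L.mem k hk)

theorem vec_full (L : PLab q b H a X p r f) : vec (fun k => f k r) 255 = p := L.norm r L.bpr

theorem f_zero (L : PLab q b H a X p r f) : f 0 = 1 := by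
  have h := L.mul 0 (by norm_num) 0 (by norm_num)
  have e : f 0 = f 0 * f 0 := h
  exact (mul_eq_left.1 e.symm)

theorem e_zero (L : PLab q b H a X p r f) : f 0 r = r := by rw [L.f_zero]; rfl

theorem conv_vec (L : PLab q b H a X p r f) (s : ℕ) {n : ℕ} (hn : n < 256) (w : V) :
    vec (fun j => f j (vec (fun k => f k w) n)) s = vec (fun k => f k w) (conv s n) := by
  have h1 : ∀ j, j < 8 → f j (vec (fun k => f k w) n) = vec (fun k => f k w) (px j n) :=
    fun j hj => L.f_vec hj hn w
  rw [vec_congr h1, conv]
  simp only [vec_xor, vec_mul]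
  rfl

theorem vec_ne (L : PLab q b H a X p r f) (hp0 : p ≠ 0) {n : ℕ} (hn : n < 256) (h0 : n ≠ 0) :
    vec (fun k => f k r) n ≠ 0 := by
  intro h
  apply hp0
  have h1 := L.conv_vec (col convT n) hn r
  rw [conv_spec n hn h0, L.vec_full, h] at h1
  rw [← h1]
  have : ∀ k, k < 8 → (fun j => f j (0 : V)) k = (fun _ => (0 : V)) k := fun k _ => map_zero _
  rw [vec_congr this]
  simp [vec]

theorem p_ne (L : PLab q b H a X p r f) : p ≠ 0 := by
  intro h
  have := L.bpr
  rw [h, map_zero, LinearMap.zero_apply] at this
  exact absurd this (by decide)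

theorem vec_inj (L : PLab q b H a X p r f) {n m : ℕ} (hn : n < 256) (hm : m < 256)
    (h : vec (fun k => f k r) n = vec (fun k => f k r) m) : n = m := by
  by_contra hne
  have h1 : Nat.xor n m ≠ 0 := by
    intro h2
    exact hne (Nat.xor_eq_zero_iff.1 h2)
  apply L.vec_ne L.p_ne (xor_lt hn hm) h1
  rw [vec_xor, h, add_self]

theorem vec_surj (L : PLab q b H a X p r f) (v : V) :
    ∃ n, n < 256 ∧ vec (fun k => f k r) n = v := by
  classical
  have hfin : Finite V := Nat.finite_of_card_ne_zero (by rw [L.fam.card]; norm_num)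
  have : Fintype V := Fintype.ofFinite V
  let g : Fin 256 → V := fun n => vec (fun k => f k r) n
  have hg : Function.Injective g := fun n m h => Fin.ext (L.vec_inj n.2 m.2 h)
  have hb : Function.Bijective g := by
    rw [Fintype.bijective_iff_injective_and_card]
    refine ⟨hg, ?_⟩
    rw [Fintype.card_fin, ← Nat.card_eq_fintype_card, L.fam.card]
  obtain ⟨n, hn⟩ := hb.2 v
  exact ⟨n, n.2, hn⟩

end PLab

namespace Lab

variable {T : Tab} {p r : V} {f : ℕ → (V ≃ₗ[ZMod 2] V)}

theorem b_basis (L : Lab q b H a X T p r f) {i j : ℕ} (hi : i < 8) (hj : j < 8) :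
    b (f i r) (f j r) = (bt T.gm (Nat.xor i j) : ℕ) := by
  have h1 : Nat.xor i j < 8 := Nat.xor_lt_two_pow (n := 3) hi hj
  rw [← L.gram _ h1, L.mul i hi j hj]
  show _ = b r (f i (f j r))
  have h2 : f i (f i r) = r := by
    have h3 := L.mul i hi i hi
    have h4 : Nat.xor i i = 0 := Nat.xor_self i
    rw [h4, L.f_zero] at h3
    show (f i * f i) r = r
    rw [← h3]; rfl
  rw [← L.fam.b_H (L.mem_H hi) (f i r), h2]

theorem b_e_vec (L : Lab q b H a X T p r f) {i : ℕ} (hi : i < 8) {n : ℕ} (hn : n < 256) :
    b (f i r) (vec (fun k => f k r) n) = (bt (T.mg n) i : ℕ) := by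
  rw [map_vec, ← Tab.par_mg L.ok hn hi, par_land hn]
  refine vec_congr (fun k hk => ?_) n
  show b (f i r) (f k r) = _
  rw [L.b_basis hi hk, Tab.ok_basis L.ok hi hk]

theorem b_vec (L : Lab q b H a X T p r f) {n m : ℕ} (hn : n < 256) (hm : m < 256) :
    b (vec (fun k => f k r) n) (vec (fun k => f k r) m) = (T.B n m : ℕ) := by
  rw [L.fam.b_comm, map_vec, Tab.B, par_land hn]
  refine vec_congr (fun k hk => ?_) n
  show b (vec (fun k => f k r) m) (f k r) = _
  rw [L.fam.b_comm, L.b_e_vec hk hm]

theorem q_vec (L : Lab q b H a X T p r f) : ∀ n, n < 256 →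
    q (vec (fun k => f k r) n) = (bt T.q n : ℕ) := by
  apply code_induction
  · rw [vec_zero, L.fam.q_zero, Tab.ok_q0 L.ok]; rfl
  · intro n hn i hi ih
    rw [vec_xor, vec_two_pow _ hi, L.fam.q_add, ih, L.fam.b_comm, L.b_e_vec hi hn,
      Tab.q_step L.ok hn hi, q_Orb L.fam (Orb_map L.hr (L.mem_H hi)), add_zero]
    rcases bt_cases T.q n with h | h <;> rcases bt_cases (T.mg n) i with h' | h' <;> rw [h, h'] <;> rfl

theorem b_p_vec (L : Lab q b H a X T p r f) {n : ℕ} (hn : n < 256) :
    b p (vec (fun k => f k r) n) = (par n : ℕ) := by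
  have h := L.b_vec hn (m := 255) (by norm_num)
  rw [L.vec_full, Tab.B, Tab.ok_full L.ok] at h
  rw [L.fam.b_comm, h]
  have : Nat.land n 255 = n := by
    have h1 : n &&& 255 = n % 2 ^ 8 := Nat.and_two_pow_sub_one_eq_mod n 8
    show n &&& 255 = n
    rw [h1]; exact Nat.mod_eq_of_lt hn
  rw [this]

/-- `vec 1 = r` -/
theorem vec_one (L : Lab q b H a X T p r f) : vec (fun k => f k r) 1 = r := by
  have h := vec_two_pow (fun k => f k r) (i := 0) (by norm_num)
  exact h.trans L.e_zero

/-- the numbering transported by an element of `H` -/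
theorem conj (L : Lab q b H a X T p r f) {p' : V} (hp' : p' ∈ Orb H a) {r' : V} (hr' : r' ∈ Orb H a)
    (hb : b p' r' = 1) : ∃ f', Lab q b H a X T p' r' f' := by
  obtain ⟨h, hh, rfl⟩ := Orb_trans L.hp hp'
  refine ⟨fun k => h * f k * h⁻¹, ?_⟩
  have hinv : ∀ v w, b (h v) w = b v (h⁻¹ w) := by
    intro v w
    rw [← L.fam.b_H hh v (h⁻¹ w), apply_inv]
  have hb1 : b p (h⁻¹ r') = 1 := by rw [← hinv]; exact hb
  refine { fam := L.fam, hp := hp', hr := hr', bpr := hb, mem := ?_, surj := ?_, mul := ?_,
           norm := ?_, ok := L.ok, gram := ?_ }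
  · intro k hk
    exact XX_conj hh (L.mem k hk)
  · intro x hx
    have h1 := XX_conj (H.inv_mem hh) hx
    rw [inv_apply] at h1
    obtain ⟨k, hk, he⟩ := L.surj _ h1
    refine ⟨k, hk, ?_⟩
    show x = h * f k * h⁻¹
    rw [← he]; group
  · intro j hj k hk
    show h * f (Nat.xor j k) * h⁻¹ = h * f j * h⁻¹ * (h * f k * h⁻¹)
    rw [L.mul j hj k hk]; group
  · intro v hv
    rw [hinv] at hv
    have h1 := L.norm _ hv
    have h2 : vec (fun k => (h * f k * h⁻¹) v) 255 = h (vec (fun k => f k (h⁻¹ v)) 255) := by
      rw [map_vec]; rfl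
    rw [h2, h1]
  · intro k hk
    obtain ⟨n, hn, hv⟩ := L.vec_surj (h⁻¹ r')
    have h1 : b r' ((h * f k * h⁻¹) r') = b (h⁻¹ r') (f k (h⁻¹ r')) := by
      rw [← L.fam.b_H hh (h⁻¹ r'), apply_inv]; rfl
    have h2 : (par n : ZMod 2) = 1 := by
      rw [← L.b_p_vec hn, hv]; exact hb1
    have h3 : par n = 1 := by
      rcases par_cases n with h4 | h4
      · rw [h4] at h2; exact absurd h2 (by decide)
      · exact h4
    rw [h1, ← hv, L.f_vec hk hn, L.b_vec hn (px_lt hk hn), Tab.B_px L.ok hn hk, h3, mul_one]

/-! ### change of frames -/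

variable {p' r' : V} {f' : ℕ → (V ≃ₗ[ZMod 2] V)} {M : ℕ}

theorem nat_of_zmod {x y : ℕ} (hx : x = 0 ∨ x = 1) (hy : y = 0 ∨ y = 1) (h : (x : ZMod 2) = y) :
    x = y := by
  rcases hx with rfl | rfl <;> rcases hy with rfl | rfl
  · rfl
  · exact absurd h (by decide)
  · exact absurd h (by decide)
  · rfl

theorem bits_sum : ∀ n, n < 256 → Nat.add (bt n 0) (Nat.add (Nat.mul 2 (bt n 1))
    (Nat.add (Nat.mul 4 (bt n 2)) (Nat.add (Nat.mul 8 (bt n 3)) (Nat.add (Nat.mul 16 (bt n 4))
    (Nat.add (Nat.mul 32 (bt n 5)) (Nat.add (Nat.mul 64 (bt n 6)) (Nat.mul 128 (bt n 7)))))))) = n := by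
  have h : (allN 256 fun n => Nat.beq (Nat.add (bt n 0) (Nat.add (Nat.mul 2 (bt n 1))
    (Nat.add (Nat.mul 4 (bt n 2)) (Nat.add (Nat.mul 8 (bt n 3)) (Nat.add (Nat.mul 16 (bt n 4))
    (Nat.add (Nat.mul 32 (bt n 5)) (Nat.add (Nat.mul 64 (bt n 6)) (Nat.mul 128 (bt n 7))))))))) n)
      = true := by decide +kernel
  intro n hn
  exact Nat.eq_of_beq_eq_true (allN_apply h hn)

/-- coordinates in the second frame -/
theorem crd_spec (L : Lab q b H a X T p r f) (L' : Lab q b H a X T p' r' f')
    (hM : ∀ k, k < 8 → f' k r' = vec (fun k => f k r) (col M k)) {t : ℕ} (ht : t < 256) :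
    vec (fun k => f' k r') (T.crd M t) = vec (fun k => f k r) t := by
  obtain ⟨s, hs, hv⟩ := L'.vec_surj (vec (fun k => f k r) t)
  have key : ∀ k, k < 8 → T.B t (col M k) = bt (T.mg s) k := by
    intro k hk
    have h1 : (T.B t (col M k) : ZMod 2) = (bt (T.mg s) k : ℕ) := by
      rw [← L.b_vec ht (col_lt _ _), ← hM k hk, ← hv, L.fam.b_comm, L'.b_e_vec hk hs]
    exact nat_of_zmod (par_cases _) (bt_cases _ _) h1
  have h2 : T.crd M t = s := by
    rw [Tab.crd, key 0 (by norm_num), key 1 (by norm_num), key 2 (by norm_num), key 3 (by norm_num),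
      key 4 (by norm_num), key 5 (by norm_num), key 6 (by norm_num), key 7 (by norm_num),
      bits_sum _ (Tab.mg_lt _), Tab.mg_mg L.ok hs]
  rw [h2, hv]

theorem crd_lt (T : Tab) (M t : ℕ) : T.crd M t < 256 := Tab.mg_lt _

theorem lin_spec (hM : ∀ k, k < 8 → f' k r' = vec (fun k => f k r) (col M k)) (n : ℕ) :
    vec (fun k => f' k r') n = vec (fun k => f k r) (lin M n) := by
  rw [vec_lin]
  exact vec_congr hM n

theorem act_spec (L : Lab q b H a X T p r f) (L' : Lab q b H a X T p' r' f')
    (hM : ∀ k, k < 8 → f' k r' = vec (fun k => f k r) (col M k)) {j : ℕ} (hj : j < 8) {t : ℕ}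
    (ht : t < 256) : f' j (vec (fun k => f k r) t) = vec (fun k => f k r) (T.act M j t) := by
  rw [← L.crd_spec L' hM ht, L'.f_vec hj (crd_lt _ _ _), lin_spec hM, Tab.act]

theorem act_lt (T : Tab) (M j t : ℕ) : T.act M j t < 256 := lin_lt _ _

theorem exists_code (L : Lab q b H a X T p r f) (v : V) :
    ∃ n, n < 256 ∧ vec (fun k => f k r) n = v := L.vec_surj v

end Lab

end

end Cfsg.Agent.LargeExtra.Enum9
end

-- part: LargeExtra/Enum9/Sound
section
/-!
# S1763, case II, type (B): soundness of the level 1 checker (helper268)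
-/

set_option autoImplicit false

namespace Cfsg.Agent.LargeExtra.Enum9

variable {V : Type*} [AddCommGroup V] [Module (ZMod 2) V]
variable {q : V → ZMod 2} {b : LinearMap.BilinForm (ZMod 2) V}
  {H : Subgroup (V ≃ₗ[ZMod 2] V)} {a : V} {X : Subgroup (V ≃ₗ[ZMod 2] V)}

/-- the orbits of `X_{p₂}` detect a clash -/
theorem clash {p1 r1 p2 r2 : V} {f1 f2 : ℕ → (V ≃ₗ[ZMod 2] V)} (L1 : PLab q b H a X p1 r1 f1)
    (L2 : PLab q b H a X p2 r2 f2) {U : V ≃ₗ[ZMod 2] V} (hU : U ∈ H) (hp : U p1 = p2) {k : ℕ}
    (hk : k < 8) {v : V} {n1 n2 : ℕ} (hn1 : n1 < 256) (hn2 : n2 < 256)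
    (h1 : U v = vec (fun k => f2 k r2) n1) (h2 : U (f1 k v) = vec (fun k => f2 k r2) n2) :
    orb n1 = orb n2 := by
  have h3 := XX_conj hU (L1.mem k hk)
  rw [hp] at h3
  obtain ⟨l, hl, he⟩ := L2.surj _ h3
  have h4 : U (f1 k v) = f2 l (U v) := by
    rw [← he]
    show U (f1 k v) = U (f1 k (U⁻¹ (U v)))
    rw [inv_apply]
  rw [h1, h2, L2.f_vec hl hn1] at h4
  have h5 := L2.vec_inj hn2 (px_lt hl hn1) h4
  rw [h5, orb_spec n1 hn1 l hl]

section words

variable {T : Tab} {p r : V} {x y : ℕ → (V ≃ₗ[ZMod 2] V)} {M : ℕ}

theorem lt_spec (L : Lab q b H a X T p r x) (L' : Lab q b H a X T r p y)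
    (hM : ∀ k, k < 8 → y k p = vec (fun k => x k r) (col M k)) {l : ℕ} (hl : l < 16) :
    ∃ U ∈ H, ∀ t, t < 256 → U (vec (fun k => x k r) t) = vec (fun k => x k r) (T.lt M l t) ∧
      T.lt M l t < 256 := by
  by_cases h8 : l < 8
  · refine ⟨x l, L.mem_H h8, fun t ht => ?_⟩
    have e : T.lt M l t = px l t := by
      rw [Tab.lt, show Nat.blt l 8 = true by rw [Nat.blt_eq]; exact h8]; rfl
    rw [e]
    exact ⟨L.f_vec h8 ht r, px_lt h8 ht⟩
  · have h8' : Nat.sub l 8 < 8 := by
      show l - 8 < 8
      omega
    refine ⟨y (Nat.sub l 8), L'.mem_H h8', fun t ht => ?_⟩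
    have e : T.lt M l t = T.act M (Nat.sub l 8) t := by
      have : Nat.blt l 8 = false := by
        rw [Bool.eq_false_iff]; intro h; rw [Nat.blt_eq] at h; exact h8 h
      rw [Tab.lt, this]; rfl
    rw [e]
    exact ⟨L.act_spec L' hM h8' ht, Lab.act_lt _ _ _ _⟩

theorem evw_spec (L : Lab q b H a X T p r x) (L' : Lab q b H a X T r p y)
    (hM : ∀ k, k < 8 → y k p = vec (fun k => x k r) (col M k)) (f : ℕ) : ∀ w : ℕ,
    ∃ U ∈ H, ∀ t, t < 256 → U (vec (fun k => x k r) t) = vec (fun k => x k r) (T.evw M f w t) ∧
      T.evw M f w t < 256 := by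
  induction f with
  | zero => exact fun w => ⟨1, H.one_mem, fun t ht => ⟨rfl, ht⟩⟩
  | succ f ih =>
    intro w
    by_cases hw : Nat.beq w 0 = true
    · refine ⟨1, H.one_mem, fun t ht => ?_⟩
      have e : T.evw M (f + 1) w t = t := by
        show (bif Nat.beq w 0 then t else _) = t
        rw [hw]; rfl
      rw [e]; exact ⟨rfl, ht⟩
    · have hw' : Nat.beq w 0 = false := Bool.eq_false_iff.2 hw
      obtain ⟨U1, hU1, h1⟩ := lt_spec L L' hM (l := Nat.land w 15)
        (lt_of_le_of_lt (Nat.and_le_right (n := w) (m := 15)) (by norm_num))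
      obtain ⟨U2, hU2, h2⟩ := ih (Nat.shiftRight w 4)
      refine ⟨U2 * U1, H.mul_mem hU2 hU1, fun t ht => ?_⟩
      have e : T.evw M (f + 1) w t = T.evw M f (Nat.shiftRight w 4) (T.lt M (Nat.land w 15) t) := by
        show (bif Nat.beq w 0 then t else fc (T.lt M (Nat.land w 15) t) fun s =>
          T.evw M f (Nat.shiftRight w 4) s) = _
        rw [hw', fc_eq]; rfl
      obtain ⟨k1, k2⟩ := h1 t ht
      obtain ⟨k3, k4⟩ := h2 _ k2
      rw [e]
      refine ⟨?_, k4⟩
      show U2 (U1 _) = _
      rw [k1, k3]

theorem conf_false (L : Lab q b H a X T p r x) (L' : Lab q b H a X T r p y)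
    (hM : ∀ k, k < 8 → y k p = vec (fun k => x k r) (col M k)) {W : ℕ} (h : T.conf M W = true) :
    False := by
  rw [Tab.conf] at h
  simp only [fc_eq] at h
  have ht : Nat.land W 255 < 256 :=
    lt_of_le_of_lt (Nat.and_le_right (n := W) (m := 255)) (by norm_num)
  have hk : Nat.land (Nat.shiftRight W 8) 7 < 8 :=
    lt_of_le_of_lt (Nat.and_le_right (n := Nat.shiftRight W 8) (m := 7)) (by norm_num)
  revert h ht hk
  generalize Nat.land W 255 = t, Nat.land (Nat.shiftRight W 8) 7 = k, bt W 11 = p0, bt W 12 = p1,
    Nat.shiftRight W 13 = w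
  intro h ht hk
  rw [Bool.and_eq_true] at h
  obtain ⟨h1, h2⟩ := h
  have h1 := Nat.eq_of_beq_eq_true h1
  obtain ⟨U, hU, hw⟩ := evw_spec L L' hM 4 w
  have hpt : ∀ c : ℕ, ∃ p1 r1 f1, PLab q b H a X p1 r1 f1 ∧
      vec (fun k => x k r) (bif Nat.beq c 0 then 255 else 1) = p1 ∧
      (bif Nat.beq c 0 then 255 else 1) < 256 ∧
      (∀ k, k < 8 → ∀ t, t < 256 → f1 k (vec (fun k => x k r) t) =
        vec (fun k => x k r) (bif Nat.beq c 0 then px k t else T.act M k t) ∧
        (bif Nat.beq c 0 then px k t else T.act M k t) < 256) ∧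
      (∀ t, t < 256 → vec (fun k => f1 k r1) (bif Nat.beq c 0 then t else T.crd M t) =
        vec (fun k => x k r) t ∧ (bif Nat.beq c 0 then t else T.crd M t) < 256) := by
    intro c
    cases Nat.beq c 0
    · exact ⟨r, p, y, L'.toPLab, L.vec_one, by decide, fun k hk t ht =>
        ⟨L.act_spec L' hM hk ht, Lab.act_lt _ _ _ _⟩, fun t ht => ⟨L.crd_spec L' hM ht,
        Lab.crd_lt _ _ _⟩⟩
    · exact ⟨p, r, x, L.toPLab, L.vec_full, by decide, fun k hk t ht =>
        ⟨L.f_vec hk ht r, px_lt hk ht⟩, fun t ht => ⟨rfl, ht⟩⟩
  obtain ⟨P, R, f1, L1, hP, hlt, ha, -⟩ := hpt p0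
  obtain ⟨P', R', f2, L2, hP', hlt', -, hc⟩ := hpt p1
  have hUP : U P = P' := by
    rw [← hP, (hw _ hlt).1, h1, hP']
  obtain ⟨a1, a2⟩ := ha k hk t ht
  obtain ⟨b1, b2⟩ := hw t ht
  obtain ⟨c1, c2⟩ := hw _ a2
  obtain ⟨d1, d2⟩ := hc _ b2
  obtain ⟨e1, e2⟩ := hc _ c2
  have h3 := clash L1 L2 hU hUP hk (v := vec (fun k => x k r) t) d2 e2 (by rw [b1, d1])
    (by rw [a1, c1, e1])
  rw [h3] at h2
  revert h2
  generalize orb _ = s
  intro h2
  rw [Nat.beq_refl] at h2
  exact absurd h2 (by decide)

end words

/-! ### masks and nested certificates -/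

theorem bt_shiftLeft_one {n h : ℕ} (hne : n ≠ h) : bt (Nat.shiftLeft 1 h) n = 0 := by
  rw [bt_eq]
  show ((1 <<< h).testBit n).toNat = 0
  rw [Nat.one_shiftLeft, Nat.testBit_two_pow_of_ne (Ne.symm hne)]; rfl

theorem zipF_spec {α : Type} (f : ℕ → α → Bool) : ∀ (as : List (ℕ × α)) (mask : ℕ),
    zipF f mask as = true → ∀ n, bt mask n = 1 → ∃ c, (n, c) ∈ as ∧ f n c = true := by
  intro as
  induction as with
  | nil =>
    intro mask h n hn
    have : mask = 0 := Nat.eq_of_beq_eq_true h
    rw [this, bt_eq] at hn
    simp at hn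
  | cons x as ih =>
    obtain ⟨h0, c⟩ := x
    intro mask h n hn
    have h' : (Nat.beq (bt mask h0) 1 && (f h0 c &&
      fc (Nat.xor mask (Nat.shiftLeft 1 h0)) fun m => zipF f m as)) = true := h
    rw [Bool.and_eq_true, Bool.and_eq_true, fc_eq] at h'
    by_cases hne : n = h0
    · subst hne
      exact ⟨c, List.mem_cons_self, h'.2.1⟩
    · have h2 : bt (Nat.xor mask (Nat.shiftLeft 1 h0)) n = 1 := by
        rw [bt_xor, bt_shiftLeft_one hne, hn]
      obtain ⟨c', h3, h4⟩ := ih _ h'.2.2 n h2
      exact ⟨c', List.mem_cons_of_mem _ h3, h4⟩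

theorem bt_row (R m n : ℕ) : bt (row R m) n = (bt m 0 * bt (word R 0) n + bt m 1 * bt (word R 1) n +
    bt m 2 * bt (word R 2) n + bt m 3 * bt (word R 3) n + bt m 4 * bt (word R 4) n +
    bt m 5 * bt (word R 5) n + bt m 6 * bt (word R 6) n + bt m 7 * bt (word R 7) n) % 2 := by
  rw [row]
  simp only [bt_xor, bt_mul_bt]
  omega

theorem bt_row_eq {T : Tab} (h : T.okb = true) {m n : ℕ} (hm : m < 256) (hn : n < 256) :
    bt (row T.rp m) n = T.B m n := by
  rw [bt_row, Tab.word_rp h hn (by norm_num), Tab.word_rp h hn (by norm_num),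
    Tab.word_rp h hn (by norm_num), Tab.word_rp h hn (by norm_num), Tab.word_rp h hn (by norm_num),
    Tab.word_rp h hn (by norm_num), Tab.word_rp h hn (by norm_num), Tab.word_rp h hn (by norm_num),
    Tab.B, par_spec _ (land_lt hm)]
  simp only [bt_land]

theorem bt_ones {n : ℕ} (hn : n < 256) :
    bt 0xffffffffffffffffffffffffffffffffffffffffffffffffffffffffffffffff n = 1 := by
  rw [bt_eq, show (0xffffffffffffffffffffffffffffffffffffffffffffffffffffffffffffffff : ℕ) =
    2 ^ 256 - 1 by norm_num, Nat.testBit_two_pow_sub_one]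
  simp [hn]

theorem bt_msk {T : Tab} (h : T.okb = true) {d m n : ℕ} (hm : m < 256) (hn : n < 256)
    (hB : T.B m n = bt T.gm d) : bt (T.msk d m) n = 1 := by
  rw [Tab.msk, bt_xor, bt_row_eq h hm hn, hB]
  rcases bt_cases T.gm d with h1 | h1 <;> rw [h1]
  · have : Nat.mul (Nat.sub 1 0) 0xffffffffffffffffffffffffffffffffffffffffffffffffffffffffffffffff =
      0xffffffffffffffffffffffffffffffffffffffffffffffffffffffffffffffff := by decide
    rw [this, bt_ones hn]
  · have : Nat.mul (Nat.sub 1 1) 0xffffffffffffffffffffffffffffffffffffffffffffffffffffffffffffffff =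
      0 := by decide
    rw [this, bt_eq 0]; simp

theorem bt_base {T : Tab} (h : T.okb = true) {k n : ℕ} (hn : n < 256) (hq : bt T.q n = 0)
    (hb : T.B n 1 = 1) (hp : par n = bt T.gm k) : bt (T.base k) n = 1 := by
  rw [Tab.base]
  rcases bt_cases T.gm k with h1 | h1
  · rw [h1] at hp
    rw [h1, show Nat.beq 0 0 = true from rfl, cond_true, Tab.l0_spec h hn, hq, hb, hp]
    rfl
  · rw [h1] at hp
    rw [h1, show Nat.beq 1 0 = false from rfl, cond_false, Tab.l1_spec h hn, hq, hb, hp]
    rfl

theorem bt_clr {mask l n : ℕ} (hl : l ≤ n) (h : bt mask n = 1) : bt (clr mask l) n = 1 := by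
  rw [clr, bt_eq]
  rw [bt_eq] at h
  show ((mask >>> l <<< l).testBit n).toNat = 1
  rw [Nat.testBit_shiftLeft, Nat.testBit_shiftRight, Nat.add_sub_cancel' hl]
  have : decide (n ≥ l) = true := decide_eq_true hl
  rw [this, Bool.true_and]
  exact h

end Cfsg.Agent.LargeExtra.Enum9
end

-- part: LargeExtra/Enum9/Relabel
section
/-!
# S1763, case II, type (B): renumbering of `X_p` (helper268)
-/

set_option autoImplicit false

namespace Cfsg.Agent.LargeExtra.Enum9

variable {V : Type*} [AddCommGroup V] [Module (ZMod 2) V]
variable {q : V → ZMod 2} {b : LinearMap.BilinForm (ZMod 2) V}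
  {H : Subgroup (V ≃ₗ[ZMod 2] V)} {a : V} {X : Subgroup (V ≃ₗ[ZMod 2] V)}

/-- the linear map with images `β.1`, `β.2.1`, `β.2.2` of `1`, `2`, `4` -/
def bl (β : ℕ × ℕ × ℕ) (k : ℕ) : ℕ :=
  Nat.xor (Nat.mul (bt k 0) β.1) (Nat.xor (Nat.mul (bt k 1) β.2.1) (Nat.mul (bt k 2) β.2.2))

/-- `bl β` is a linear bijection of the numbers below 8 -/
def blOk (β : ℕ × ℕ × ℕ) : Bool :=
  (allN 8 fun k => Nat.blt (bl β k) 8) &&
  ((allN 8 fun j => allN 8 fun k => Nat.beq (bl β (Nat.xor j k)) (Nat.xor (bl β j) (bl β k))) &&
  (allN 8 fun k => !(allN 8 fun j => !(Nat.beq (bl β j) k))))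

/-- the composition `bl (comp β γ) = bl β ∘ bl γ` -/
def comp (β γ : ℕ × ℕ × ℕ) : ℕ × ℕ × ℕ := (bl β γ.1, bl β γ.2.1, bl β γ.2.2)

theorem blOk_lt {β : ℕ × ℕ × ℕ} (h : blOk β = true) {k : ℕ} (hk : k < 8) : bl β k < 8 := by
  rw [blOk, Bool.and_eq_true] at h
  have := allN_apply h.1 hk
  rwa [Nat.blt_eq] at this

theorem blOk_add {β : ℕ × ℕ × ℕ} (h : blOk β = true) {j k : ℕ} (hj : j < 8) (hk : k < 8) :
    bl β (Nat.xor j k) = Nat.xor (bl β j) (bl β k) := by
  rw [blOk, Bool.and_eq_true, Bool.and_eq_true] at h
  exact Nat.eq_of_beq_eq_true (allN_apply (allN_apply h.2.1 hj) hk)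

theorem blOk_surj {β : ℕ × ℕ × ℕ} (h : blOk β = true) {k : ℕ} (hk : k < 8) :
    ∃ j, j < 8 ∧ bl β j = k := by
  rw [blOk, Bool.and_eq_true, Bool.and_eq_true] at h
  have h1 := allN_apply h.2.2 hk
  by_contra hcon
  push Not at hcon
  have h2 : (allN 8 fun j => !(Nat.beq (bl β j) k)) = true := by
    rw [allN_iff]
    intro j hj
    rw [Bool.not_eq_true', Bool.eq_false_iff]
    intro h3
    exact hcon j hj (Nat.eq_of_beq_eq_true h3)
  rw [h2] at h1
  exact absurd h1 (by decide)

theorem blOk_inj {β : ℕ × ℕ × ℕ} (h : blOk β = true) {j k : ℕ} (hj : j < 8) (hk : k < 8)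
    (he : bl β j = bl β k) : j = k := by
  classical
  have hs : Function.Surjective (fun i : Fin 8 => (⟨bl β i, blOk_lt h i.2⟩ : Fin 8)) := by
    intro i
    obtain ⟨l, hl, h1⟩ := blOk_surj h i.2
    exact ⟨⟨l, hl⟩, Fin.ext h1⟩
  have hi := Finite.injective_iff_surjective.2 hs
  have := @hi ⟨j, hj⟩ ⟨k, hk⟩ (Fin.ext he)
  exact congrArg Fin.val this

omit [Module (ZMod 2) V] in
theorem vec_full_sum (g : ℕ → V) : vec g 255 = ∑ k ∈ Finset.range 8, g k := by
  simp only [Finset.sum_range_succ, Finset.sum_range_zero, zero_add]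
  have h : ∀ i, i < 8 → bt 255 i = 1 := by decide
  simp only [vec, h 0 (by norm_num), h 1 (by norm_num), h 2 (by norm_num), h 3 (by norm_num),
    h 4 (by norm_num), h 5 (by norm_num), h 6 (by norm_num), h 7 (by norm_num), one_smul]
  abel

omit [Module (ZMod 2) V] in
theorem vec_full_bl {β : ℕ × ℕ × ℕ} (h : blOk β = true) (g : ℕ → V) :
    vec (fun k => g (bl β k)) 255 = vec g 255 := by
  rw [vec_full_sum, vec_full_sum]
  refine Finset.sum_nbij (bl β) ?_ ?_ ?_ ?_
  · intro k hk
    exact Finset.mem_range.2 (blOk_lt h (Finset.mem_range.1 hk))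
  · intro j hj k hk he
    exact blOk_inj h (Finset.mem_range.1 hj) (Finset.mem_range.1 hk) he
  · intro k hk
    obtain ⟨j, hj, he⟩ := blOk_surj h (Finset.mem_range.1 hk)
    exact ⟨j, Finset.mem_coe.2 (Finset.mem_range.2 hj), he⟩
  · intro k _; rfl

namespace PLab

variable {p r : V} {f : ℕ → (V ≃ₗ[ZMod 2] V)}

theorem relabel (L : PLab q b H a X p r f) {β : ℕ × ℕ × ℕ} (h : blOk β = true) :
    PLab q b H a X p r (fun k => f (bl β k)) where
  fam := L.fam
  hp := L.hp
  hr := L.hr
  bpr := L.bpr
  mem k hk := L.mem _ (blOk_lt h hk)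
  surj x hx := by
    obtain ⟨k, hk, he⟩ := L.surj x hx
    obtain ⟨j, hj, he'⟩ := blOk_surj h hk
    exact ⟨j, hj, by rw [he, he']⟩
  mul j hj k hk := by
    rw [blOk_add h hj hk, L.mul _ (blOk_lt h hj) _ (blOk_lt h hk)]
  norm v hv := by
    rw [vec_full_bl h (fun k => f k v)]
    exact L.norm v hv

/-- all linear bijections -/
def allBl : List (ℕ × ℕ × ℕ) :=
  ((List.range 8).flatMap fun i => (List.range 8).flatMap fun j => (List.range 8).map fun k =>
    (i, j, k)).filter fun β => blOk β

/-- the type of the Gram matrix -/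
theorem types : ∀ G, G < 256 → bt G 0 = 0 → par G = 1 →
    ∃ T ∈ [T0, T1, T2, T3, T4], ∃ β ∈ allBl, ∀ k, k < 8 → bt G (bl β k) = bt T.gm k := by
  have h : (allN 256 fun G => !(Nat.beq (bt G 0) 0) || (!(Nat.beq (par G) 1) ||
      [T0, T1, T2, T3, T4].any fun T => allBl.any fun β => allN 8 fun k =>
        Nat.beq (bt G (bl β k)) (bt T.gm k))) = true := by decide +kernel
  intro G hG h0 h1
  have h2 := allN_apply h hG
  rw [h0, h1, show Nat.beq 0 0 = true from rfl, show Nat.beq 1 1 = true from rfl, Bool.not_true,
    Bool.false_or, Bool.false_or, List.any_eq_true] at h2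
  obtain ⟨T, hT, h2⟩ := h2
  rw [List.any_eq_true] at h2
  obtain ⟨β, hβ, h2⟩ := h2
  exact ⟨T, hT, β, hβ, fun k hk => Nat.eq_of_beq_eq_true (allN_apply h2 hk)⟩

theorem ok_types {T : Tab} (hT : T ∈ [T0, T1, T2, T3, T4]) : T.okb = true := by
  simp only [List.mem_cons, List.not_mem_nil, or_false] at hT
  rcases hT with rfl | rfl | rfl | rfl | rfl
  · exact ok0
  · exact ok1
  · exact ok2
  · exact ok3
  · exact ok4

theorem mask_aux {g0 g1 g2 g3 g4 g5 g6 g7 : ℕ} (h0 : g0 < 2) (h1 : g1 < 2) (h2 : g2 < 2) (h3 : g3 < 2)
    (h4 : g4 < 2) (h5 : g5 < 2) (h6 : g6 < 2) (h7 : g7 < 2) {G : ℕ}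
    (hG : G = g0 + 2 * g1 + 4 * g2 + 8 * g3 + 16 * g4 + 32 * g5 + 64 * g6 + 128 * g7) :
    G < 256 ∧ G / 1 % 2 = g0 ∧ G / 2 % 2 = g1 ∧ G / 4 % 2 = g2 ∧ G / 8 % 2 = g3 ∧ G / 16 % 2 = g4 ∧
    G / 32 % 2 = g5 ∧ G / 64 % 2 = g6 ∧ G / 128 % 2 = g7 := by
  omega

theorem exists_mask (g : ℕ → ℕ) (hg : ∀ k, g k < 2) :
    ∃ G, G < 256 ∧ ∀ k, k < 8 → bt G k = g k := by
  obtain ⟨k0, k1, k2, k3, k4, k5, k6, k7, k8⟩ :=
    mask_aux (hg 0) (hg 1) (hg 2) (hg 3) (hg 4) (hg 5) (hg 6) (hg 7) rfl
  refine ⟨_, k0, ?_⟩
  intro k hk
  rw [bt_eq, Nat.toNat_testBit]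
  interval_cases k
  · exact k1
  · exact k2
  · exact k3
  · exact k4
  · exact k5
  · exact k6
  · exact k7
  · exact k8

theorem exists_lab (L : PLab q b H a X p r f) :
    ∃ T ∈ [T0, T1, T2, T3, T4], ∃ f', Lab q b H a X T p r f' := by
  -- the mask of the Gram matrix
  obtain ⟨G, hG, hGk⟩ := exists_mask (fun k => (b r (f k r)).val) (fun k => ZMod.val_lt (b r (f k r)))
  have hgc : ∀ k, k < 8 → ((bt G k : ℕ) : ZMod 2) = b r (f k r) := fun k hk => by
    rw [hGk k hk]
    exact ZMod.natCast_zmod_val _
  have h0 : bt G 0 = 0 := by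
    rw [hGk 0 (by norm_num)]
    show (b r (f 0 r)).val = 0
    rw [L.f_zero]
    show (b r r).val = 0
    rw [L.fam.b_self]; rfl
  have h1 : par G = 1 := by
    have h2 : ((par G : ℕ) : ZMod 2) = 1 := by
      rw [par_eq hG]
      have h3 : b r (vec (fun k => f k r) 255) = 1 := by
        rw [L.vec_full, L.fam.b_comm]; exact L.bpr
      rw [map_vec] at h3
      refine Eq.trans ?_ h3
      rw [vec_zmod, vec_zmod]
      have h : ∀ i, i < 8 → bt 255 i = 1 := by decide
      simp only [hgc 0 (by norm_num), hgc 1 (by norm_num), hgc 2 (by norm_num), hgc 3 (by norm_num),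
        hgc 4 (by norm_num), hgc 5 (by norm_num), hgc 6 (by norm_num), hgc 7 (by norm_num),
        h 0 (by norm_num), h 1 (by norm_num), h 2 (by norm_num), h 3 (by norm_num),
        h 4 (by norm_num), h 5 (by norm_num), h 6 (by norm_num), h 7 (by norm_num)]
      ring
    rcases par_cases G with h4 | h4
    · rw [h4] at h2; exact absurd h2 (by decide)
    · exact h4
  obtain ⟨T, hT, β, hβ, hk⟩ := types G hG h0 h1
  have hβ' : blOk β = true := (List.mem_filter.1 hβ).2
  refine ⟨T, hT, fun k => f (bl β k), { toPLab := L.relabel hβ', ok := ok_types hT, gram := ?_ }⟩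
  intro k hk8
  rw [← hk k hk8]
  exact (hgc _ (blOk_lt hβ' hk8)).symm

end PLab

/-- the first numbering -/
theorem BFam.exists_lab (F : BFam q b H a X) : ∃ r, ∃ T ∈ [T0, T1, T2, T3, T4], ∃ f,
    Lab q b H a X T a r f := by
  obtain ⟨x, h1, h2, h3, h4⟩ := F.lab
  obtain ⟨h, hh, hb⟩ := F.opp
  refine ⟨h a, PLab.exists_lab (f := x) ?_⟩
  exact { fam := F, hp := ⟨1, H.one_mem, rfl⟩, hr := ⟨h, hh, rfl⟩, bpr := hb,
          mem := fun k hk => (mem_XX_a F).2 (h1 k hk),
          surj := fun f hf => h2 f ((mem_XX_a F).1 hf), mul := h3, norm := h4 }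

namespace Lab

variable {T : Tab} {p r : V} {f : ℕ → (V ≃ₗ[ZMod 2] V)}

theorem relabel (L : Lab q b H a X T p r f) {β : ℕ × ℕ × ℕ} (h : blOk β = true)
    (hg : ∀ k, k < 8 → bt T.gm (bl β k) = bt T.gm k) :
    Lab q b H a X T p r (fun k => f (bl β k)) where
  toPLab := L.toPLab.relabel h
  ok := L.ok
  gram k hk := by
    rw [← hg k hk]
    exact L.gram _ (blOk_lt h hk)

end Lab

end Cfsg.Agent.LargeExtra.Enum9
end

-- part: LargeExtra/Enum9/Cert0
section
/-!
# S1763, case II, type (B): certificates for level 1, form T0 (helper268)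
-/

set_option autoImplicit false
set_option maxRecDepth 100000

namespace Cfsg.Agent.LargeExtra.Enum9

/-- the surviving pairs -/
def sv0 : List ℕ := [0xa6aac35f820fe3ff, 0xc39f6a66420fe3ff, 0x9a96c36f820fd3ff, 0xafc35a56420fd3ff, 0x9aaac3778233cbff, 0xc3b76a5a4233cbff, 0xa696c37b8233c7ff, 0xbbc366564233c7ff, 0xaaa65f33220fb3ff, 0x969a6f33120fb3ff, 0xe7aa825ac30aa2ff, 0xaab75a22330aa2ff, 0xdb968266c30692ff, 0x96bb6612330692ff, 0x9aaa770f330a8fff, 0xa6967b0f33068fff, 0xdbaa8266c3228aff, 0x9faa220f660a8aff, 0xe796825ac31286ff, 0xaf96120f5a0686ff, 0x666a9f33220f73ff, 0x5a56af33120f73ff, 0x66eb9642c30662ff, 0x667b9622330662ff, 0x5ad7aa42c30a52ff, 0x5a77aa12330a52ff, 0x6a5ab70f330a4fff, 0x5666bb0f33064fff, 0x5aeb9642c3124aff, 0x6f5a120f960a4aff, 0x66d7aa42c32246ff, 0x5f66220faa0646ff, 0x6aaad733c3223bff, 0x9a5ae733c3123bff, 0xa666db33c32237ff, 0x5696eb33c31237ff, 0x6aaad70fc30a2fff, 0xa666db0fc3062fff, 0x7baa823396222aff, 0x6faa820f960a2aff, 0xb76642335a2226ff, 0xaf66420f5a0626ff, 0x9a5ae70fc30a1fff, 0x5696eb0fc3061fff, 0xbb5a423366121aff, 0x9f5a420f660a1aff,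 0x77968233aa1216ff, 0x5f96820faa0616ff, 0xfaf6eedebe7e02ff, 0x826a9a22a60a02ff, 0x5a82aa12960a02ff, 0xaa425a22660a02ff, 0x429a6a12560a02ff, 0x66829622aa0602ff, 0x8256a6129a0602ff, 0x42a656226a0602ff, 0x964266125a0602ff]

/-- the order conditions -/
def lo0 : ℕ := 0x44422000

theorem ct0_2 : T0.chk1 sv0 lo0 2 [(250, []), (246, [(250, [])]), (238, []), (222, [(238, [(250, []), (246, [(250, [])])])]), (190, []), (170, [(246, [(238, []), (190, [])]), (222, [(250, []), (190, [])])]), (166, [(250, [(238, []), (190, [])]), (222, [(246, []), (190, [])]), (170, [(238, []), (190, [])])]), (154, [(246, [(222, []), (190, []), (166, [(222, [(190, 0)])])]), (238, [(250, []), (190, []), (166, [(250, [(190, 0)])])]), (170, [(250, []), (190, [])])]), (150, [(250, [(222, []), (190, []), (170, [(222, [(190, 0)])])]), (238, [(246, []), (190, []), (170, [(246, [(190, 0)])])]), (166, [(246, []), (190, [])]), (154, [(222, []), (190, [])])]), (130, [(250, [(190, []), (170, []), (154, [(170, [(190, 0)])])]), (246, [(190, []), (166, []), (150, [(166, [(190, 0)])])]), (238,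 [(190, []), (170, []), (166, [(170, [(190, 0)])])]), (222, [(190, []), (154, []), (150, [(154, [(190, 0)])])])]), (126, [(190, [(250, []), (246, [(250, [])]), (238, []), (222, [(238, [(250, 1190404), (246, 1)])])]), (170, [(250, []), (238, [])]), (166, [(246, []), (238, [])]), (154, [(250, []), (222, [])]), (150, [(246, []), (222, [])]), (130, [])]), (106, [(246, [(238, []), (166, []), (126, [(166, [(238, 0)])])]), (222, [(250, []), (154, []), (126, [(154, [(250, 0)])])]), (190, [(250, []), (238, []), (166, [(250, [(238, 0)])]), (154, [(238, [(250, 1190402), (166, 1190402)])])]), (170, [(250, []), (238, [])]), (150, []), (130, [(166, []), (154, [])])]), (102, [(250, [(238, []), (170, []), (126, [(170, [(238, 0)])])]), (222, [(246, []), (150, []), (126, [(150, [(246, 0)])])]), (190, [(246, []), (238, []), (170, [(246, [(238, 0)])]), (150, [(238, [(246, 1190402), (170, 1190402)])])]), (166, [(246, []), (238, [])]), (154, []), (130, [(170, []), (150, [])]), (106, [(238, []), (126, [])])]), (90, [(246, [(222, []), (150, []), (126, [(150, [(222, 0)])]),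 (102, [(222, [(150, 1190402), (126, 1190402)])])]), (238, [(250, []), (170, []), (126, [(170, [(250, 0)])]), (102, [(250, [(170, 1190402), (126, 1190402)])])]), (190, [(250, []), (222, []), (170, [(222, [(250, 0)])]), (150, [(250, [(222, 1190402), (170, 1190402)])])]), (166, []), (154, [(250, []), (222, [])]), (130, [(170, []), (150, [])]), (106, [(250, []), (126, [])])]), (86, [(250, [(222, []), (154, []), (126, [(154, [(222, 0)])]), (106, [(222, [(154, 1190402), (126, 1190402)])])]), (238, [(246, []), (166, []), (126, [(166, [(246, 0)])]), (106, [(246, [(166, 1190402), (126, 1190402)])])]), (190, [(246, []), (222, []), (166, [(222, [(246, 0)])]), (154, [(246, [(222, 1190402), (166, 1190402)])])]), (170, []), (150, [(246, []), (222, [])]), (130, [(166, []), (154, [])]), (102, [(246, []), (126, [])]), (90, [(222, []), (126, [])])]), (66, [(250, [(126, []), (106, []), (90, [(106, [(126, 0)])])]), (246, [(126, []), (102, []), (86, [(102, [(126, 0)])])]), (238, [(126, []), (106, []), (102, [(106, [(126, 0)])])]), (222, [(126, []), (90, []), (86, [(90,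 [(126, 0)])])]), (190, []), (170, [(102, []), (90, [])]), (166, [(106, []), (86, [])]), (154, [(106, []), (86, [])]), (150, [(102, []), (90, [])]), (130, [])]), (34, [(250, [(238, []), (170, []), (106, [(170, [(238, 0)])])]), (246, [(238, []), (166, []), (102, [(166, [(238, 0)])])]), (222, []), (190, [(238, []), (170, []), (166, [(170, [(238, 0)])]), (130, [(238, [(170, 1190402), (166, 1190402)])])]), (154, [(166, []), (130, []), (106, [(130, [(166, 0)])])]), (150, [(170, []), (130, []), (102, [(130, [(170, 0)])])]), (126, [(238, []), (106, []), (102, [(106, [(238, 0)])]), (66, [(238, [(106, 1190402), (102, 1190402)])])]), (90, [(170, []), (102, []), (66, [(170, [(102, 0)])])]), (86, [(166, []), (106, []), (66, [(166, [(106, 0)])])])]), (18, [(250, [(222, []), (154, []), (90, [(154, [(222, 0)])])]), (246, [(222, []), (150, []), (86, [(150, [(222, 0)])])]), (238, []), (190, [(222, []), (154, []), (150, [(154, [(222, 0)])]), (130, [(222, [(154, 1190402), (150, 1190402)])])]), (170, [(150, []), (130, []), (90, [(130, [(150, 0)])])]), (166, [(154,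 []), (130, []), (86, [(130, [(154, 0)])])]), (126, [(222, []), (90, []), (86, [(90, [(222, 0)])]), (66, [(222, [(90, 1190402), (86, 1190402)])])]), (106, [(154, []), (86, []), (66, [(154, [(86, 0)])])]), (102, [(150, []), (90, []), (66, [(150, [(90, 0)])])]), (34, [(130, []), (66, [(130, [])])])]), (10, [(246, []), (238, [(250, []), (170, []), (106, [(170, [(250, 0)])]), (34, [(250, [(170, 1190402), (106, 1190402)])])]), (222, [(250, []), (154, []), (90, [(154, [(250, 0)])]), (18, [(250, [(154, 1190402), (90, 1190402)])])]), (190, [(250, []), (170, []), (154, [(170, [(250, 0)])]), (130, [(250, [(170, 1190402), (154, 1190402)])])]), (166, [(154, []), (130, []), (106, [(130, [(154, 0)])]), (34, [(154, [(130, 1190920), (106, 1)])])]), (150, [(170, []), (130, []), (90, [(130, [(170, 0)])]), (18, [(170, [(130, 1), (90, 1190404)])])]), (126, [(250, []), (106, []), (90, [(106, [(250, 0)])]), (66, [(250, [(106, 1190402), (90, 1190402)])])]), (102, [(170, []), (90, []), (66, [(170, [(90, 0)])]), (34, [(90, [(170, 1190404), (66, 1)])])]), (86, [(154, []),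 (106, []), (66, [(154, [(106, 0)])]), (18, [(106, [(154, 1), (66, 1190920)])])])]), (6, [(250, []), (238, [(246, []), (166, []), (102, [(166, [(246, 0)])]), (34, [(246, [(166, 1190402), (102, 1190402)])])]), (222, [(246, []), (150, []), (86, [(150, [(246, 0)])]), (18, [(246, [(150, 1190402), (86, 1190402)])])]), (190, [(246, []), (166, []), (150, [(166, [(246, 0)])]), (130, [(246, [(166, 1190402), (150, 1190402)])])]), (170, [(150, []), (130, []), (102, [(130, [(150, 0)])]), (34, [(150, [(130, 1), (102, 1190916)])])]), (154, [(166, []), (130, []), (86, [(130, [(166, 0)])]), (18, [(166, [(130, 1190916), (86, 1)])])]), (126, [(246, []), (102, []), (86, [(102, [(246, 0)])]), (66, [(246, [(102, 1190402), (86, 1190402)])])]), (106, [(166, []), (86, []), (66, [(166, [(86, 0)])]), (34, [(86, [(166, 1), (66, 1190916)])])]), (90, [(150, []), (102, []), (66, [(150, [(102, 0)])]), (18, [(102, [(150, 1190916), (66, 1)])])]), (10, [(130, []), (66, [(130, [])]), (34, []), (18, [(34, [(130, 1190402), (66, 1190402)])])])])] = true := by decide +kernel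

theorem ct0_22 : T0.chk1 sv0 lo0 22 [(250, []), (238, []), (231, [(250, [(238, [])])]), (219, [(238, [(250, []), (231, [(250, [])])])]), (190, []), (183, [(250, [(238, []), (190, [])]), (219, [(231, []), (190, [])])]), (170, [(231, [(238, []), (190, [])]), (219, [(250, []), (190, [])]), (183, [(238, []), (190, [])])]), (159, [(238, [(250, []), (190, []), (183, [(250, [(190, 0)])])]), (231, [(219, []), (190, []), (183, [(219, [(190, 0)])])]), (170, [(250, []), (190, [])])]), (150, [(250, [(190, []), (170, []), (159, [(170, [(190, 0)])])]), (238, [(190, []), (183, []), (170, [(183, [(190, 0)])])]), (231, [(190, []), (183, [])]), (219, [(190, []), (159, [])])]), (130, [(250, [(219, []), (190, []), (170, [(219, [(190, 0)])])]), (238, [(231, []), (190, []), (170, [(231, [(190, 0)])])]), (183, [(231, []), (190, []), (150, [(231, [(190, 0)])])]), (159, [(219, []), (190, []), (150, [(219, [(190, 0)])])])]), (126, [(190, [(250, []), (238, []), (231, [(250, [(238, 0)])]), (219, [(238, [(250, 11696386), (231, 6183170)])])]), (183, [(238, []), (231, [])]),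 (170, [(250, []), (238, [])]), (159, [(250, []), (219, [])]), (150, []), (130, [(231, []), (219, [])])]), (119, [(250, [(238, []), (170, []), (126, [(170, [(238, 0)])])]), (219, [(231, []), (130, []), (126, [(130, [(231, 0)])])]), (190, [(238, []), (231, []), (170, [(231, [(238, 0)])]), (130, [(238, [(231, 16406786), (170, 5658882)])])]), (183, [(238, []), (231, [])]), (159, []), (150, [(170, []), (130, [])])]), (106, [(231, [(238, []), (183, []), (126, [(183, [(238, 0)])])]), (219, [(250, []), (159, []), (126, [(159, [(250, 0)])])]), (190, [(250, []), (238, []), (183, [(250, [(238, 0)])]), (159, [(238, [(250, 7895298), (183, 11950338)])])]), (170, [(250, []), (238, [])]), (150, [(183, []), (159, [])]), (130, []), (119, [(238, []), (126, [])])]), (95, [(238, [(250, []), (170, []), (126, [(170, [(250, 0)])]), (119, [(250, [(170, 11819266), (126, 21315841)])])]), (231, [(219, []), (130, []), (126, [(130, [(219, 0)])]), (119, [(219, [(130, 5527810), (126, 7633154)])])]), (190, [(250, []), (219, []), (170, [(219, [(250, 0)])]), (130, [(250, [(219,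 16423170), (170, 5921026)])])]), (183, []), (159, [(250, []), (219, [])]), (150, [(170, []), (130, [])]), (106, [(250, []), (126, [])])]), (86, [(250, [(126, []), (106, []), (95, [(106, [(126, 0)])])]), (238, [(126, []), (119, []), (106, [(119, [(126, 0)])])]), (231, [(126, []), (119, [])]), (219, [(126, []), (95, [])]), (190, []), (183, [(106, [])]), (170, [(119, []), (95, [])]), (159, [(106, [])]), (150, []), (130, [(119, []), (95, [])])]), (66, [(250, [(219, []), (159, []), (126, [(159, [(219, 0)])]), (106, [(219, [(159, 5658882), (126, 7502338)])])]), (238, [(231, []), (183, []), (126, [(183, [(231, 0)])]), (106, [(231, [(183, 5658882), (126, 16152834)])])]), (190, [(231, []), (219, []), (183, [(219, [(231, 0)])]), (159, [(231, [(219, 16537858), (183, 5658882)])])]), (170, []), (150, [(183, []), (159, [])]), (130, [(231, []), (219, [])]), (119, [(231, []), (126, []), (86, [(231, [(126, 0)])])]), (95, [(219, []), (126, []), (86, [(219, [(126, 0)])])])]), (51, [(250, [(238, []), (170, []), (106, [(170, [(238, 0)])])]), (231, [(238, []), (183,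 []), (119, [(183, [(238, 0)])])]), (219, []), (190, [(238, []), (183, []), (170, [(183, [(238, 0)])]), (150, [(238, [(183, 9861378), (170, 5658882)])])]), (159, [(183, []), (150, []), (106, [(150, [(183, 0)])])]), (130, [(170, []), (150, []), (119, [(150, [(170, 0)])])]), (126, [(238, []), (119, []), (106, [(119, [(238, 0)])]), (86, [(238, [(119, 9861378), (106, 5658882)])])]), (95, [(170, []), (119, []), (86, [(170, [(119, 0)])])]), (66, [(183, []), (106, []), (86, [(183, [(106, 0)])])])]), (18, [(250, []), (238, [(231, []), (183, []), (119, [(183, [(231, 0)])]), (51, [(231, [(183, 5658882), (119, 5658882)])])]), (219, [(231, []), (130, []), (66, [(130, [(231, 0)])])]), (190, [(231, []), (183, []), (150, [(231, [(183, 0)])]), (130, [(183, [(231, 5658882), (150, 5658882)])])]), (170, [(150, []), (130, []), (119, [(150, [(130, 0)])]), (51, [(130, [(150, 1), (119, 5658882)])])]), (159, [(183, []), (150, []), (66, [(150, [(183, 0)])])]), (126, [(231, []), (119, []), (86, [(231, [(119, 0)])]), (66, [(119, [(231, 5658882), (86, 8157442)])])]), (106,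 [(183, []), (86, [(183, [])]), (66, []), (51, [(66, [(183, 5658882), (86, 5658882)])])]), (95, [(130, []), (119, []), (86, [(130, [(119, 0)])])])]), (15, [(238, [(250, []), (170, []), (106, [(170, [(250, 0)])]), (51, [(250, [(170, 5921026), (106, 5921026)])])]), (231, []), (219, [(250, []), (159, []), (95, [(159, [(250, 0)])])]), (190, [(250, []), (170, []), (159, [(170, [(250, 0)])]), (150, [(250, [(170, 5921026), (159, 11950338)])])]), (183, [(159, []), (150, []), (106, [(150, [(159, 0)])]), (51, [(159, [(150, 5527810), (106, 14309634)])])]), (130, [(170, []), (150, []), (95, [(150, [(170, 0)])])]), (126, [(250, []), (106, []), (95, [(106, [(250, 0)])]), (86, [(250, [(106, 7764226), (95, 11950338)])])]), (119, [(170, []), (95, []), (86, [(170, [(95, 0)])]), (51, [(95, [(170, 16406786), (86, 7764226)])])]), (66, [(159, []), (106, []), (86, [(159, [(106, 0)])])]), (18, [(150, []), (86, [(150, [])]), (51, [])])]), (6, [(250, [(219, []), (159, []), (95, [(159, [(219, 0)])]), (15, [(219, [(159, 11696386), (95, 5658882)])])]), (238, []), (231, [(219,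 []), (130, []), (66, [(130, [(219, 0)])]), (18, [(219, [(130, 5921026), (66, 27484417)])])]), (190, [(219, []), (159, []), (150, [(219, [(159, 0)])]), (130, [(159, [(219, 5658882), (150, 7764226)])])]), (183, [(159, []), (150, []), (66, [(150, [(159, 0)])]), (18, [(159, [(150, 5921026), (66, 5921026)])])]), (170, [(150, []), (130, []), (95, [(150, [(130, 0)])]), (15, [(130, [(150, 1), (95, 14047490)])])]), (126, [(219, []), (95, []), (86, [(219, [(95, 0)])]), (66, [(95, [(219, 5658882), (86, 7764226)])])]), (119, [(130, []), (95, []), (86, [(130, [(95, 0)])]), (18, [(95, [(130, 5921026), (86, 5921026)])])]), (106, [(159, []), (86, [(159, [])]), (66, []), (15, [(66, [(159, 16144642), (86, 5658882)])])]), (51, [(150, []), (86, [(150, [])]), (18, []), (15, [(18, [(150, 11696386), (86, 5789954)])])])])] = true := by decide +kernel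

theorem ct0_26 : T0.chk1 sv0 lo0 26 [(246, []), (238, []), (235, [(246, [(238, [])])]), (215, [(238, [(246, []), (235, [(246, [])])])]), (190, []), (187, [(246, [(238, []), (190, [])]), (215, [(235, []), (190, [])])]), (166, [(235, [(238, []), (190, [])]), (215, [(246, []), (190, [])]), (187, [(238, []), (190, [])])]), (159, [(238, [(246, []), (190, []), (187, [(246, [(190, 0)])])]), (235, [(215, []), (190, []), (187, [(215, [(190, 0)])])]), (166, [(246, []), (190, [])])]), (154, [(246, [(190, []), (166, []), (159, [(166, [(190, 0)])])]), (238, [(190, []), (187, []), (166, [(187, [(190, 0)])])]), (235, [(190, []), (187, [])]), (215, [(190, []), (159, [])])]), (130, [(246, [(215, []), (190, []), (166, [(215, [(190, 0)])])]), (238, [(235, []), (190, []), (166, [(235, [(190, 0)])])]), (187, [(235, []), (190, []), (154, [(235, [(190, 0)])])]), (159, [(215, []), (190, []), (154, [(215, [(190, 0)])])])]), (126, [(190, [(246, []), (238, []), (235, [(246, [(238, 0)])]), (215, [(238, [(246, 11688194), (235, 11688194)])])]), (187, [(238, []), (235, [])]),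 (166, [(246, []), (238, [])]), (159, [(246, []), (215, [])]), (154, []), (130, [(235, []), (215, [])])]), (123, [(246, [(238, []), (166, []), (126, [(166, [(238, 0)])])]), (215, [(235, []), (130, []), (126, [(130, [(235, 0)])])]), (190, [(238, []), (235, []), (166, [(235, [(238, 0)])]), (130, [(238, [(235, 5658882), (166, 5527810)])])]), (187, [(238, []), (235, [])]), (159, []), (154, [(166, []), (130, [])])]), (102, [(235, [(238, []), (187, []), (126, [(187, [(238, 0)])])]), (215, [(246, []), (159, []), (126, [(159, [(246, 0)])])]), (190, [(246, []), (238, []), (187, [(246, [(238, 0)])]), (159, [(238, [(246, 21446913), (187, 9853186)])])]), (166, [(246, []), (238, [])]), (154, [(187, []), (159, [])]), (130, []), (123, [(238, []), (126, [])])]), (95, [(238, [(246, []), (166, []), (126, [(166, [(246, 0)])]), (123, [(246, [(166, 5658882), (126, 5527810)])])]), (235, [(215, []), (130, []), (126, [(130, [(215, 0)])]), (123, [(215, [(130, 5658882), (126, 5527810)])])]), (190, [(246, []), (215, []), (166, [(215, [(246, 0)])]), (130, [(246, [(215, 5396994),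 (166, 8026370)])])]), (187, []), (159, [(246, []), (215, [])]), (154, [(166, []), (130, [])]), (102, [(246, []), (126, [])])]), (90, [(246, [(126, []), (102, []), (95, [(102, [(126, 0)])])]), (238, [(126, []), (123, []), (102, [(123, [(126, 0)])])]), (235, [(126, []), (123, [])]), (215, [(126, []), (95, [])]), (190, []), (187, [(102, [])]), (166, [(123, []), (95, [])]), (159, [(102, [])]), (154, []), (130, [(123, []), (95, [])])]), (66, [(246, [(215, []), (159, []), (126, [(159, [(215, 0)])]), (102, [(215, [(159, 7764226), (126, 14063874)])])]), (238, [(235, []), (187, []), (126, [(187, [(235, 0)])]), (102, [(235, [(187, 6052098), (126, 16144642)])])]), (190, [(235, []), (215, []), (187, [(215, [(235, 0)])]), (159, [(235, [(215, 5789954), (187, 5921026)])])]), (166, []), (154, [(187, []), (159, [])]), (130, [(235, []), (215, [])]), (123, [(235, []), (126, []), (90, [(235, [(126, 0)])])]), (95, [(215, []), (126, []), (90, [(215, [(126, 0)])])])]), (51, [(246, [(238, []), (166, []), (102, [(166, [(238, 0)])])]), (235, [(238, []), (187, []), (123,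 [(187, [(238, 0)])])]), (215, []), (190, [(238, []), (187, []), (166, [(187, [(238, 0)])]), (154, [(238, [(187, 9853186), (166, 7764226)])])]), (159, [(187, []), (154, []), (102, [(154, [(187, 0)])])]), (130, [(166, []), (154, []), (123, [(154, [(166, 0)])])]), (126, [(238, []), (123, []), (102, [(123, [(238, 0)])]), (90, [(238, [(123, 9853186), (102, 5789954)])])]), (95, [(166, []), (123, []), (90, [(166, [(123, 0)])])]), (66, [(187, []), (102, []), (90, [(187, [(102, 0)])])])]), (18, [(246, []), (238, [(235, []), (187, []), (123, [(187, [(235, 0)])]), (51, [(235, [(187, 11688194), (123, 11688194)])])]), (215, [(235, []), (130, []), (66, [(130, [(235, 0)])])]), (190, [(235, []), (187, []), (154, [(235, [(187, 0)])]), (130, [(187, [(235, 6052098), (154, 6052098)])])]), (166, [(154, []), (130, []), (123, [(154, [(130, 0)])]), (51, [(130, [(154, 7764226), (123, 7764226)])])]), (159, [(187, []), (154, []), (66, [(154, [(187, 0)])])]), (126, [(235, []), (123, []), (90, [(235, [(123, 0)])]), (66, [(123, [(235, 6052098), (90, 6052098)])])]), (102, [(187,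 []), (90, [(187, [])]), (66, []), (51, [(66, [(187, 5396994), (90, 1)])])]), (95, [(130, []), (123, []), (90, [(130, [(123, 0)])])])]), (15, [(238, [(246, []), (166, []), (102, [(166, [(246, 0)])]), (51, [(246, [(166, 8026370), (102, 5396994)])])]), (235, []), (215, [(246, []), (159, []), (95, [(159, [(246, 0)])])]), (190, [(246, []), (166, []), (159, [(166, [(246, 0)])]), (154, [(246, [(166, 5658882), (159, 5527810)])])]), (187, [(159, []), (154, []), (102, [(154, [(159, 0)])]), (51, [(159, [(154, 5658882), (102, 5527810)])])]), (130, [(166, []), (154, []), (95, [(154, [(166, 0)])])]), (126, [(246, []), (102, []), (95, [(102, [(246, 0)])]), (90, [(246, [(102, 5658882), (95, 11958530)])])]), (123, [(166, []), (95, []), (90, [(166, [(95, 0)])]), (51, [(95, [(166, 16414978), (90, 5658882)])])]), (66, [(159, []), (102, []), (90, [(159, [(102, 0)])])]), (18, [(154, []), (90, [(154, [])]), (51, [])])]), (10, [(246, [(215, []), (159, []), (95, [(159, [(215, 0)])]), (15, [(215, [(159, 11688194), (95, 11688194)])])]), (238, []), (235, [(215, []), (130,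 []), (66, [(130, [(215, 0)])]), (18, [(215, [(130, 27484417), (66, 5396994)])])]), (190, [(215, []), (159, []), (154, [(215, [(159, 0)])]), (130, [(159, [(215, 5527810), (154, 5658882)])])]), (187, [(159, []), (154, []), (66, [(154, [(159, 0)])]), (18, [(159, [(154, 5658882), (66, 5527810)])])]), (166, [(154, []), (130, []), (95, [(154, [(130, 0)])]), (15, [(130, [(154, 6052098), (95, 6052098)])])]), (126, [(215, []), (95, []), (90, [(215, [(95, 0)])]), (66, [(95, [(215, 5527810), (90, 5658882)])])]), (123, [(130, []), (95, []), (90, [(130, [(95, 0)])]), (18, [(95, [(130, 5527810), (90, 5658882)])])]), (102, [(159, []), (90, [(159, [])]), (66, []), (15, [(66, [(159, 6052098), (90, 1)])])]), (51, [(154, []), (90, [(154, [])]), (18, []), (15, [(18, [(154, 11688194), (90, 11688194)])])])])] = true := by decide +kernel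

theorem ct0_31 : T0.chk1 sv0 lo0 31 [(238, []), (235, []), (231, [(235, [(238, [])])]), (195, [(238, [(235, []), (231, [(235, [])])])]), (190, []), (187, [(231, [(238, []), (190, [])]), (195, [(235, []), (190, [])])]), (183, [(235, [(238, []), (190, [])]), (195, [(231, []), (190, [])]), (187, [(238, []), (190, [])])]), (159, [(238, [(190, []), (187, []), (183, [(187, [(190, 0)])])]), (235, [(190, []), (187, [])]), (231, [(190, []), (183, [])]), (195, [(190, [])])]), (154, [(238, [(231, []), (190, []), (187, [(231, [(190, 0)])])]), (235, [(195, []), (190, []), (187, [(195, [(190, 0)])])]), (183, [(231, []), (190, []), (159, [(231, [(190, 0)])])])]), (150, [(238, [(235, []), (190, []), (183, [(235, [(190, 0)])])]), (231, [(195, []), (190, []), (183, [(195, [(190, 0)])])]), (187, [(235, []), (190, []), (159, [(235, [(190, 0)])])]), (154, [(195, []), (190, []), (159, [(195, [(190, 0)])])])]), (126, [(190, [(238, []), (235, []), (231, [(235, [(238, 0)])]), (195, [(238, [(235, 5658882), (231, 16406786)])])]), (187, [(238, []), (235, [])]), (183, [(238,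 []), (231, [])]), (159, []), (154, [(231, []), (195, [])]), (150, [(235, []), (195, [])])]), (123, [(231, [(238, []), (183, []), (126, [(183, [(238, 0)])])]), (195, [(235, []), (150, []), (126, [(150, [(235, 0)])])]), (190, [(238, []), (235, []), (183, [(235, [(238, 0)])]), (150, [(238, [(235, 11688194), (183, 11688194)])])]), (187, [(238, []), (235, [])]), (159, [(183, []), (150, [])]), (154, [])]), (119, [(235, [(238, []), (187, []), (126, [(187, [(238, 0)])])]), (195, [(231, []), (154, []), (126, [(154, [(231, 0)])])]), (190, [(238, []), (231, []), (187, [(231, [(238, 0)])]), (154, [(238, [(231, 5789954), (187, 9853186)])])]), (183, [(238, []), (231, [])]), (159, [(187, []), (154, [])]), (150, []), (123, [(238, []), (126, [])])]), (95, [(238, [(126, []), (123, []), (119, [(123, [(126, 0)])])]), (235, [(126, []), (123, [])]), (231, [(126, []), (119, [])]), (195, [(126, [])]), (190, []), (187, [(119, [])]), (183, [(123, [])]), (159, []), (154, [(119, [])]), (150, [(123, [])])]), (90, [(238, [(231, []), (183, []), (126, [(183, [(231, 0)])]), (123,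 [(231, [(183, 5658882), (126, 5527810)])])]), (235, [(195, []), (150, []), (126, [(150, [(195, 0)])]), (123, [(195, [(150, 5658882), (126, 5527810)])])]), (190, [(231, []), (195, []), (183, [(195, [(231, 0)])]), (150, [(231, [(195, 5396994), (183, 8026370)])])]), (187, []), (159, [(183, []), (150, [])]), (154, [(231, []), (195, [])]), (119, [(231, []), (126, []), (95, [(231, [(126, 0)])])])]), (86, [(238, [(235, []), (187, []), (126, [(187, [(235, 0)])]), (119, [(235, [(187, 11688194), (126, 11688194)])])]), (231, [(195, []), (154, []), (126, [(154, [(195, 0)])]), (119, [(195, [(154, 7764226), (126, 14063874)])])]), (190, [(235, []), (195, []), (187, [(195, [(235, 0)])]), (154, [(235, [(195, 16423170), (187, 5921026)])])]), (183, []), (159, [(187, []), (154, [])]), (150, [(235, []), (195, [])]), (123, [(235, []), (126, []), (95, [(235, [(126, 0)])])]), (90, [(195, []), (126, []), (95, [(195, [(126, 0)])])])]), (34, [(235, [(238, []), (187, []), (123, [(187, [(238, 0)])])]), (231, [(238, []), (183, []), (119, [(183, [(238, 0)])])]), (195, []), (190,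 [(238, []), (187, []), (183, [(187, [(238, 0)])]), (159, [(238, [(187, 9853186), (183, 5789954)])])]), (154, [(187, []), (159, []), (119, [(159, [(187, 0)])])]), (150, [(183, []), (159, []), (123, [(159, [(183, 0)])])]), (126, [(238, []), (123, []), (119, [(123, [(238, 0)])]), (95, [(238, [(123, 9853186), (119, 5789954)])])]), (90, [(183, []), (123, []), (95, [(183, [(123, 0)])])]), (86, [(187, []), (119, []), (95, [(187, [(119, 0)])])])]), (15, [(238, []), (235, [(195, []), (150, []), (86, [(150, [(195, 0)])])]), (231, [(195, []), (154, []), (90, [(154, [(195, 0)])])]), (190, [(195, []), (159, [(195, [])]), (154, []), (150, [(154, [(195, 5527810), (159, 5658882)])])]), (187, [(159, []), (154, []), (86, [(159, [(154, 0)])])]), (183, [(159, []), (150, []), (90, [(159, [(150, 0)])])]), (126, [(195, []), (95, [(195, [])]), (90, []), (86, [(90, [(195, 7764226), (95, 5658882)])])]), (123, [(150, []), (95, [(150, [])]), (90, [])]), (119, [(154, []), (95, [(154, [])]), (86, [])]), (34, [(159, []), (95, [(159, [])])])]), (10, [(238, [(231, []), (183, []),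 (119, [(183, [(231, 0)])]), (34, [(231, [(183, 8157442), (119, 5396994)])])]), (235, []), (195, [(231, []), (154, []), (90, [(154, [(231, 0)])]), (15, [(231, [(154, 6052098), (90, 1)])])]), (190, [(231, []), (183, []), (159, [(231, [(183, 0)])]), (154, [(183, [(231, 5658882), (159, 5527810)])])]), (187, [(159, []), (154, []), (119, [(159, [(154, 0)])]), (34, [(154, [(159, 5658882), (119, 5527810)])])]), (150, [(183, []), (159, []), (90, [(159, [(183, 0)])]), (15, [(183, [(159, 11688194), (90, 11688194)])])]), (126, [(231, []), (119, []), (95, [(231, [(119, 0)])]), (90, [(119, [(231, 5658882), (95, 5527810)])])]), (123, [(183, []), (95, [(183, [])]), (90, []), (34, [(90, [(183, 5527810), (95, 5658882)])])]), (86, [(154, []), (119, []), (95, [(154, [(119, 0)])]), (15, [(119, [(154, 11688194), (95, 11688194)])])])]), (6, [(238, [(235, []), (187, []), (123, [(187, [(235, 0)])]), (34, [(235, [(187, 6052098), (123, 6052098)])])]), (231, []), (195, [(235, []), (150, []), (86, [(150, [(235, 0)])]), (15, [(235, [(150, 1), (86, 5396994)])])]), (190, [(235,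 []), (187, []), (159, [(235, [(187, 0)])]), (150, [(187, [(235, 6052098), (159, 7633154)])])]), (183, [(159, []), (150, []), (123, [(159, [(150, 0)])]), (34, [(150, [(159, 7764226), (123, 7633154)])])]), (154, [(187, []), (159, []), (86, [(159, [(187, 0)])]), (15, [(187, [(159, 5921026), (86, 5789954)])])]), (126, [(235, []), (123, []), (95, [(235, [(123, 0)])]), (86, [(123, [(235, 6052098), (95, 6052098)])])]), (119, [(187, []), (95, [(187, [])]), (86, []), (34, [(86, [(187, 5396994), (95, 7764226)])])]), (90, [(150, []), (123, []), (95, [(150, [(123, 0)])]), (15, [(123, [(150, 11696386), (95, 5921026)])])]), (10, [(159, []), (95, [(159, [])]), (34, []), (15, [(34, [(159, 6183170), (95, 6183426)])])])])] = true := by decide +kernel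

theorem ct0_38 : T0.chk1 sv0 lo0 38 [(250, []), (235, []), (222, [(235, [(250, [])])]), (215, [(250, [(235, []), (222, [(235, [])])])]), (190, []), (183, [(250, [(222, []), (190, [])]), (235, [(215, []), (190, [])])]), (175, [(222, [(250, []), (190, []), (183, [(250, [(190, 0)])])]), (215, [(235, []), (190, []), (183, [(235, [(190, 0)])])])]), (166, [(250, [(190, []), (175, [])]), (235, [(190, []), (175, [])]), (222, [(190, []), (183, [])]), (215, [(190, []), (183, [])])]), (154, [(235, [(250, []), (190, [])]), (215, [(222, []), (190, [])]), (183, [(222, []), (190, []), (166, [(222, [(190, 0)])])]), (175, [(250, []), (190, []), (166, [(250, [(190, 0)])])])]), (130, [(250, [(235, []), (190, []), (154, [(235, [(190, 0)])])]), (222, [(215, []), (190, []), (154, [(215, [(190, 0)])])]), (183, [(215, []), (190, []), (166, [(215, [(190, 0)])])]), (175, [(235, []), (190, []), (166, [(235, [(190, 0)])])])]), (126, [(190, [(250, []), (235, []), (222, [(235, [(250, 0)])]), (215, [(250, [(235, 9599234), (222, 5921026)])])]), (183, [(222, []), (215, [])]),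 (175, [(250, []), (235, [])]), (166, []), (154, [(250, []), (222, [])]), (130, [(235, []), (215, [])])]), (119, [(250, [(222, []), (154, []), (126, [(154, [(222, 0)])])]), (235, [(215, []), (130, []), (126, [(130, [(215, 0)])])]), (190, [(222, []), (215, []), (154, [(215, [(222, 0)])]), (130, [(222, [(215, 7764226), (154, 5658882)])])]), (183, [(222, []), (215, [])]), (175, []), (166, [(154, []), (130, [])])]), (111, [(222, [(250, []), (154, []), (126, [(154, [(250, 0)])]), (119, [(250, [(154, 9722114), (126, 7633154)])])]), (215, [(235, []), (130, []), (126, [(130, [(235, 0)])]), (119, [(235, [(130, 5527810), (126, 14309634)])])]), (190, [(250, []), (235, []), (154, [(235, [(250, 0)])]), (130, [(250, [(235, 7502338), (154, 5921026)])])]), (183, []), (175, [(250, []), (235, [])]), (166, [(154, []), (130, [])])]), (102, [(250, [(126, []), (111, [])]), (235, [(126, []), (111, [])]), (222, [(126, []), (119, [])]), (215, [(126, []), (119, [])]), (190, []), (183, []), (175, []), (166, []), (154, [(119, []), (111, [])]), (130, [(119, []), (111, [])])]),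 (90, [(235, [(250, []), (175, []), (126, [(175, [(250, 0)])])]), (215, [(222, []), (183, []), (126, [(183, [(222, 0)])])]), (190, [(250, []), (222, []), (183, [(250, [(222, 0)])]), (175, [(222, [(250, 21315841), (183, 9853186)])])]), (166, [(183, []), (175, [])]), (154, [(250, []), (222, [])]), (130, []), (119, [(222, []), (126, []), (102, [(222, [(126, 0)])])]), (111, [(250, []), (126, []), (102, [(250, [(126, 0)])])])]), (66, [(250, [(235, []), (175, []), (126, [(175, [(235, 0)])]), (90, [(235, [(175, 5658882), (126, 16161026)])])]), (222, [(215, []), (183, []), (126, [(183, [(215, 0)])]), (90, [(215, [(183, 5658882), (126, 14047490)])])]), (190, [(235, []), (215, []), (183, [(235, [(215, 0)])]), (175, [(215, [(235, 7895298), (183, 5658882)])])]), (166, [(183, []), (175, [])]), (154, []), (130, [(235, []), (215, [])]), (119, [(215, []), (126, []), (102, [(215, [(126, 0)])])]), (111, [(235, []), (126, []), (102, [(235, [(126, 0)])])])]), (51, [(250, [(222, []), (154, []), (90, [(154, [(222, 0)])])]), (235, []), (215, [(222, []), (183, []), (119,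 [(183, [(222, 0)])])]), (190, [(222, []), (183, []), (166, [(222, [(183, 0)])]), (154, [(183, [(222, 11958530), (166, 5658882)])])]), (175, [(183, []), (166, []), (90, [(166, [(183, 0)])])]), (130, [(166, []), (154, []), (119, [(166, [(154, 0)])])]), (126, [(222, []), (119, []), (102, [(222, [(119, 0)])]), (90, [(119, [(222, 11958530), (102, 5658882)])])]), (111, [(154, []), (119, []), (102, [(154, [(119, 0)])])]), (66, [(183, []), (102, [(183, [])]), (90, [])])]), (34, [(250, []), (235, [(215, []), (130, []), (66, [(130, [(215, 0)])])]), (222, [(215, []), (183, []), (119, [(183, [(215, 0)])]), (51, [(215, [(183, 5658882), (119, 5658882)])])]), (190, [(215, []), (183, []), (166, [(215, [(183, 0)])]), (130, [(183, [(215, 5658882), (166, 8157442)])])]), (175, [(183, []), (166, []), (66, [(166, [(183, 0)])])]), (154, [(166, []), (130, []), (119, [(166, [(130, 0)])]), (51, [(130, [(166, 5658882), (119, 5658882)])])]), (126, [(215, []), (119, []), (102, [(215, [(119, 0)])]), (66, [(119, [(215, 5658882), (102, 5658882)])])]), (111, [(130, []), (119,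 []), (102, [(130, [(119, 0)])])]), (90, [(183, []), (102, [(183, [])]), (66, []), (51, [(66, [(183, 5658882), (102, 1)])])])]), (15, [(235, [(250, []), (175, []), (111, [(175, [(250, 0)])])]), (222, [(250, []), (154, []), (90, [(154, [(250, 0)])]), (51, [(250, [(154, 5921026), (90, 5921026)])])]), (215, []), (190, [(250, []), (175, []), (166, [(250, [(175, 0)])]), (154, [(175, [(250, 9853186), (166, 7764226)])])]), (183, [(175, []), (166, []), (90, [(166, [(175, 0)])]), (51, [(175, [(166, 7764226), (90, 14309634)])])]), (130, [(166, []), (154, []), (111, [(166, [(154, 0)])])]), (126, [(250, []), (111, []), (102, [(250, [(111, 0)])]), (90, [(111, [(250, 9853186), (102, 6183170)])])]), (119, [(154, []), (111, []), (102, [(154, [(111, 0)])]), (51, [(111, [(154, 16406786), (102, 5527810)])])]), (66, [(175, []), (102, [(175, [])]), (90, [])]), (34, [(166, []), (102, [(166, [])]), (51, [])])]), (6, [(250, [(235, []), (175, []), (111, [(175, [(235, 0)])]), (15, [(235, [(175, 5658882), (111, 9599234)])])]), (222, []), (215, [(235, []), (130, []), (66,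 [(130, [(235, 0)])]), (34, [(235, [(130, 27484417), (66, 5921026)])])]), (190, [(235, []), (175, []), (166, [(235, [(175, 0)])]), (130, [(175, [(235, 5658882), (166, 7764226)])])]), (183, [(175, []), (166, []), (66, [(166, [(175, 0)])]), (34, [(175, [(166, 5921026), (66, 5921026)])])]), (154, [(166, []), (130, []), (111, [(166, [(130, 0)])]), (15, [(130, [(166, 5658882), (111, 14047490)])])]), (126, [(235, []), (111, []), (102, [(235, [(111, 0)])]), (66, [(111, [(235, 5658882), (102, 7764226)])])]), (119, [(130, []), (111, []), (102, [(130, [(111, 0)])]), (34, [(111, [(130, 5921026), (102, 5921026)])])]), (90, [(175, []), (102, [(175, [])]), (66, []), (15, [(66, [(175, 16144642), (102, 1)])])]), (51, [(166, []), (102, [(166, [])]), (34, []), (15, [(34, [(166, 5789954), (102, 9599234)])])])])] = true := by decide +kernel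

theorem ct0_42 : T0.chk1 sv0 lo0 42 [(246, []), (231, []), (222, [(231, [(246, [])])]), (219, [(246, [(231, []), (222, [(231, [])])])]), (190, []), (187, [(246, [(222, []), (190, [])]), (231, [(219, []), (190, [])])]), (175, [(222, [(246, []), (190, []), (187, [(246, [(190, 0)])])]), (219, [(231, []), (190, []), (187, [(231, [(190, 0)])])])]), (170, [(246, [(190, []), (175, [])]), (231, [(190, []), (175, [])]), (222, [(190, []), (187, [])]), (219, [(190, []), (187, [])])]), (150, [(231, [(246, []), (190, [])]), (219, [(222, []), (190, [])]), (187, [(222, []), (190, []), (170, [(222, [(190, 0)])])]), (175, [(246, []), (190, []), (170, [(246, [(190, 0)])])])]), (130, [(246, [(231, []), (190, []), (150, [(231, [(190, 0)])])]), (222, [(219, []), (190, []), (150, [(219, [(190, 0)])])]), (187, [(219, []), (190, []), (170, [(219, [(190, 0)])])]), (175, [(231, []), (190, []), (170, [(231, [(190, 0)])])])]), (126, [(190, [(246, []), (231, []), (222, [(231, [(246, 0)])]), (219, [(246, [(231, 9591042), (222, 9591042)])])]), (187, [(222, []), (219, [])]),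 (175, [(246, []), (231, [])]), (170, []), (150, [(246, []), (222, [])]), (130, [(231, []), (219, [])])]), (123, [(246, [(222, []), (150, []), (126, [(150, [(222, 0)])])]), (231, [(219, []), (130, []), (126, [(130, [(219, 0)])])]), (190, [(222, []), (219, []), (150, [(219, [(222, 0)])]), (130, [(222, [(219, 14309634), (150, 5527810)])])]), (187, [(222, []), (219, [])]), (175, []), (170, [(150, []), (130, [])])]), (111, [(222, [(246, []), (150, []), (126, [(150, [(246, 0)])]), (123, [(246, [(150, 5658882), (126, 21446913)])])]), (219, [(231, []), (130, []), (126, [(130, [(231, 0)])]), (123, [(231, [(130, 5658882), (126, 5527810)])])]), (190, [(246, []), (231, []), (150, [(231, [(246, 0)])]), (130, [(246, [(231, 14326018), (150, 8026370)])])]), (187, []), (175, [(246, []), (231, [])]), (170, [(150, []), (130, [])])]), (106, [(246, [(126, []), (111, [])]), (231, [(126, []), (111, [])]), (222, [(126, []), (123, [])]), (219, [(126, []), (123, [])]), (190, []), (187, []), (175, []), (170, []), (150, [(123, []), (111, [])]), (130, [(123, []), (111, [])])]),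 (86, [(231, [(246, []), (175, []), (126, [(175, [(246, 0)])])]), (219, [(222, []), (187, []), (126, [(187, [(222, 0)])])]), (190, [(246, []), (222, []), (187, [(246, [(222, 0)])]), (175, [(222, [(246, 5789954), (187, 11950338)])])]), (170, [(187, []), (175, [])]), (150, [(246, []), (222, [])]), (130, []), (123, [(222, []), (126, []), (106, [(222, [(126, 0)])])]), (111, [(246, []), (126, []), (106, [(246, [(126, 0)])])])]), (66, [(246, [(231, []), (175, []), (126, [(175, [(231, 0)])]), (86, [(231, [(175, 7764226), (126, 5396994)])])]), (222, [(219, []), (187, []), (126, [(187, [(219, 0)])]), (86, [(219, [(187, 6052098), (126, 16144642)])])]), (190, [(231, []), (219, []), (187, [(231, [(219, 0)])]), (175, [(219, [(231, 5789954), (187, 5921026)])])]), (170, [(187, []), (175, [])]), (150, []), (130, [(231, []), (219, [])]), (123, [(219, []), (126, []), (106, [(219, [(126, 0)])])]), (111, [(231, []), (126, []), (106, [(231, [(126, 0)])])])]), (51, [(246, [(222, []), (150, []), (86, [(150, [(222, 0)])])]), (231, []), (219, [(222, []), (187, []), (123,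 [(187, [(222, 0)])])]), (190, [(222, []), (187, []), (170, [(222, [(187, 0)])]), (150, [(187, [(222, 11950338), (170, 6052098)])])]), (175, [(187, []), (170, []), (86, [(170, [(187, 0)])])]), (130, [(170, []), (150, []), (123, [(170, [(150, 0)])])]), (126, [(222, []), (123, []), (106, [(222, [(123, 0)])]), (86, [(123, [(222, 11950338), (106, 7764226)])])]), (111, [(150, []), (123, []), (106, [(150, [(123, 0)])])]), (66, [(187, []), (106, [(187, [])]), (86, [])])]), (34, [(246, []), (231, [(219, []), (130, []), (66, [(130, [(219, 0)])])]), (222, [(219, []), (187, []), (123, [(187, [(219, 0)])]), (51, [(219, [(187, 9591042), (123, 9591042)])])]), (190, [(219, []), (187, []), (170, [(219, [(187, 0)])]), (130, [(187, [(219, 6052098), (170, 6052098)])])]), (175, [(187, []), (170, []), (66, [(170, [(187, 0)])])]), (150, [(170, []), (130, []), (123, [(170, [(130, 0)])]), (51, [(130, [(170, 1), (123, 5396994)])])]), (126, [(219, []), (123, []), (106, [(219, [(123, 0)])]), (66, [(123, [(219, 6052098), (106, 6052098)])])]), (111, [(130, []), (123, []), (106,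 [(130, [(123, 0)])])]), (86, [(187, []), (106, [(187, [])]), (66, []), (51, [(66, [(187, 7764226), (106, 7764226)])])])]), (15, [(231, [(246, []), (175, []), (111, [(175, [(246, 0)])])]), (222, [(246, []), (150, []), (86, [(150, [(246, 0)])]), (51, [(246, [(150, 5396994), (86, 8026370)])])]), (219, []), (190, [(246, []), (175, []), (170, [(246, [(175, 0)])]), (150, [(175, [(246, 9861378), (170, 5658882)])])]), (187, [(175, []), (170, []), (86, [(170, [(175, 0)])]), (51, [(175, [(170, 5658882), (86, 14317826)])])]), (130, [(170, []), (150, []), (111, [(170, [(150, 0)])])]), (126, [(246, []), (111, []), (106, [(246, [(111, 0)])]), (86, [(111, [(246, 5527810), (106, 5658882)])])]), (123, [(150, []), (111, []), (106, [(150, [(111, 0)])]), (51, [(111, [(150, 5527810), (106, 5658882)])])]), (66, [(175, []), (106, [(175, [])]), (86, [])]), (34, [(170, []), (106, [(170, [])]), (51, [])])]), (10, [(246, [(231, []), (175, []), (111, [(175, [(231, 0)])]), (15, [(231, [(175, 9591042), (111, 9591042)])])]), (222, []), (219, [(231, []), (130, []), (66, [(130,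 [(231, 0)])]), (34, [(231, [(130, 5396994), (66, 27484417)])])]), (190, [(231, []), (175, []), (170, [(231, [(175, 0)])]), (130, [(175, [(231, 5527810), (170, 5658882)])])]), (187, [(175, []), (170, []), (66, [(170, [(175, 0)])]), (34, [(175, [(170, 5658882), (66, 5527810)])])]), (150, [(170, []), (130, []), (111, [(170, [(130, 0)])]), (15, [(130, [(170, 1), (111, 6052098)])])]), (126, [(231, []), (111, []), (106, [(231, [(111, 0)])]), (66, [(111, [(231, 5527810), (106, 5658882)])])]), (123, [(130, []), (111, []), (106, [(130, [(111, 0)])]), (34, [(111, [(130, 5527810), (106, 5658882)])])]), (86, [(175, []), (106, [(175, [])]), (66, []), (15, [(66, [(175, 6052098), (106, 6052098)])])]), (51, [(170, []), (106, [(170, [])]), (34, []), (15, [(34, [(170, 9591042), (106, 9591042)])])])])] = true := by decide +kernel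

theorem ct0_47 : T0.chk1 sv0 lo0 47 [(222, []), (219, []), (215, [(219, [(222, [])])]), (195, [(222, [(219, []), (215, [(219, [])])])]), (190, []), (187, [(215, [(222, []), (190, [])]), (195, [(219, []), (190, [])])]), (183, [(219, [(222, []), (190, [])]), (195, [(215, []), (190, [])]), (187, [(222, []), (190, [])])]), (175, [(222, [(190, []), (187, []), (183, [(187, [(190, 0)])])]), (219, [(190, []), (187, [])]), (215, [(190, []), (183, [])]), (195, [(190, [])])]), (170, [(222, [(215, []), (190, []), (187, [(215, [(190, 0)])])]), (219, [(195, []), (190, []), (187, [(195, [(190, 0)])])]), (183, [(215, []), (190, []), (175, [(215, [(190, 0)])])])]), (166, [(222, [(219, []), (190, []), (183, [(219, [(190, 0)])])]), (215, [(195, []), (190, []), (183, [(195, [(190, 0)])])]), (187, [(219, []), (190, []), (175, [(219, [(190, 0)])])]), (170, [(195, []), (190, []), (175, [(195, [(190, 0)])])])]), (126, [(190, [(222, []), (219, []), (215, [(219, [(222, 0)])]), (195, [(222, [(219, 14309634), (215, 5527810)])])]), (187, [(222, []), (219, [])]), (183, [(222,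 []), (215, [])]), (175, []), (170, [(215, []), (195, [])]), (166, [(219, []), (195, [])])]), (123, [(215, [(222, []), (183, []), (126, [(183, [(222, 0)])])]), (195, [(219, []), (166, []), (126, [(166, [(219, 0)])])]), (190, [(222, []), (219, []), (183, [(219, [(222, 0)])]), (166, [(222, [(219, 9591042), (183, 9591042)])])]), (187, [(222, []), (219, [])]), (175, [(183, []), (166, [])]), (170, [])]), (119, [(219, [(222, []), (187, []), (126, [(187, [(222, 0)])])]), (195, [(215, []), (170, []), (126, [(170, [(215, 0)])])]), (190, [(222, []), (215, []), (187, [(215, [(222, 0)])]), (170, [(222, [(215, 5789954), (187, 11950338)])])]), (183, [(222, []), (215, [])]), (175, [(187, []), (170, [])]), (166, []), (123, [(222, []), (126, [])])]), (111, [(222, [(126, []), (123, []), (119, [(123, [(126, 0)])])]), (219, [(126, []), (123, [])]), (215, [(126, []), (119, [])]), (195, [(126, [])]), (190, []), (187, [(119, [])]), (183, [(123, [])]), (175, []), (170, [(119, [])]), (166, [(123, [])])]), (106, [(222, [(215, []), (183, []), (126, [(183, [(215, 0)])]), (123,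 [(215, [(183, 5658882), (126, 5527810)])])]), (219, [(195, []), (166, []), (126, [(166, [(195, 0)])]), (123, [(195, [(166, 5658882), (126, 16029954)])])]), (190, [(215, []), (195, []), (183, [(195, [(215, 0)])]), (166, [(215, [(195, 14194946), (183, 8026370)])])]), (187, []), (175, [(183, []), (166, [])]), (170, [(215, []), (195, [])]), (119, [(215, []), (126, []), (111, [(215, [(126, 0)])])])]), (102, [(222, [(219, []), (187, []), (126, [(187, [(219, 0)])]), (119, [(219, [(187, 9591042), (126, 9591042)])])]), (215, [(195, []), (170, []), (126, [(170, [(195, 0)])]), (119, [(195, [(170, 7764226), (126, 5396994)])])]), (190, [(219, []), (195, []), (187, [(195, [(219, 0)])]), (170, [(219, [(195, 5789954), (187, 5921026)])])]), (183, []), (175, [(187, []), (170, [])]), (166, [(219, []), (195, [])]), (123, [(219, []), (126, []), (111, [(219, [(126, 0)])])]), (106, [(195, []), (126, []), (111, [(195, [(126, 0)])])])]), (18, [(219, [(222, []), (187, []), (123, [(187, [(222, 0)])])]), (215, [(222, []), (183, []), (119, [(183, [(222, 0)])])]), (195, []),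 (190, [(222, []), (187, []), (183, [(187, [(222, 0)])]), (175, [(222, [(187, 11950338), (183, 5789954)])])]), (170, [(187, []), (175, []), (119, [(175, [(187, 0)])])]), (166, [(183, []), (175, []), (123, [(175, [(183, 0)])])]), (126, [(222, []), (123, []), (119, [(123, [(222, 0)])]), (111, [(222, [(123, 11950338), (119, 5789954)])])]), (106, [(183, []), (123, []), (111, [(183, [(123, 0)])])]), (102, [(187, []), (119, []), (111, [(187, [(119, 0)])])])]), (15, [(222, []), (219, [(195, []), (166, []), (102, [(166, [(195, 0)])])]), (215, [(195, []), (170, []), (106, [(170, [(195, 0)])])]), (190, [(195, []), (175, [(195, [])]), (170, []), (166, [(170, [(195, 7764226), (175, 5658882)])])]), (187, [(175, []), (170, []), (102, [(175, [(170, 0)])])]), (183, [(175, []), (166, []), (106, [(175, [(166, 0)])])]), (126, [(195, []), (111, [(195, [])]), (106, []), (102, [(106, [(195, 5527810), (111, 5658882)])])]), (123, [(166, []), (111, [(166, [])]), (106, [])]), (119, [(170, []), (111, [(170, [])]), (102, [])]), (18, [(175, []), (111, [(175, [])])])]), (10,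 [(222, [(215, []), (183, []), (119, [(183, [(215, 0)])]), (18, [(215, [(183, 5396994), (119, 8157442)])])]), (219, []), (195, [(215, []), (170, []), (106, [(170, [(215, 0)])]), (15, [(215, [(170, 1), (106, 6052098)])])]), (190, [(215, []), (183, []), (175, [(215, [(183, 0)])]), (170, [(183, [(215, 5658882), (175, 5527810)])])]), (187, [(175, []), (170, []), (119, [(175, [(170, 0)])]), (18, [(170, [(175, 5658882), (119, 5527810)])])]), (166, [(183, []), (175, []), (106, [(175, [(183, 0)])]), (15, [(183, [(175, 9591042), (106, 9591042)])])]), (126, [(215, []), (119, []), (111, [(215, [(119, 0)])]), (106, [(119, [(215, 5658882), (111, 5527810)])])]), (123, [(183, []), (111, [(183, [])]), (106, []), (18, [(106, [(183, 5527810), (111, 5658882)])])]), (102, [(170, []), (119, []), (111, [(170, [(119, 0)])]), (15, [(119, [(170, 9591042), (111, 9591042)])])])]), (6, [(222, [(219, []), (187, []), (123, [(187, [(219, 0)])]), (18, [(219, [(187, 6052098), (123, 6052098)])])]), (215, []), (195, [(219, []), (166, []), (102, [(166, [(219, 0)])]), (15, [(219, [(166,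 5396994), (102, 1)])])]), (190, [(219, []), (187, []), (175, [(219, [(187, 0)])]), (166, [(187, [(219, 6052098), (175, 6052098)])])]), (183, [(175, []), (166, []), (123, [(175, [(166, 0)])]), (18, [(166, [(175, 7764226), (123, 5396994)])])]), (170, [(187, []), (175, []), (102, [(175, [(187, 0)])]), (15, [(187, [(175, 5921026), (102, 9599234)])])]), (126, [(219, []), (123, []), (111, [(219, [(123, 0)])]), (102, [(123, [(219, 6052098), (111, 7633154)])])]), (119, [(187, []), (111, [(187, [])]), (102, []), (18, [(102, [(187, 7633154), (111, 7764226)])])]), (106, [(166, []), (123, []), (111, [(166, [(123, 0)])]), (15, [(123, [(166, 5789954), (111, 5921026)])])]), (10, [(175, []), (111, [(175, [])]), (18, []), (15, [(18, [(175, 6183426), (111, 6183170)])])])])] = true := by decide +kernel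

theorem ct0_55 : T0.chk1 sv0 lo0 55 [(250, []), (235, []), (219, [(235, [(250, [])])]), (195, [(250, [(235, []), (219, [(235, [])])])]), (190, []), (183, [(250, [(190, [])]), (235, [(190, [])]), (219, [(190, [])]), (195, [(190, [])])]), (175, [(219, [(250, []), (190, [])]), (195, [(235, []), (190, [])])]), (166, [(250, [(219, []), (190, []), (175, [(219, [(190, 0)])])]), (235, [(195, []), (190, []), (175, [(195, [(190, 0)])])])]), (159, [(235, [(250, []), (190, [])]), (195, [(219, []), (190, [])]), (175, [(250, []), (190, []), (183, [(250, [(190, 0)])])]), (166, [(219, []), (190, []), (183, [(219, [(190, 0)])])])]), (150, [(250, [(235, []), (190, []), (159, [(235, [(190, 0)])])]), (219, [(195, []), (190, []), (159, [(195, [(190, 0)])])]), (175, [(235, []), (190, []), (183, [(235, [(190, 0)])])]), (166, [(195, []), (190, []), (183, [(195, [(190, 0)])])])]), (126, [(190, [(250, []), (235, []), (219, [(235, [(250, 0)])]), (195, [(250, [(235, 9869570), (219, 16423170)])])]), (183, []), (175, [(250, []), (235, [])]), (166, [(219, []), (195, [])]),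 (159, [(250, []), (219, [])]), (150, [(235, []), (195, [])])]), (119, [(250, [(126, [])]), (235, [(126, [])]), (219, [(126, [])]), (195, [(126, [])]), (190, []), (183, []), (175, []), (166, []), (159, []), (150, [])]), (111, [(219, [(250, []), (159, []), (126, [(159, [(250, 0)])])]), (195, [(235, []), (150, []), (126, [(150, [(235, 0)])])]), (190, [(250, []), (235, []), (159, [(235, [(250, 0)])]), (150, [(250, [(235, 9599234), (159, 11950338)])])]), (183, [(159, []), (150, [])]), (175, [(250, []), (235, [])]), (166, [])]), (102, [(250, [(219, []), (159, []), (126, [(159, [(219, 0)])]), (111, [(219, [(159, 9984258), (126, 11696386)])])]), (235, [(195, []), (150, []), (126, [(150, [(195, 0)])]), (111, [(195, [(150, 5658882), (126, 14047490)])])]), (190, [(219, []), (195, []), (159, [(195, [(219, 0)])]), (150, [(219, [(195, 16406786), (159, 5658882)])])]), (183, [(159, []), (150, [])]), (175, []), (166, [(219, []), (195, [])])]), (95, [(235, [(250, []), (175, []), (126, [(175, [(250, 0)])])]), (195, [(219, []), (166, []), (126, [(166, [(219, 0)])])]),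 (190, [(250, []), (219, []), (175, [(219, [(250, 0)])]), (166, [(250, [(219, 5921026), (175, 9853186)])])]), (183, [(175, []), (166, [])]), (159, [(250, []), (219, [])]), (150, []), (111, [(250, []), (126, []), (119, [(250, [(126, 0)])])]), (102, [(219, []), (126, []), (119, [(219, [(126, 0)])])])]), (86, [(250, [(235, []), (175, []), (126, [(175, [(235, 0)])]), (95, [(235, [(175, 5658882), (126, 5658882)])])]), (219, [(195, []), (166, []), (126, [(166, [(195, 0)])]), (95, [(195, [(166, 5658882), (126, 14047490)])])]), (190, [(235, []), (195, []), (175, [(195, [(235, 0)])]), (166, [(235, [(195, 16406786), (175, 5658882)])])]), (183, [(175, []), (166, [])]), (159, []), (150, [(235, []), (195, [])]), (111, [(235, []), (126, []), (119, [(235, [(126, 0)])])]), (102, [(195, []), (126, []), (119, [(195, [(126, 0)])])])]), (51, [(250, []), (235, [(195, []), (150, []), (86, [(150, [(195, 0)])])]), (219, [(195, []), (166, []), (102, [(166, [(195, 0)])])]), (190, [(195, []), (183, [(195, [])]), (166, []), (150, [(166, [(195, 5658882), (183, 8026370)])])]),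 (175, [(183, []), (166, []), (86, [(183, [(166, 0)])])]), (159, [(183, []), (150, []), (102, [(183, [(150, 0)])])]), (126, [(195, []), (119, [(195, [])]), (102, []), (86, [(102, [(195, 7895298), (119, 5658882)])])]), (111, [(150, []), (119, [(150, [])]), (102, [])]), (95, [(166, []), (119, [(166, [])]), (86, [])])]), (34, [(250, [(219, []), (159, []), (95, [(159, [(219, 0)])])]), (235, []), (195, [(219, []), (166, []), (102, [(166, [(219, 0)])]), (51, [(219, [(166, 5921026), (102, 1)])])]), (190, [(219, []), (183, [(219, [])]), (166, []), (159, [(166, [(219, 7895298), (183, 5658882)])])]), (175, [(183, []), (166, []), (95, [(183, [(166, 0)])])]), (150, [(183, []), (159, []), (102, [(183, [(159, 0)])]), (51, [(159, [(183, 5921026), (102, 9599234)])])]), (126, [(219, []), (119, [(219, [])]), (102, []), (95, [(102, [(219, 7895298), (119, 5658882)])])]), (111, [(159, []), (119, [(159, [])]), (102, [])]), (86, [(166, []), (119, [(166, [])]), (95, []), (51, [(95, [(166, 5921026), (119, 5921026)])])])]), (18, [(250, [(235, []), (175, []), (111, [(175,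 [(235, 0)])])]), (219, []), (195, [(235, []), (150, []), (86, [(150, [(235, 0)])]), (51, [(235, [(150, 1), (86, 5921026)])])]), (190, [(235, []), (183, [(235, [])]), (175, []), (150, [(175, [(235, 5658882), (183, 8026370)])])]), (166, [(183, []), (175, []), (86, [(183, [(175, 0)])]), (51, [(175, [(183, 5921026), (86, 5921026)])])]), (159, [(183, []), (150, []), (111, [(183, [(150, 0)])])]), (126, [(235, []), (119, [(235, [])]), (111, []), (86, [(111, [(235, 5658882), (119, 8026370)])])]), (102, [(150, []), (119, [(150, [])]), (111, []), (51, [(111, [(150, 11696386), (119, 5921026)])])]), (95, [(175, []), (119, [(175, [])]), (86, [])]), (34, [(183, []), (119, [(183, [])]), (51, [])])]), (10, [(235, [(250, []), (175, []), (111, [(175, [(250, 0)])]), (18, [(250, [(175, 5921026), (111, 5921026)])])]), (219, [(250, []), (159, []), (95, [(159, [(250, 0)])]), (34, [(250, [(159, 5921026), (95, 5921026)])])]), (195, []), (190, [(250, []), (183, [(250, [])]), (175, []), (159, [(175, [(250, 9853186), (183, 11950338)])])]), (166, [(183, []), (175, []), (95,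 [(183, [(175, 0)])]), (34, [(175, [(183, 8157442), (95, 14309634)])])]), (150, [(183, []), (159, []), (111, [(183, [(159, 0)])]), (18, [(159, [(183, 5527810), (111, 14309634)])])]), (126, [(250, []), (119, [(250, [])]), (111, []), (95, [(111, [(250, 9853186), (119, 11950338)])])]), (102, [(159, []), (119, [(159, [])]), (111, []), (34, [(111, [(159, 16406786), (119, 5527810)])])]), (86, [(175, []), (119, [(175, [])]), (95, []), (18, [(95, [(175, 16406786), (119, 8157442)])])]), (51, [(183, []), (119, [(183, [])]), (34, []), (18, [(34, [(183, 5527810), (119, 5527810)])])])])] = true := by decide +kernel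

theorem ct0_59 : T0.chk1 sv0 lo0 59 [(246, []), (231, []), (215, [(231, [(246, [])])]), (195, [(246, [(231, []), (215, [(231, [])])])]), (190, []), (187, [(246, [(190, [])]), (231, [(190, [])]), (215, [(190, [])]), (195, [(190, [])])]), (175, [(215, [(246, []), (190, [])]), (195, [(231, []), (190, [])])]), (170, [(246, [(215, []), (190, []), (175, [(215, [(190, 0)])])]), (231, [(195, []), (190, []), (175, [(195, [(190, 0)])])])]), (159, [(231, [(246, []), (190, [])]), (195, [(215, []), (190, [])]), (175, [(246, []), (190, []), (187, [(246, [(190, 0)])])]), (170, [(215, []), (190, []), (187, [(215, [(190, 0)])])])]), (154, [(246, [(231, []), (190, []), (159, [(231, [(190, 0)])])]), (215, [(195, []), (190, []), (159, [(195, [(190, 0)])])]), (175, [(231, []), (190, []), (187, [(231, [(190, 0)])])]), (170, [(195, []), (190, []), (187, [(195, [(190, 0)])])])]), (126, [(190, [(246, []), (231, []), (215, [(231, [(246, 0)])]), (195, [(246, [(231, 14326018), (215, 9738498)])])]), (187, []), (175, [(246, []), (231, [])]), (170, [(215, []), (195, [])]),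 (159, [(246, []), (215, [])]), (154, [(231, []), (195, [])])]), (123, [(246, [(126, [])]), (231, [(126, [])]), (215, [(126, [])]), (195, [(126, [])]), (190, []), (187, []), (175, []), (170, []), (159, []), (154, [])]), (111, [(215, [(246, []), (159, []), (126, [(159, [(246, 0)])])]), (195, [(231, []), (154, []), (126, [(154, [(231, 0)])])]), (190, [(246, []), (231, []), (159, [(231, [(246, 0)])]), (154, [(246, [(231, 9591042), (159, 9591042)])])]), (187, [(159, []), (154, [])]), (175, [(246, []), (231, [])]), (170, [])]), (106, [(246, [(215, []), (159, []), (126, [(159, [(215, 0)])]), (111, [(215, [(159, 11688194), (126, 11688194)])])]), (231, [(195, []), (154, []), (126, [(154, [(195, 0)])]), (111, [(195, [(154, 6052098), (126, 16013570)])])]), (190, [(215, []), (195, []), (159, [(195, [(215, 0)])]), (154, [(215, [(195, 14178562), (159, 5527810)])])]), (187, [(159, []), (154, [])]), (175, []), (170, [(215, []), (195, [])])]), (95, [(231, [(246, []), (175, []), (126, [(175, [(246, 0)])])]), (195, [(215, []), (170, []), (126, [(170, [(215, 0)])])]),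 (190, [(246, []), (215, []), (175, [(215, [(246, 0)])]), (170, [(246, [(215, 11688194), (175, 11688194)])])]), (187, [(175, []), (170, [])]), (159, [(246, []), (215, [])]), (154, []), (111, [(246, []), (126, []), (123, [(246, [(126, 0)])])]), (106, [(215, []), (126, []), (123, [(215, [(126, 0)])])])]), (90, [(246, [(231, []), (175, []), (126, [(175, [(231, 0)])]), (95, [(231, [(175, 9591042), (126, 9591042)])])]), (215, [(195, []), (170, []), (126, [(170, [(195, 0)])]), (95, [(195, [(170, 7764226), (126, 16013570)])])]), (190, [(231, []), (195, []), (175, [(195, [(231, 0)])]), (170, [(231, [(195, 5658882), (175, 7764226)])])]), (187, [(175, []), (170, [])]), (159, []), (154, [(231, []), (195, [])]), (111, [(231, []), (126, []), (123, [(231, [(126, 0)])])]), (106, [(195, []), (126, []), (123, [(195, [(126, 0)])])])]), (51, [(246, []), (231, [(195, []), (154, []), (90, [(154, [(195, 0)])])]), (215, [(195, []), (170, []), (106, [(170, [(195, 0)])])]), (190, [(195, []), (187, [(195, [])]), (170, []), (154, [(170, [(195, 5789954), (187, 5921026)])])]),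 (175, [(187, []), (170, []), (90, [(187, [(170, 0)])])]), (159, [(187, []), (154, []), (106, [(187, [(154, 0)])])]), (126, [(195, []), (123, [(195, [])]), (106, []), (90, [(106, [(195, 5789954), (123, 5921026)])])]), (111, [(154, []), (123, [(154, [])]), (106, [])]), (95, [(170, []), (123, [(170, [])]), (90, [])])]), (34, [(246, [(215, []), (159, []), (95, [(159, [(215, 0)])])]), (231, []), (195, [(215, []), (170, []), (106, [(170, [(215, 0)])]), (51, [(215, [(170, 1), (106, 5396994)])])]), (190, [(215, []), (187, [(215, [])]), (170, []), (159, [(170, [(215, 5789954), (187, 5921026)])])]), (175, [(187, []), (170, []), (95, [(187, [(170, 0)])])]), (154, [(187, []), (159, []), (106, [(187, [(159, 0)])]), (51, [(159, [(187, 9591042), (106, 9591042)])])]), (126, [(215, []), (123, [(215, [])]), (106, []), (95, [(106, [(215, 5789954), (123, 5921026)])])]), (111, [(159, []), (123, [(159, [])]), (106, [])]), (90, [(170, []), (123, [(170, [])]), (95, []), (51, [(95, [(170, 9591042), (123, 9591042)])])])]), (18, [(246, [(231, []), (175, []), (111, [(175,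 [(231, 0)])])]), (215, []), (195, [(231, []), (154, []), (90, [(154, [(231, 0)])]), (51, [(231, [(154, 5396994), (90, 1)])])]), (190, [(231, []), (187, [(231, [])]), (175, []), (154, [(175, [(231, 5789954), (187, 5921026)])])]), (170, [(187, []), (175, []), (90, [(187, [(175, 0)])]), (51, [(175, [(187, 11688194), (90, 11688194)])])]), (159, [(187, []), (154, []), (111, [(187, [(154, 0)])])]), (126, [(231, []), (123, [(231, [])]), (111, []), (90, [(111, [(231, 5789954), (123, 5921026)])])]), (106, [(154, []), (123, [(154, [])]), (111, []), (51, [(111, [(154, 11688194), (123, 11688194)])])]), (95, [(175, []), (123, [(175, [])]), (90, [])]), (34, [(187, []), (123, [(187, [])]), (51, [])])]), (6, [(231, [(246, []), (175, []), (111, [(175, [(246, 0)])]), (18, [(246, [(175, 8026370), (111, 5396994)])])]), (215, [(246, []), (159, []), (95, [(159, [(246, 0)])]), (34, [(246, [(159, 5396994), (95, 8026370)])])]), (195, []), (190, [(246, []), (187, [(246, [])]), (175, []), (159, [(175, [(246, 5789954), (187, 5921026)])])]), (170, [(187, []), (175, []), (95,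 [(187, [(175, 0)])]), (34, [(175, [(187, 6052098), (95, 6052098)])])]), (154, [(187, []), (159, []), (111, [(187, [(159, 0)])]), (18, [(159, [(187, 6052098), (111, 6052098)])])]), (126, [(246, []), (123, [(246, [])]), (111, []), (95, [(111, [(246, 5789954), (123, 5921026)])])]), (106, [(159, []), (123, [(159, [])]), (111, []), (34, [(111, [(159, 6052098), (123, 6052098)])])]), (90, [(175, []), (123, [(175, [])]), (95, []), (18, [(95, [(175, 6052098), (123, 6052098)])])]), (51, [(187, []), (123, [(187, [])]), (34, []), (18, [(34, [(187, 7633154), (123, 7633154)])])])])] = true := by decide +kernel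

theorem ct0_62 : T0.chk1 sv0 lo0 62 [(190, []), (187, []), (183, [(187, [(190, [])])]), (175, []), (170, [(183, [(190, []), (175, [])])]), (166, [(187, [(190, []), (175, [])]), (170, [(190, []), (175, [])])]), (159, [(175, [(190, []), (187, []), (183, [(187, [(190, 0)])])]), (170, [(190, []), (187, [])]), (166, [(190, []), (183, [])])]), (154, [(183, [(190, []), (166, []), (159, [(166, [(190, 0)])])]), (175, [(190, []), (187, []), (166, [(187, [(190, 0)])])]), (170, [(190, []), (187, [])])]), (150, [(187, [(190, []), (170, []), (159, [(170, [(190, 0)])])]), (175, [(190, []), (183, []), (170, [(183, [(190, 0)])])]), (166, [(190, []), (183, [])]), (154, [(190, []), (159, [])])]), (130, [(187, [(190, []), (170, []), (154, [(170, [(190, 0)])])]), (183, [(190, []), (166, []), (150, [(166, [(190, 0)])])]), (175, [(190, []), (170, []), (166, [(170, [(190, 0)])])]), (159, [(190, []), (154, []), (150, [(154, [(190, 0)])])])]), (126, [(190, []), (187, []), (183, []), (175, []), (170, []), (166, []), (159, []), (154, []), (150, []), (130, [])]), (123, [(190,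 [(183, []), (166, []), (150, [(166, [(183, 0)])]), (130, [(183, [(166, 8157442), (150, 8157442)])])]), (187, []), (175, [(183, []), (166, [])]), (170, [(150, []), (130, [])]), (159, [(183, []), (150, [])]), (154, [(166, []), (130, [])])]), (119, [(190, [(187, []), (170, []), (154, [(170, [(187, 0)])]), (130, [(187, [(170, 6052098), (154, 6052098)])])]), (183, []), (175, [(187, []), (170, [])]), (166, [(154, []), (130, [])]), (159, [(187, []), (154, [])]), (150, [(170, []), (130, [])]), (123, [(130, []), (126, [(130, [])])])]), (111, [(190, [(159, []), (154, []), (150, [(154, [(159, 0)])]), (130, [(159, [(154, 14309634), (150, 5527810)])])]), (187, [(159, []), (154, []), (119, [(159, [(154, 0)])])]), (183, [(159, []), (150, []), (123, [(159, [(150, 0)])])]), (175, []), (170, [(150, []), (130, []), (119, [(150, [(130, 0)])])]), (166, [(154, []), (130, []), (123, [(154, [(130, 0)])])])]), (106, [(190, [(183, []), (166, []), (159, [(166, [(183, 0)])]), (154, [(183, [(166, 9591042), (159, 9591042)])])]), (187, [(159, []), (154, [])]), (175, [(183, []),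 (166, [])]), (170, []), (150, [(183, []), (159, []), (123, [(159, [(183, 0)])]), (111, [(183, [(159, 11688450), (123, 11688450)])])]), (130, [(166, []), (154, []), (123, [(154, [(166, 0)])]), (111, [(166, [(154, 6052098), (123, 6052098)])])]), (119, [(154, []), (126, [(154, [])]), (111, [])])]), (102, [(190, [(187, []), (170, []), (159, [(170, [(187, 0)])]), (150, [(187, [(170, 6052098), (159, 6052098)])])]), (183, [(159, []), (150, [])]), (175, [(187, []), (170, [])]), (166, []), (154, [(187, []), (159, []), (119, [(159, [(187, 0)])]), (111, [(187, [(159, 9591298), (119, 9591298)])])]), (130, [(170, []), (150, []), (119, [(150, [(170, 0)])]), (111, [(170, [(150, 21446913), (119, 5396994)])])]), (123, [(150, []), (126, [(150, [])]), (111, [])]), (106, [(159, []), (126, [(159, [])]), (111, [])])]), (95, [(190, [(175, []), (170, []), (166, [(170, [(175, 0)])]), (130, [(175, [(170, 5659138), (166, 5527810)])])]), (187, [(175, []), (170, []), (119, [(175, [(170, 0)])])]), (183, [(175, []), (166, []), (123, [(175, [(166, 0)])])]), (159, []), (154, [(166,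 []), (130, []), (119, [(166, [(130, 0)])])]), (150, [(170, []), (130, []), (123, [(170, [(130, 0)])])]), (111, [(130, []), (126, [(130, [])]), (123, []), (119, [(123, [(130, 5527810), (126, 5658882)])])]), (106, [(166, []), (126, [(166, [])]), (123, [])]), (102, [(170, []), (126, [(170, [])]), (119, [])])]), (90, [(190, [(183, []), (175, []), (170, [(183, [(175, 0)])]), (150, [(175, [(183, 11688194), (170, 11688194)])])]), (187, [(175, []), (170, []), (102, [(175, [(170, 0)])])]), (166, [(183, []), (175, []), (123, [(175, [(183, 0)])]), (95, [(183, [(175, 9591298), (123, 9591298)])])]), (159, [(183, []), (150, []), (102, [(183, [(150, 0)])])]), (154, []), (130, [(170, []), (150, []), (123, [(170, [(150, 0)])]), (95, [(150, [(170, 21315841), (123, 6052098)])])]), (119, [(170, []), (126, [(170, [])]), (102, []), (95, [(102, [(170, 9591042), (126, 9591042)])])]), (111, [(150, []), (126, [(150, [])]), (123, []), (102, [(123, [(150, 5527810), (126, 5658882)])])]), (106, [(183, []), (126, [(183, [])]), (123, [])])]), (86, [(190, [(187, []), (175, []),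 (166, [(187, [(175, 0)])]), (154, [(175, [(187, 5921026), (166, 5789954)])])]), (183, [(175, []), (166, []), (106, [(175, [(166, 0)])])]), (170, [(187, []), (175, []), (119, [(175, [(187, 0)])]), (95, [(187, [(175, 11688450), (119, 11688450)])])]), (159, [(187, []), (154, []), (106, [(187, [(154, 0)])])]), (150, []), (130, [(166, []), (154, []), (119, [(166, [(154, 0)])]), (95, [(154, [(166, 5396994), (119, 8157442)])])]), (123, [(166, []), (126, [(166, [])]), (106, []), (95, [(106, [(166, 5789954), (126, 5921026)])])]), (111, [(154, []), (126, [(154, [])]), (119, []), (106, [(119, [(154, 11688194), (126, 11688194)])])]), (102, [(187, []), (126, [(187, [])]), (119, [])]), (90, [(175, []), (126, [(175, [])]), (95, [])])]), (66, [(190, [(187, []), (183, [(187, [])]), (175, []), (159, [(175, [(187, 5921026), (183, 5789954)])])]), (170, [(187, []), (175, []), (102, [(175, [(187, 0)])]), (90, [(187, [(175, 5921026), (102, 23421185)])])]), (166, [(183, []), (175, []), (106, [(175, [(183, 0)])]), (86, [(183, [(175, 8026370), (106, 5396994)])])]), (154,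 [(187, []), (159, []), (106, [(187, [(159, 0)])]), (86, [(159, [(187, 6052098), (106, 6052098)])])]), (150, [(183, []), (159, []), (102, [(183, [(159, 0)])]), (90, [(159, [(183, 5396994), (102, 23552257)])])]), (130, []), (123, [(183, []), (126, [(183, [])]), (106, []), (90, [(106, [(183, 5789954), (126, 5921026)])])]), (119, [(187, []), (126, [(187, [])]), (102, []), (86, [(102, [(187, 7895298), (126, 8026370)])])]), (111, [(159, []), (126, [(159, [])]), (106, []), (102, [(106, [(159, 6052098), (126, 16144642)])])]), (95, [(175, []), (126, [(175, [])]), (90, []), (86, [(90, [(175, 6052098), (126, 16144642)])])])])] = true := by decide +kernel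

theorem ct0_70 : T0.chk1 sv0 lo0 70 [(250, []), (238, []), (231, [(250, [(238, [])])]), (222, [(238, [(250, [])]), (231, [])]), (215, [(250, [(222, [])]), (238, []), (231, [])]), (195, [(250, []), (238, [(231, [])]), (222, [(215, [])])]), (190, []), (183, [(250, [(238, []), (222, [(238, [])]), (190, [])]), (195, [(231, []), (215, [(231, [])]), (190, [])])]), (170, [(231, [(238, []), (195, [(238, [])]), (190, [])]), (222, [(250, []), (215, [(250, [])]), (190, [])]), (183, [(238, []), (215, [(238, [])]), (190, [])])]), (154, [(238, [(250, []), (231, [(250, [])]), (190, [])]), (215, [(222, []), (195, [(222, [])]), (190, [])]), (183, [(231, []), (222, [(231, [])]), (190, [])]), (170, [(250, []), (195, [(250, [])]), (190, [])])]), (123, [(231, [(238, []), (183, [])]), (215, [(222, []), (183, [])]), (195, []), (190, [(250, []), (238, []), (222, [(238, [(250, 0)])]), (183, [(250, [(238, 15890690), (222, 5921026)])])]), (170, [(250, []), (238, [])]), (154, [(250, []), (222, [])])]), (111, [(222, [(250, []), (154, []), (123, [(154, [(250, 0)])])]), (215,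 []), (195, [(231, []), (154, [])]), (190, [(250, []), (238, []), (231, [(250, [(238, 0)])]), (154, [(238, [(250, 7633154), (231, 16013570)])])]), (183, [(238, []), (231, []), (123, [(231, [(238, 0)])])]), (170, [(250, []), (238, [])])]), (102, [(250, [(238, []), (170, []), (111, [(170, [(238, 0)])])]), (222, []), (215, [(195, []), (170, [])]), (190, [(238, []), (231, []), (195, [(238, [(231, 0)])]), (170, [(231, [(238, 7764226), (195, 5658882)])])]), (183, [(238, []), (231, [])]), (154, [(231, []), (195, []), (111, [(195, [(231, 0)])])]), (123, [(238, []), (111, [])])]), (95, [(238, [(250, []), (170, []), (123, [(170, [(250, 0)])])]), (231, []), (195, [(215, []), (170, [])]), (190, [(250, []), (222, []), (215, [(250, [(222, 0)])]), (170, [(222, [(250, 21315841), (215, 16013570)])])]), (183, [(222, []), (215, []), (123, [(215, [(222, 0)])])]), (154, [(250, []), (222, [])]), (111, [(250, []), (123, [])]), (102, [(170, [])])]), (86, [(250, [(222, []), (154, []), (95, [(154, [(222, 0)])])]), (238, []), (231, [(195, []), (154, [])]), (190, [(222, []),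 (215, []), (195, [(222, [(215, 0)])]), (154, [(215, [(222, 7764226), (195, 5658882)])])]), (183, [(222, []), (215, [])]), (170, [(215, []), (195, []), (95, [(195, [(215, 0)])])]), (123, [(222, []), (95, [])]), (111, [(154, [])]), (102, [(195, [])])]), (66, [(250, []), (238, [(231, []), (183, []), (102, [(183, [(231, 0)])])]), (222, [(215, []), (183, []), (86, [(183, [(215, 0)])])]), (190, [(231, []), (215, [(231, [])]), (195, []), (183, [(195, [(231, 5658882), (215, 5658882)])])]), (170, [(215, []), (195, []), (102, [(215, [(195, 0)])])]), (154, [(231, []), (195, []), (86, [(231, [(195, 0)])])]), (123, [(183, [])]), (111, [(231, []), (102, [])]), (95, [(215, []), (86, [])])]), (34, [(250, [(238, []), (170, []), (123, [(170, [(238, 0)])]), (95, [(238, [(170, 5658882), (123, 16161026)])])]), (231, [(238, []), (183, []), (102, [(183, [(238, 0)])]), (66, [(238, [(183, 5921026), (102, 5921026)])])]), (222, [(215, []), (183, []), (123, [(215, [(183, 0)])]), (95, [(183, [(215, 5658882), (123, 7895298)])])]), (195, [(215, []), (170, []), (102, [(215, [(170,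 0)])]), (66, [(170, [(215, 1), (102, 5921026)])])]), (190, [(238, []), (215, [(238, [])]), (183, []), (170, [(183, [(238, 11950338), (215, 5658882)])])]), (154, []), (111, [(238, []), (123, []), (102, [(123, [(238, 0)])])]), (86, [(215, []), (95, []), (66, [(95, [(215, 0)])])])]), (18, [(250, [(222, []), (154, []), (123, [(154, [(222, 0)])]), (111, [(222, [(154, 5658882), (123, 7502338)])])]), (238, [(231, []), (183, []), (123, [(231, [(183, 0)])]), (111, [(183, [(231, 5658882), (123, 12343554)])])]), (215, [(222, []), (183, []), (86, [(183, [(222, 0)])]), (66, [(222, [(183, 5921026), (86, 8157442)])])]), (195, [(231, []), (154, []), (86, [(231, [(154, 0)])]), (66, [(154, [(231, 5921026), (86, 5921026)])])]), (190, [(231, []), (222, [(231, [])]), (183, []), (154, [(183, [(231, 5658882), (222, 11958530)])])]), (170, []), (102, [(231, []), (111, []), (66, [(111, [(231, 0)])])]), (95, [(222, []), (123, []), (86, [(123, [(222, 0)])])]), (34, [(183, []), (123, []), (66, [(123, [(183, 0)])])])]), (15, [(238, [(250, []), (170, []), (111, [(170, [(250,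 0)])]), (102, [(250, [(170, 5921026), (111, 16144642)])])]), (231, [(195, []), (154, []), (111, [(195, [(154, 0)])]), (102, [(154, [(195, 5527810), (111, 14309634)])])]), (222, [(250, []), (154, []), (95, [(154, [(250, 0)])]), (86, [(250, [(154, 7764226), (95, 16144642)])])]), (215, [(195, []), (170, []), (95, [(195, [(170, 0)])]), (86, [(170, [(195, 7764226), (95, 14309634)])])]), (190, [(250, []), (195, [(250, [])]), (170, []), (154, [(170, [(250, 6052098), (195, 6183170)])])]), (183, []), (123, [(250, []), (111, []), (95, [(111, [(250, 0)])])]), (66, [(195, []), (102, []), (86, [(102, [(195, 0)])])]), (34, [(170, []), (102, []), (95, [(102, [(170, 0)])])]), (18, [(154, []), (111, []), (86, [(111, [(154, 0)])])])]), (6, [(250, [(123, []), (111, []), (95, [(111, [(123, 0)])]), (15, [(123, [(111, 15890690), (95, 5658882)])])]), (238, [(123, []), (111, []), (102, [(123, [(111, 0)])]), (34, [(111, [(123, 5658882), (102, 7764226)])])]), (231, [(111, []), (102, []), (66, [(111, [(102, 0)])]), (18, [(102, [(111, 6052098), (66, 6183170)])])]), (222,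 [(123, []), (95, []), (86, [(123, [(95, 0)])]), (18, [(95, [(123, 5658882), (86, 7764226)])])]), (215, [(95, []), (86, []), (66, [(95, [(86, 0)])]), (34, [(86, [(95, 6052098), (66, 6183170)])])]), (195, [(102, []), (86, [(102, [])]), (66, []), (15, [(66, [(102, 15890690), (86, 5789954)])])]), (190, []), (183, [(123, []), (66, [(123, [])]), (34, []), (18, [(34, [(123, 6052098), (66, 31678721)])])]), (170, [(102, []), (95, [(102, [])]), (34, []), (15, [(34, [(102, 1), (95, 9853186)])])]), (154, [(111, []), (86, [(111, [])]), (18, []), (15, [(18, [(111, 11950338), (86, 5658882)])])])])] = true := by decide +kernel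

theorem ct0_74 : T0.chk1 sv0 lo0 74 [(246, []), (238, []), (235, [(246, [(238, [])])]), (222, [(238, [(246, [])]), (235, [])]), (219, [(246, [(222, [])]), (238, []), (235, [])]), (195, [(246, []), (238, [(235, [])]), (222, [(219, [])])]), (190, []), (187, [(246, [(238, []), (222, [(238, [])]), (190, [])]), (195, [(235, []), (219, [(235, [])]), (190, [])])]), (166, [(235, [(238, []), (195, [(238, [])]), (190, [])]), (222, [(246, []), (219, [(246, [])]), (190, [])]), (187, [(238, []), (219, [(238, [])]), (190, [])])]), (150, [(238, [(246, []), (235, [(246, [])]), (190, [])]), (219, [(222, []), (195, [(222, [])]), (190, [])]), (187, [(235, []), (222, [(235, [])]), (190, [])]), (166, [(246, []), (195, [(246, [])]), (190, [])])]), (119, [(235, [(238, []), (187, [])]), (219, [(222, []), (187, [])]), (195, []), (190, [(246, []), (238, []), (222, [(238, [(246, 0)])]), (187, [(246, [(238, 15882498), (222, 15882498)])])]), (166, [(246, []), (238, [])]), (150, [(246, []), (222, [])])]), (111, [(222, [(246, []), (150, []), (119, [(150, [(246, 0)])])]), (219,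 []), (195, [(235, []), (150, [])]), (190, [(246, []), (238, []), (235, [(246, [(238, 0)])]), (150, [(238, [(246, 21446913), (235, 5658882)])])]), (187, [(238, []), (235, []), (119, [(235, [(238, 0)])])]), (166, [(246, []), (238, [])])]), (106, [(246, [(238, []), (166, []), (111, [(166, [(238, 0)])])]), (222, []), (219, [(195, []), (166, [])]), (190, [(238, []), (235, []), (195, [(238, [(235, 0)])]), (166, [(235, [(238, 5658882), (195, 7764226)])])]), (187, [(238, []), (235, [])]), (150, [(235, []), (195, []), (111, [(195, [(235, 0)])])]), (119, [(238, []), (111, [])])]), (95, [(238, [(246, []), (166, []), (119, [(166, [(246, 0)])])]), (235, []), (195, [(219, []), (166, [])]), (190, [(246, []), (222, []), (219, [(246, [(222, 0)])]), (166, [(222, [(246, 5527810), (219, 5658882)])])]), (187, [(222, []), (219, []), (119, [(219, [(222, 0)])])]), (150, [(246, []), (222, [])]), (111, [(246, []), (119, [])]), (106, [(166, [])])]), (90, [(246, [(222, []), (150, []), (95, [(150, [(222, 0)])])]), (238, []), (235, [(195, []), (150, [])]), (190, [(222, []),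 (219, []), (195, [(222, [(219, 0)])]), (150, [(219, [(222, 5658882), (195, 5527810)])])]), (187, [(222, []), (219, [])]), (166, [(219, []), (195, []), (95, [(195, [(219, 0)])])]), (119, [(222, []), (95, [])]), (111, [(150, [])]), (106, [(195, [])])]), (66, [(246, []), (238, [(235, []), (187, []), (106, [(187, [(235, 0)])])]), (222, [(219, []), (187, []), (90, [(187, [(219, 0)])])]), (190, [(235, []), (219, [(235, [])]), (195, []), (187, [(195, [(235, 15882498), (219, 15882498)])])]), (166, [(219, []), (195, []), (106, [(219, [(195, 0)])])]), (150, [(235, []), (195, []), (90, [(235, [(195, 0)])])]), (119, [(187, [])]), (111, [(235, []), (106, [])]), (95, [(219, []), (90, [])])]), (34, [(246, [(238, []), (166, []), (119, [(166, [(238, 0)])]), (95, [(238, [(166, 7764226), (119, 5396994)])])]), (235, [(238, []), (187, []), (106, [(187, [(238, 0)])]), (66, [(238, [(187, 6052098), (106, 6052098)])])]), (222, [(219, []), (187, []), (119, [(219, [(187, 0)])]), (95, [(187, [(219, 5921026), (119, 5789954)])])]), (195, [(219, []), (166, []), (106, [(219,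 [(166, 0)])]), (66, [(166, [(219, 8026370), (106, 8026370)])])]), (190, [(238, []), (219, [(238, [])]), (187, []), (166, [(187, [(238, 9853186), (219, 6052098)])])]), (150, []), (111, [(238, []), (119, []), (106, [(119, [(238, 0)])])]), (90, [(219, []), (95, []), (66, [(95, [(219, 0)])])])]), (18, [(246, [(222, []), (150, []), (119, [(150, [(222, 0)])]), (111, [(222, [(150, 7764226), (119, 14063874)])])]), (238, [(235, []), (187, []), (119, [(235, [(187, 0)])]), (111, [(187, [(235, 5921026), (119, 5789954)])])]), (219, [(222, []), (187, []), (90, [(187, [(222, 0)])]), (66, [(222, [(187, 6052098), (90, 6052098)])])]), (195, [(235, []), (150, []), (90, [(235, [(150, 0)])]), (66, [(150, [(235, 1), (90, 5396994)])])]), (190, [(235, []), (222, [(235, [])]), (187, []), (150, [(187, [(235, 6052098), (222, 11950338)])])]), (166, []), (106, [(235, []), (111, []), (66, [(111, [(235, 0)])])]), (95, [(222, []), (119, []), (90, [(119, [(222, 0)])])]), (34, [(187, []), (119, []), (66, [(119, [(187, 0)])])])]), (15, [(238, [(246, []), (166, []), (111, [(166,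 [(246, 0)])]), (106, [(246, [(166, 5658882), (111, 5527810)])])]), (235, [(195, []), (150, []), (111, [(195, [(150, 0)])]), (106, [(150, [(195, 5658882), (111, 5527810)])])]), (222, [(246, []), (150, []), (95, [(150, [(246, 0)])]), (90, [(246, [(150, 5658882), (95, 16152834)])])]), (219, [(195, []), (166, []), (95, [(195, [(166, 0)])]), (90, [(166, [(195, 5658882), (95, 14317826)])])]), (190, [(246, []), (195, [(246, [])]), (166, []), (150, [(166, [(246, 8157442), (195, 5396994)])])]), (187, []), (119, [(246, []), (111, []), (95, [(111, [(246, 0)])])]), (66, [(195, []), (106, []), (90, [(106, [(195, 0)])])]), (34, [(166, []), (106, []), (95, [(106, [(166, 0)])])]), (18, [(150, []), (111, []), (90, [(111, [(150, 0)])])])]), (10, [(246, [(119, []), (111, []), (95, [(111, [(119, 0)])]), (15, [(119, [(111, 15882498), (95, 15882498)])])]), (238, [(119, []), (111, []), (106, [(119, [(111, 0)])]), (34, [(111, [(119, 5527810), (106, 5658882)])])]), (235, [(111, []), (106, []), (66, [(111, [(106, 0)])]), (18, [(106, [(111, 5658882), (66, 5527810)])])]),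 (222, [(119, []), (95, []), (90, [(119, [(95, 0)])]), (18, [(95, [(119, 5527810), (90, 5658882)])])]), (219, [(95, []), (90, []), (66, [(95, [(90, 0)])]), (34, [(90, [(95, 5658882), (66, 5527810)])])]), (195, [(106, []), (90, [(106, [])]), (66, []), (15, [(66, [(106, 15882498), (90, 15882498)])])]), (190, []), (187, [(119, []), (66, [(119, [])]), (34, []), (18, [(34, [(119, 29581569), (66, 5396994)])])]), (166, [(106, []), (95, [(106, [])]), (34, []), (15, [(34, [(106, 6052098), (95, 6052098)])])]), (150, [(111, []), (90, [(111, [])]), (18, []), (15, [(18, [(111, 6052098), (90, 1)])])])])] = true := by decide +kernel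

theorem ct0_79 : T0.chk1 sv0 lo0 79 [(238, []), (235, []), (231, [(235, [(238, [])])]), (222, [(238, []), (235, []), (231, [])]), (219, [(238, [(231, [])]), (235, [])]), (215, [(238, [(235, [])]), (231, []), (219, [(222, [])])]), (190, []), (187, [(231, [(238, []), (219, [(238, [])]), (190, [])]), (215, [(235, []), (222, [(235, [])]), (190, [])])]), (183, [(235, [(238, []), (215, [(238, [])]), (190, [])]), (219, [(231, []), (222, [(231, [])]), (190, [])]), (187, [(238, []), (222, [(238, [])]), (190, [])])]), (130, [(238, [(235, []), (231, [(235, [])]), (190, [])]), (222, [(219, []), (215, [(219, [])]), (190, [])]), (187, [(235, []), (219, [(235, [])]), (190, [])]), (183, [(231, []), (215, [(231, [])]), (190, [])])]), (111, [(222, []), (219, [(231, []), (130, [])]), (215, [(235, []), (130, [])]), (190, [(238, []), (235, []), (231, [(235, [(238, 0)])]), (130, [(238, [(235, 5658882), (231, 5527810)])])]), (187, [(238, []), (235, [])]), (183, [(238, []), (231, [])])]), (106, [(231, [(238, []), (183, []), (111, [(183, [(238, 0)])])]), (222, [(215,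 []), (183, [])]), (219, []), (190, [(238, []), (235, []), (215, [(238, [(235, 0)])]), (183, [(235, [(238, 5658882), (215, 5527810)])])]), (187, [(238, []), (235, [])]), (130, [(235, []), (215, []), (111, [(215, [(235, 0)])])])]), (102, [(235, [(238, []), (187, []), (111, [(187, [(238, 0)])])]), (222, [(219, []), (187, [])]), (215, []), (190, [(238, []), (231, []), (219, [(238, [(231, 0)])]), (187, [(231, [(238, 15882498), (219, 15882498)])])]), (183, [(238, []), (231, [])]), (130, [(231, []), (219, []), (111, [(219, [(231, 0)])])]), (106, [(238, []), (111, [])])]), (95, [(238, []), (235, [(215, []), (130, [])]), (231, [(219, []), (130, [])]), (190, [(222, []), (219, []), (215, [(219, [(222, 0)])]), (130, [(222, [(219, 5658882), (215, 5527810)])])]), (187, [(222, []), (219, [])]), (183, [(222, []), (215, [])]), (111, [(130, [])]), (106, [(215, [])]), (102, [(219, [])])]), (90, [(238, [(231, []), (183, []), (102, [(183, [(231, 0)])])]), (235, []), (215, [(222, []), (183, []), (95, [(183, [(222, 0)])])]), (190, [(231, []), (222, [(231, [])]), (219,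 []), (183, [(219, [(231, 5527810), (222, 5658882)])])]), (187, [(222, []), (219, []), (102, [(222, [(219, 0)])])]), (130, [(231, []), (219, []), (95, [(231, [(219, 0)])])]), (111, [(231, []), (102, [])]), (106, [(183, [])])]), (86, [(238, [(235, []), (187, []), (106, [(187, [(235, 0)])])]), (231, []), (219, [(222, []), (187, []), (95, [(187, [(222, 0)])])]), (190, [(235, []), (222, [(235, [])]), (215, []), (187, [(215, [(235, 15882498), (222, 15882498)])])]), (183, [(222, []), (215, []), (106, [(222, [(215, 0)])])]), (130, [(235, []), (215, []), (95, [(235, [(215, 0)])])]), (111, [(235, []), (106, [])]), (102, [(187, [])]), (90, [(222, []), (95, [])])]), (51, [(235, [(238, []), (187, []), (106, [(187, [(238, 0)])]), (86, [(238, [(187, 6052098), (106, 16161026)])])]), (231, [(238, []), (183, []), (102, [(183, [(238, 0)])]), (90, [(238, [(183, 8157442), (102, 5396994)])])]), (219, [(222, []), (187, []), (102, [(222, [(187, 0)])]), (90, [(187, [(222, 5921026), (102, 5789954)])])]), (215, [(222, []), (183, []), (106, [(222, [(183, 0)])]), (86, [(183,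 [(222, 8026370), (106, 14326018)])])]), (190, [(238, []), (222, [(238, [])]), (187, []), (183, [(187, [(238, 9853186), (222, 11950338)])])]), (130, []), (111, [(238, []), (106, []), (102, [(106, [(238, 0)])])]), (95, [(222, []), (90, []), (86, [(90, [(222, 0)])])])]), (15, [(238, [(111, []), (106, []), (102, [(106, [(111, 0)])]), (51, [(111, [(106, 5658882), (102, 5527810)])])]), (235, [(111, []), (106, []), (86, [(111, [(106, 0)])])]), (231, [(111, []), (102, []), (90, [(111, [(102, 0)])])]), (222, [(95, []), (90, []), (86, [(90, [(95, 0)])]), (51, [(95, [(90, 5658882), (86, 7764226)])])]), (219, [(102, []), (95, [(102, [])]), (90, [])]), (215, [(106, []), (95, [(106, [])]), (86, [])]), (190, []), (187, [(102, []), (86, [(102, [])]), (51, [])]), (183, [(106, []), (90, [(106, [])]), (51, [])]), (130, [(111, []), (95, [(111, [])])])]), (10, [(238, [(231, []), (183, []), (111, [(183, [(231, 0)])]), (106, [(231, [(183, 5658882), (111, 5527810)])])]), (235, [(215, []), (130, []), (111, [(215, [(130, 0)])]), (106, [(130, [(215, 5658882), (111, 5527810)])])]),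 (222, [(215, []), (183, []), (95, [(183, [(215, 0)])]), (90, [(215, [(183, 5658882), (95, 5527810)])])]), (219, [(231, []), (130, []), (95, [(231, [(130, 0)])]), (90, [(130, [(231, 5658882), (95, 5527810)])])]), (190, [(231, []), (215, [(231, [])]), (183, []), (130, [(183, [(231, 8157442), (215, 5396994)])])]), (187, []), (102, [(231, []), (111, []), (90, [(111, [(231, 0)])]), (15, [(231, [(111, 15882498), (90, 15882498)])])]), (86, [(215, []), (106, []), (95, [(106, [(215, 0)])]), (15, [(215, [(106, 15882498), (95, 15882498)])])]), (51, [(183, []), (106, []), (90, [(106, [(183, 0)])]), (15, [(183, [(106, 6052098), (90, 1)])])])]), (6, [(238, [(235, []), (187, []), (111, [(187, [(235, 0)])]), (102, [(235, [(187, 6052098), (111, 7633154)])])]), (231, [(219, []), (130, []), (111, [(219, [(130, 0)])]), (102, [(130, [(219, 7764226), (111, 7633154)])])]), (222, [(219, []), (187, []), (95, [(187, [(219, 0)])]), (86, [(219, [(187, 6052098), (95, 6052098)])])]), (215, [(235, []), (130, []), (95, [(235, [(130, 0)])]), (86, [(130, [(235, 7764226), (95, 5396994)])])]),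 (190, [(235, []), (219, [(235, [])]), (187, []), (130, [(187, [(235, 6052098), (219, 6052098)])])]), (183, []), (106, [(235, []), (111, []), (86, [(111, [(235, 0)])]), (15, [(235, [(111, 5921026), (86, 5789954)])])]), (90, [(219, []), (102, []), (95, [(102, [(219, 0)])]), (15, [(219, [(102, 15890690), (95, 5921026)])])]), (51, [(187, []), (102, []), (86, [(102, [(187, 0)])]), (15, [(187, [(102, 1), (86, 5396994)])])]), (10, [(130, []), (111, []), (95, [(111, [(130, 0)])]), (15, [(130, [(111, 6183170), (95, 6183426)])])])])] = true := by decide +kernel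

theorem ct0_82 : T0.chk1 sv0 lo0 82 [(250, []), (246, [(250, [])]), (238, []), (219, [(246, []), (238, [(250, [])])]), (215, [(250, []), (238, [(246, [])]), (219, [])]), (195, [(250, [(219, [])]), (246, [(215, [])]), (238, [])]), (190, []), (170, [(246, [(238, []), (215, [(238, [])]), (190, [])]), (219, [(250, []), (195, [(250, [])]), (190, [])])]), (166, [(250, [(238, []), (219, [(238, [])]), (190, [])]), (215, [(246, []), (195, [(246, [])]), (190, [])]), (170, [(238, []), (195, [(238, [])]), (190, [])])]), (159, [(238, [(250, []), (246, [(250, [])]), (190, [])]), (195, [(219, []), (215, [(219, [])]), (190, [])]), (170, [(250, []), (215, [(250, [])]), (190, [])]), (166, [(246, []), (219, [(246, [])]), (190, [])])]), (123, [(246, [(238, []), (166, [])]), (215, []), (195, [(219, []), (166, [])]), (190, [(250, []), (238, []), (219, [(238, [(250, 0)])]), (166, [(250, [(238, 11843842), (219, 7764226)])])]), (170, [(250, []), (238, [])]), (159, [(250, []), (219, [])])]), (119, [(250, [(238, []), (170, [])]), (219, []), (195, [(215, []), (170, [])]),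 (190, [(246, []), (238, []), (215, [(238, [(246, 0)])]), (170, [(246, [(238, 29835777), (215, 5658882)])])]), (166, [(246, []), (238, [])]), (159, [(246, []), (215, [])]), (123, [(238, [])])]), (111, [(219, [(250, []), (159, []), (123, [(159, [(250, 0)])])]), (215, [(246, []), (159, []), (119, [(159, [(246, 0)])])]), (195, []), (190, [(250, []), (246, [(250, [])]), (238, []), (159, [(238, [(250, 16021762), (246, 16013570)])])]), (170, [(250, []), (238, []), (119, [(250, [(238, 0)])])]), (166, [(246, []), (238, []), (123, [(246, [(238, 0)])])])]), (90, [(246, []), (238, [(250, []), (170, []), (123, [(170, [(250, 0)])])]), (215, [(195, []), (170, [])]), (190, [(250, []), (219, []), (195, [(250, [(219, 0)])]), (170, [(219, [(250, 6052098), (195, 16013570)])])]), (166, [(219, []), (195, []), (123, [(195, [(219, 0)])])]), (159, [(250, []), (219, [])]), (119, [(170, [])]), (111, [(250, []), (123, [])])]), (86, [(250, []), (238, [(246, []), (166, []), (119, [(166, [(246, 0)])])]), (219, [(195, []), (166, [])]), (190, [(246, []), (215, []), (195, [(246,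 [(215, 0)])]), (166, [(215, [(246, 5658882), (195, 5658882)])])]), (170, [(215, []), (195, []), (119, [(195, [(215, 0)])])]), (159, [(246, []), (215, [])]), (123, [(166, [])]), (111, [(246, []), (119, [])]), (90, [(195, [])])]), (66, [(250, [(219, []), (159, []), (90, [(159, [(219, 0)])])]), (246, [(215, []), (159, []), (86, [(159, [(215, 0)])])]), (238, []), (190, [(219, []), (215, [(219, [])]), (195, []), (159, [(195, [(219, 7764226), (215, 5658882)])])]), (170, [(215, []), (195, []), (90, [(215, [(195, 0)])])]), (166, [(219, []), (195, []), (86, [(219, [(195, 0)])])]), (123, [(219, []), (90, [])]), (119, [(215, []), (86, [])]), (111, [(159, [])])]), (51, [(250, [(238, []), (170, []), (123, [(170, [(238, 0)])]), (90, [(238, [(170, 5658882), (123, 5658882)])])]), (246, [(238, []), (166, []), (119, [(166, [(238, 0)])]), (86, [(238, [(166, 5921026), (119, 5921026)])])]), (219, [(195, []), (166, []), (123, [(195, [(166, 0)])]), (90, [(166, [(195, 5658882), (123, 14047490)])])]), (215, [(195, []), (170, []), (119, [(195, [(170, 0)])]), (86, [(170,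 [(195, 7764226), (119, 5921026)])])]), (190, [(238, []), (195, [(238, [])]), (170, []), (166, [(170, [(238, 5658882), (195, 7764226)])])]), (159, []), (111, [(238, []), (123, []), (119, [(123, [(238, 0)])])]), (66, [(195, []), (90, []), (86, [(90, [(195, 0)])])])]), (18, [(250, [(123, []), (111, []), (90, [(111, [(123, 0)])])]), (246, [(119, []), (111, []), (86, [(111, [(119, 0)])])]), (238, [(123, []), (119, [(123, [])]), (111, []), (51, [(111, [(123, 5658882), (119, 7764226)])])]), (219, [(123, []), (90, []), (66, [(123, [(90, 0)])])]), (215, [(119, []), (86, []), (66, [(119, [(86, 0)])])]), (195, [(90, []), (86, [(90, [])]), (66, []), (51, [(66, [(90, 15907074), (86, 6183170)])])]), (190, []), (170, [(119, []), (90, [(119, [])]), (51, [])]), (166, [(123, []), (86, [(123, [])]), (51, [])]), (159, [(111, []), (66, [(111, [])])])]), (10, [(246, [(215, []), (159, []), (119, [(159, [(215, 0)])]), (111, [(215, [(159, 5527810), (119, 7764226)])])]), (238, [(250, []), (170, []), (119, [(250, [(170, 0)])]), (111, [(170, [(250, 6052098), (119, 16144642)])])]),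 (219, [(250, []), (159, []), (90, [(159, [(250, 0)])]), (66, [(250, [(159, 8157442), (90, 16144642)])])]), (195, [(215, []), (170, []), (90, [(215, [(170, 0)])]), (66, [(170, [(215, 1), (90, 14309634)])])]), (190, [(250, []), (215, [(250, [])]), (170, []), (159, [(170, [(250, 6052098), (215, 11950338)])])]), (166, []), (123, [(250, []), (111, []), (90, [(111, [(250, 0)])]), (18, [(250, [(111, 8157442), (90, 11950338)])])]), (86, [(215, []), (119, []), (66, [(119, [(215, 0)])]), (18, [(215, [(119, 5527810), (66, 5527810)])])]), (51, [(170, []), (119, []), (90, [(119, [(170, 0)])]), (18, [(170, [(119, 1), (90, 10115330)])])])]), (6, [(250, [(219, []), (159, []), (123, [(159, [(219, 0)])]), (111, [(219, [(159, 5658882), (123, 9992450)])])]), (238, [(246, []), (166, []), (123, [(246, [(166, 0)])]), (111, [(166, [(246, 5658882), (123, 16152834)])])]), (215, [(246, []), (159, []), (86, [(159, [(246, 0)])]), (66, [(246, [(159, 6052098), (86, 16152834)])])]), (195, [(219, []), (166, []), (86, [(219, [(166, 0)])]), (66, [(166, [(219, 6052098), (86, 6183170)])])]),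 (190, [(246, []), (219, [(246, [])]), (166, []), (159, [(166, [(246, 5658882), (219, 11958530)])])]), (170, []), (119, [(246, []), (111, []), (86, [(111, [(246, 0)])]), (18, [(246, [(111, 6052098), (86, 11958530)])])]), (90, [(219, []), (123, []), (66, [(123, [(219, 0)])]), (18, [(219, [(123, 5658882), (66, 7633154)])])]), (51, [(166, []), (123, []), (86, [(123, [(166, 0)])]), (18, [(166, [(123, 6052098), (86, 6183170)])])]), (10, [(159, []), (111, []), (66, [(111, [(159, 0)])]), (18, [(159, [(111, 5658882), (66, 31695105)])])])])] = true := by decide +kernel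

theorem ct0_98 : T0.chk1 sv0 lo0 98 [(250, []), (246, [(250, [])]), (235, [(246, [])]), (231, [(250, []), (235, [])]), (222, [(235, [(250, [])]), (231, [(246, [])])]), (195, [(250, [(235, [])]), (246, [(231, [])]), (222, [])]), (190, []), (175, [(222, [(250, []), (246, [(250, [])]), (190, [])]), (195, [(235, []), (231, [(235, [])]), (190, [])])]), (154, [(246, [(231, []), (222, [(231, [])]), (190, [])]), (235, [(250, []), (195, [(250, [])]), (190, [])]), (175, [(250, []), (231, [(250, [])]), (190, [])])]), (150, [(250, [(235, []), (222, [(235, [])]), (190, [])]), (231, [(246, []), (195, [(246, [])]), (190, [])]), (175, [(246, []), (235, [(246, [])]), (190, [])]), (154, [(222, []), (195, [(222, [])]), (190, [])])]), (123, [(246, [(222, []), (150, [])]), (231, []), (195, [(235, []), (150, [])]), (190, [(250, []), (235, []), (222, [(235, [(250, 0)])]), (150, [(250, [(235, 7764226), (222, 29704705)])])]), (175, [(250, []), (235, [])]), (154, [(250, []), (222, [])])]), (119, [(250, [(222, []), (154, [])]), (235, []), (195, [(231, []), (154, [])]),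 (190, [(246, []), (231, []), (222, [(231, [(246, 0)])]), (154, [(246, [(231, 5658882), (222, 9738498)])])]), (175, [(246, []), (231, [])]), (150, [(246, []), (222, [])]), (123, [(222, [])])]), (106, [(246, []), (231, [(195, []), (154, [])]), (222, [(250, []), (154, []), (123, [(154, [(250, 0)])])]), (190, [(250, []), (235, []), (195, [(250, [(235, 0)])]), (154, [(235, [(250, 7764226), (195, 16013570)])])]), (175, [(250, []), (235, [])]), (150, [(235, []), (195, []), (123, [(195, [(235, 0)])])]), (119, [(154, [])])]), (102, [(250, []), (235, [(195, []), (150, [])]), (222, [(246, []), (150, []), (119, [(150, [(246, 0)])])]), (190, [(246, []), (231, []), (195, [(246, [(231, 0)])]), (150, [(231, [(246, 8157442), (195, 5658882)])])]), (175, [(246, []), (231, [])]), (154, [(231, []), (195, []), (119, [(195, [(231, 0)])])]), (123, [(150, [])]), (106, [(195, [])])]), (95, [(235, [(250, []), (175, []), (123, [(175, [(250, 0)])])]), (231, [(246, []), (175, []), (119, [(175, [(246, 0)])])]), (195, []), (190, [(250, []), (246, [(250, [])]), (222, []), (175,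 [(222, [(250, 6052098), (246, 16013570)])])]), (154, [(250, []), (222, []), (119, [(250, [(222, 0)])])]), (150, [(246, []), (222, []), (123, [(246, [(222, 0)])])]), (106, [(250, []), (123, [])]), (102, [(246, []), (119, [])])]), (66, [(250, [(235, []), (175, []), (106, [(175, [(235, 0)])])]), (246, [(231, []), (175, []), (102, [(175, [(231, 0)])])]), (222, []), (190, [(235, []), (231, [(235, [])]), (195, []), (175, [(195, [(235, 7764226), (231, 5658882)])])]), (154, [(231, []), (195, []), (106, [(231, [(195, 0)])])]), (150, [(235, []), (195, []), (102, [(235, [(195, 0)])])]), (123, [(235, []), (106, [])]), (119, [(231, []), (102, [])]), (95, [(175, [])])]), (51, [(250, [(222, []), (154, []), (123, [(154, [(222, 0)])]), (106, [(222, [(154, 9984258), (123, 8026370)])])]), (246, [(222, []), (150, []), (119, [(150, [(222, 0)])]), (102, [(222, [(150, 5921026), (119, 7764226)])])]), (235, [(195, []), (150, []), (123, [(195, [(150, 0)])]), (106, [(150, [(195, 5658882), (123, 14047490)])])]), (231, [(195, []), (154, []), (119, [(195, [(154, 0)])]), (102,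 [(154, [(195, 5921026), (119, 14055682)])])]), (190, [(222, []), (195, [(222, [])]), (154, []), (150, [(154, [(222, 5658882), (195, 7764226)])])]), (175, []), (95, [(222, []), (123, []), (119, [(123, [(222, 0)])])]), (66, [(195, []), (106, []), (102, [(106, [(195, 0)])])])]), (34, [(250, [(123, []), (106, []), (95, [(106, [(123, 0)])])]), (246, [(119, []), (102, []), (95, [(102, [(119, 0)])])]), (235, [(123, []), (106, []), (66, [(123, [(106, 0)])])]), (231, [(119, []), (102, []), (66, [(119, [(102, 0)])])]), (222, [(123, []), (119, [(123, [])]), (95, []), (51, [(95, [(123, 5658882), (119, 7764226)])])]), (195, [(106, []), (102, [(106, [])]), (66, []), (51, [(66, [(106, 6052098), (102, 15898882)])])]), (190, []), (175, [(95, []), (66, [(95, [])])]), (154, [(119, []), (106, [(119, [])]), (51, [])]), (150, [(123, []), (102, [(123, [])]), (51, [])])]), (10, [(246, [(231, []), (175, []), (119, [(175, [(231, 0)])]), (95, [(231, [(175, 7764226), (119, 12081410)])])]), (235, [(250, []), (175, []), (106, [(175, [(250, 0)])]), (66, [(250, [(175, 5921026),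 (106, 16144642)])])]), (222, [(250, []), (154, []), (119, [(250, [(154, 0)])]), (95, [(154, [(250, 6052098), (119, 16144642)])])]), (195, [(231, []), (154, []), (106, [(231, [(154, 0)])]), (66, [(154, [(231, 5527810), (106, 14309634)])])]), (190, [(250, []), (231, [(250, [])]), (175, []), (154, [(175, [(250, 9853186), (231, 6183170)])])]), (150, []), (123, [(250, []), (106, []), (95, [(106, [(250, 0)])]), (34, [(250, [(106, 9853186), (95, 5921026)])])]), (102, [(231, []), (119, []), (66, [(119, [(231, 0)])]), (34, [(231, [(119, 5527810), (66, 5527810)])])]), (51, [(154, []), (119, []), (106, [(119, [(154, 0)])]), (34, [(154, [(119, 5527810), (106, 12212482)])])])]), (6, [(250, [(235, []), (175, []), (123, [(175, [(235, 0)])]), (95, [(235, [(175, 5658882), (123, 5658882)])])]), (231, [(246, []), (175, []), (102, [(175, [(246, 0)])]), (66, [(246, [(175, 6052098), (102, 6183170)])])]), (222, [(246, []), (150, []), (123, [(246, [(150, 0)])]), (95, [(150, [(246, 5658882), (123, 14047490)])])]), (195, [(235, []), (150, []), (102, [(235, [(150, 0)])]),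 (66, [(150, [(235, 1), (102, 6183170)])])]), (190, [(246, []), (235, [(246, [])]), (175, []), (150, [(175, [(246, 11950338), (235, 5658882)])])]), (154, []), (119, [(246, []), (102, []), (95, [(102, [(246, 0)])]), (34, [(246, [(102, 6183170), (95, 6052098)])])]), (106, [(235, []), (123, []), (66, [(123, [(235, 0)])]), (34, [(235, [(123, 5658882), (66, 7633154)])])]), (51, [(150, []), (123, []), (102, [(123, [(150, 0)])]), (34, [(150, [(123, 1), (102, 6183170)])])]), (10, [(175, []), (95, []), (66, [(95, [(175, 0)])]), (34, [(175, [(95, 29597953), (66, 7633154)])])])])] = true := by decide +kernel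

theorem ct0_115 : T0.chk1 sv0 lo0 115 [(250, []), (246, [(250, [])]), (235, [(246, [])]), (231, [(250, []), (235, [])]), (219, [(246, [(231, [])]), (235, [(250, [])])]), (215, [(250, [(235, [])]), (231, [(246, [])]), (219, [])]), (190, []), (175, [(219, [(250, []), (231, [(250, [])]), (190, [])]), (215, [(246, []), (235, [(246, [])]), (190, [])])]), (159, [(235, [(250, []), (215, [(250, [])]), (190, [])]), (231, [(246, []), (219, [(246, [])]), (190, [])]), (175, [(250, []), (246, [(250, [])]), (190, [])])]), (130, [(250, [(235, []), (219, [(235, [])]), (190, [])]), (246, [(231, []), (215, [(231, [])]), (190, [])]), (175, [(235, []), (231, [(235, [])]), (190, [])]), (159, [(219, []), (215, [(219, [])]), (190, [])])]), (123, [(246, []), (231, [(219, []), (130, [])]), (215, [(235, []), (130, [])]), (190, [(250, []), (235, []), (219, [(235, [(250, 0)])]), (130, [(250, [(235, 7764226), (219, 5921026)])])]), (175, [(250, []), (235, [])]), (159, [(250, []), (219, [])])]), (119, [(250, []), (235, [(215, []), (130, [])]), (219, [(231, []), (130, [])]),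 (190, [(246, []), (231, []), (215, [(231, [(246, 0)])]), (130, [(246, [(231, 8026370), (215, 5658882)])])]), (175, [(246, []), (231, [])]), (159, [(246, []), (215, [])]), (123, [(130, [])])]), (106, [(246, [(215, []), (159, [])]), (231, []), (219, [(250, []), (159, []), (123, [(159, [(250, 0)])])]), (190, [(250, []), (235, []), (215, [(250, [(235, 0)])]), (159, [(235, [(250, 7764226), (215, 16013570)])])]), (175, [(250, []), (235, [])]), (130, [(235, []), (215, []), (123, [(215, [(235, 0)])])]), (119, [(215, [])])]), (102, [(250, [(219, []), (159, [])]), (235, []), (215, [(246, []), (159, []), (119, [(159, [(246, 0)])])]), (190, [(246, []), (231, []), (219, [(246, [(231, 0)])]), (159, [(231, [(246, 5658882), (219, 16021762)])])]), (175, [(246, []), (231, [])]), (130, [(231, []), (219, []), (119, [(219, [(231, 0)])])]), (123, [(219, [])]), (106, [(159, [])])]), (90, [(246, [(231, []), (175, []), (102, [(175, [(231, 0)])])]), (235, [(250, []), (175, []), (123, [(175, [(250, 0)])])]), (215, []), (190, [(250, []), (231, [(250, [])]), (219, []), (175,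 [(219, [(250, 7764226), (231, 16013570)])])]), (159, [(250, []), (219, []), (102, [(250, [(219, 0)])])]), (130, [(231, []), (219, []), (123, [(231, [(219, 0)])])]), (119, [(231, []), (102, [])]), (106, [(250, []), (123, [])])]), (86, [(250, [(235, []), (175, []), (106, [(175, [(235, 0)])])]), (231, [(246, []), (175, []), (119, [(175, [(246, 0)])])]), (219, []), (190, [(246, []), (235, [(246, [])]), (215, []), (175, [(215, [(246, 5658882), (235, 16021762)])])]), (159, [(246, []), (215, []), (106, [(246, [(215, 0)])])]), (130, [(235, []), (215, []), (119, [(235, [(215, 0)])])]), (123, [(235, []), (106, [])]), (102, [(246, []), (119, [])]), (90, [(175, [])])]), (51, [(250, [(123, []), (106, []), (90, [(106, [(123, 0)])])]), (246, [(119, []), (102, []), (86, [(102, [(119, 0)])])]), (235, [(123, []), (106, []), (86, [(123, [(106, 0)])])]), (231, [(119, []), (102, []), (90, [(119, [(102, 0)])])]), (219, [(123, []), (102, [(123, [])]), (90, [])]), (215, [(119, []), (106, [(119, [])]), (86, [])]), (190, []), (175, [(90, []), (86, [(90, [])])]), (159, [(106,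 []), (102, [(106, [])])]), (130, [(123, []), (119, [(123, [])])])]), (34, [(250, [(219, []), (159, []), (123, [(159, [(219, 0)])]), (106, [(219, [(159, 9984258), (123, 8288514)])])]), (246, [(215, []), (159, []), (119, [(159, [(215, 0)])]), (102, [(215, [(159, 6052098), (119, 6183170)])])]), (235, [(215, []), (130, []), (123, [(215, [(130, 0)])]), (106, [(130, [(215, 5658882), (123, 14047490)])])]), (231, [(219, []), (130, []), (119, [(219, [(130, 0)])]), (102, [(130, [(219, 6052098), (119, 6183170)])])]), (190, [(219, []), (215, [(219, [])]), (159, []), (130, [(159, [(219, 5658882), (215, 7764226)])])]), (175, []), (90, [(219, []), (123, []), (102, [(123, [(219, 0)])]), (51, [(219, [(123, 5658882), (102, 15898882)])])]), (86, [(215, []), (119, []), (106, [(119, [(215, 0)])]), (51, [(215, [(119, 6183170), (106, 6052098)])])])]), (18, [(250, [(235, []), (175, []), (123, [(175, [(235, 0)])]), (90, [(235, [(175, 5658882), (123, 8288514)])])]), (246, [(231, []), (175, []), (119, [(175, [(231, 0)])]), (86, [(231, [(175, 6052098), (119, 6183170)])])]),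 (219, [(231, []), (130, []), (123, [(231, [(130, 0)])]), (90, [(130, [(231, 5658882), (123, 14047490)])])]), (215, [(235, []), (130, []), (119, [(235, [(130, 0)])]), (86, [(130, [(235, 7764226), (119, 6183170)])])]), (190, [(235, []), (231, [(235, [])]), (175, []), (130, [(175, [(235, 5658882), (231, 7764226)])])]), (159, []), (106, [(235, []), (123, []), (86, [(123, [(235, 0)])]), (51, [(235, [(123, 5658882), (86, 8157442)])])]), (102, [(231, []), (119, []), (90, [(119, [(231, 0)])]), (51, [(231, [(119, 6183170), (90, 15907074)])])]), (34, [(130, []), (123, []), (119, [(123, [(130, 0)])]), (51, [(130, [(123, 6052098), (119, 6183170)])])])]), (15, [(235, [(250, []), (175, []), (106, [(175, [(250, 0)])]), (86, [(250, [(175, 5921026), (106, 16144642)])])]), (231, [(246, []), (175, []), (102, [(175, [(246, 0)])]), (90, [(246, [(175, 8026370), (102, 14571778)])])]), (219, [(250, []), (159, []), (102, [(250, [(159, 0)])]), (90, [(159, [(250, 6052098), (102, 16144642)])])]), (215, [(246, []), (159, []), (106, [(246, [(159, 0)])]), (86, [(159, [(246,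 5527810), (106, 14309634)])])]), (190, [(250, []), (246, [(250, [])]), (175, []), (159, [(175, [(250, 9853186), (246, 11950338)])])]), (130, []), (123, [(250, []), (106, []), (90, [(106, [(250, 0)])]), (51, [(250, [(106, 9853186), (90, 11950338)])])]), (119, [(246, []), (102, []), (86, [(102, [(246, 0)])]), (51, [(246, [(102, 5527810), (86, 11958530)])])]), (34, [(159, []), (106, []), (102, [(106, [(159, 0)])]), (51, [(159, [(106, 1), (102, 5527810)])])]), (18, [(175, []), (90, []), (86, [(90, [(175, 0)])]), (51, [(175, [(90, 7633154), (86, 1)])])])])] = true := by decide +kernel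

theorem ct0_134 : T0.chk1 sv0 lo0 134 [(250, []), (238, []), (231, [(250, [(238, [])])]), (222, [(238, [(250, [])]), (231, [])]), (215, [(250, [(222, [])]), (238, []), (231, [])]), (195, [(250, []), (238, [(231, [])]), (222, [(215, [])])]), (187, [(231, [(238, [])]), (215, [(222, [])]), (195, [])]), (175, [(222, [(250, []), (187, [])]), (215, []), (195, [(231, [])])]), (166, [(250, [(238, []), (175, [])]), (222, []), (215, [(195, [])]), (187, [(238, []), (175, [])])]), (159, [(238, [(250, []), (187, [])]), (231, []), (195, [(215, [])]), (175, [(250, []), (187, [])]), (166, [])]), (150, [(250, [(222, []), (159, [])]), (238, []), (231, [(195, [])]), (187, [(222, []), (159, [])]), (175, []), (166, [(195, [])])]), (130, [(250, []), (238, [(231, []), (166, [])]), (222, [(215, []), (150, [])]), (187, []), (175, [(231, []), (166, [])]), (159, [(215, []), (150, [])])]), (126, [(187, [(250, []), (238, []), (222, [(238, [(250, 0)])])]), (175, [(250, []), (238, []), (231, [(250, [(238, 0)])])]), (166, [(238, []), (231, []), (195, [(238, [(231, 0)])])]),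 (159, [(250, []), (222, []), (215, [(250, [(222, 0)])])]), (150, [(222, []), (215, []), (195, [(222, [(215, 0)])])]), (130, [(231, []), (215, [(231, [])]), (195, [])])]), (119, [(250, [(238, []), (222, [(238, [])]), (187, []), (126, [(187, [(238, 13793538), (222, 5658882)])])]), (195, [(231, []), (215, [(231, [])]), (130, []), (126, [(130, [(231, 5789954), (215, 5789954)])])]), (175, [(238, []), (231, []), (187, [(231, [(238, 0)])])]), (166, [(238, []), (231, []), (130, [(238, [(231, 0)])])]), (159, [(222, []), (215, []), (187, [(215, [(222, 0)])])]), (150, [(222, []), (215, []), (130, [(222, [(215, 0)])])])]), (106, [(231, [(238, []), (195, [(238, [])]), (166, []), (126, [(166, [(238, 5527810), (195, 16152834)])])]), (222, [(250, []), (215, [(250, [])]), (159, []), (126, [(159, [(250, 14047490), (215, 8026370)])])]), (187, [(250, []), (238, []), (159, [(238, [(250, 0)])])]), (175, [(250, []), (238, []), (166, [(250, [(238, 0)])])]), (150, [(215, []), (195, []), (159, [(195, [(215, 0)])])]), (130, [(215, []), (195, []), (166, [(215, [(195, 0)])])]),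 (119, [(238, []), (215, [(238, [])]), (126, [])])]), (90, [(238, [(250, []), (231, [(250, [])]), (175, []), (126, [(175, [(250, 14047490), (231, 21315841)])])]), (215, [(222, []), (195, [(222, [])]), (150, []), (126, [(150, [(222, 5527810), (195, 16152834)])])]), (187, [(250, []), (222, []), (175, [(222, [(250, 0)])])]), (166, [(231, []), (195, []), (175, [(195, [(231, 0)])])]), (159, [(250, []), (222, []), (150, [(250, [(222, 0)])])]), (130, [(231, []), (195, []), (150, [(231, [(195, 0)])])]), (119, [(231, []), (222, [(231, [])]), (126, [])]), (106, [(250, []), (195, [(250, [])]), (126, [])])]), (34, [(250, [(238, []), (187, []), (159, [(238, [(187, 0)])]), (106, [(187, [(238, 7502338), (159, 5658882)])])]), (231, [(238, []), (166, []), (130, [(238, [(166, 0)])]), (119, [(166, [(238, 8026370), (130, 6183170)])])]), (222, [(215, []), (187, [(215, [])]), (159, []), (119, [(159, [(215, 10377474), (187, 5658882)])])]), (195, [(215, []), (166, [(215, [])]), (130, []), (106, [(130, [(215, 5789954), (166, 5789954)])])]), (175, [(238, []), (187, []),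 (166, [(187, [(238, 0)])])]), (150, [(215, []), (159, []), (130, [(159, [(215, 0)])])]), (126, [(238, []), (215, [(238, [])]), (119, []), (106, [(119, [(238, 9861378), (215, 5658882)])])]), (90, [])]), (18, [(250, [(222, []), (187, []), (175, [(222, [(187, 0)])]), (90, [(187, [(222, 16161026), (175, 5658882)])])]), (238, [(231, []), (187, [(231, [])]), (175, []), (119, [(175, [(231, 8026370), (187, 5658882)])])]), (215, [(222, []), (150, []), (130, [(222, [(150, 0)])]), (119, [(150, [(222, 6052098), (130, 6183170)])])]), (195, [(231, []), (150, [(231, [])]), (130, []), (90, [(130, [(231, 5789954), (150, 1)])])]), (166, [(231, []), (175, []), (130, [(175, [(231, 0)])])]), (159, [(222, []), (187, []), (150, [(187, [(222, 0)])])]), (126, [(231, []), (222, [(231, [])]), (119, []), (90, [(119, [(231, 5658882), (222, 9853186)])])]), (106, []), (34, [(187, []), (130, [(187, [])]), (119, [])])]), (15, [(238, [(250, []), (175, []), (166, [(250, [(175, 0)])]), (106, [(175, [(250, 14047490), (166, 7764226)])])]), (231, [(195, []), (175, [(195, [])]), (166,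 []), (90, [(166, [(195, 16275714), (175, 7764226)])])]), (222, [(250, []), (159, []), (150, [(250, [(159, 0)])]), (90, [(159, [(250, 14047490), (150, 6183170)])])]), (215, [(195, []), (159, [(195, [])]), (150, []), (106, [(150, [(195, 16275714), (159, 5527810)])])]), (187, [(250, []), (175, []), (159, [(175, [(250, 0)])])]), (130, [(195, []), (166, []), (150, [(166, [(195, 0)])])]), (126, [(250, []), (195, [(250, [])]), (106, []), (90, [(106, [(250, 6052098), (195, 6183170)])])]), (119, []), (34, [(166, []), (159, [(166, [])]), (106, [])]), (18, [(175, []), (150, [(175, [])]), (90, [])])]), (6, [(250, [(187, []), (175, []), (159, [(175, [(187, 0)])]), (15, [(187, [(175, 5658882), (159, 13793538)])])]), (238, [(187, []), (175, []), (166, [(187, [(175, 0)])]), (34, [(175, [(187, 5658882), (166, 7764226)])])]), (231, [(175, []), (166, []), (130, [(175, [(166, 0)])]), (18, [(166, [(175, 6052098), (130, 6183170)])])]), (222, [(187, []), (159, []), (150, [(187, [(159, 0)])]), (18, [(159, [(187, 5658882), (150, 7764226)])])]), (215, [(159, []), (150,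 []), (130, [(159, [(150, 0)])]), (34, [(150, [(159, 6052098), (130, 6183170)])])]), (195, [(166, []), (150, [(166, [])]), (130, []), (15, [(130, [(166, 5789954), (150, 13793538)])])]), (126, []), (119, [(187, []), (130, [(187, [])]), (34, []), (18, [(34, [(187, 29581569), (130, 6183170)])])]), (106, [(166, []), (159, [(166, [])]), (34, []), (15, [(34, [(166, 5658882), (159, 9853186)])])]), (90, [(175, []), (150, [(175, [])]), (18, []), (15, [(18, [(175, 11950338), (150, 1)])])])])] = true := by decide +kernel

theorem ct0_138 : T0.chk1 sv0 lo0 138 [(246, []), (238, []), (235, [(246, [(238, [])])]), (222, [(238, [(246, [])]), (235, [])]), (219, [(246, [(222, [])]), (238, []), (235, [])]), (195, [(246, []), (238, [(235, [])]), (222, [(219, [])])]), (183, [(235, [(238, [])]), (219, [(222, [])]), (195, [])]), (175, [(222, [(246, []), (183, [])]), (219, []), (195, [(235, [])])]), (170, [(246, [(238, []), (175, [])]), (222, []), (219, [(195, [])]), (183, [(238, []), (175, [])])]), (159, [(238, [(246, []), (183, [])]), (235, []), (195, [(219, [])]), (175,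 [(246, []), (183, [])]), (170, [])]), (154, [(246, [(222, []), (159, [])]), (238, []), (235, [(195, [])]), (183, [(222, []), (159, [])]), (175, []), (170, [(195, [])])]), (130, [(246, []), (238, [(235, []), (170, [])]), (222, [(219, []), (154, [])]), (183, []), (175, [(235, []), (170, [])]), (159, [(219, []), (154, [])])]), (126, [(183, [(246, []), (238, []), (222, [(238, [(246, 0)])])]), (175, [(246, []), (238, []), (235, [(246, [(238, 0)])])]), (170, [(238, []), (235, []), (195, [(238, [(235, 0)])])]), (159, [(246, []), (222, []), (219, [(246, [(222, 0)])])]), (154, [(222, []), (219, []), (195, [(222, [(219, 0)])])]), (130, [(235, []), (219, [(235, [])]), (195, [])])]), (123, [(246, [(238, []), (222, [(238, [])]), (183, []), (126, [(183, [(238, 13785346), (222, 13785346)])])]), (195, [(235, []), (219, [(235, [])]), (130, []), (126, [(130, [(235, 13785346), (219, 13785346)])])]), (175, [(238, []), (235, []), (183, [(235, [(238, 0)])])]), (170, [(238, []), (235, []), (130, [(238, [(235, 0)])])]), (159, [(222, []), (219, []), (183, [(219, [(222,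 0)])])]), (154, [(222, []), (219, []), (130, [(222, [(219, 0)])])])]), (102, [(235, [(238, []), (195, [(238, [])]), (170, []), (126, [(170, [(238, 5921026), (195, 16144642)])])]), (222, [(246, []), (219, [(246, [])]), (159, []), (126, [(159, [(246, 16144642), (219, 21446913)])])]), (183, [(246, []), (238, []), (159, [(238, [(246, 0)])])]), (175, [(246, []), (238, []), (170, [(246, [(238, 0)])])]), (154, [(219, []), (195, []), (159, [(195, [(219, 0)])])]), (130, [(219, []), (195, []), (170, [(219, [(195, 0)])])]), (123, [(238, []), (219, [(238, [])]), (126, [])])]), (86, [(238, [(246, []), (235, [(246, [])]), (175, []), (126, [(175, [(246, 16144642), (235, 5921026)])])]), (219, [(222, []), (195, [(222, [])]), (154, []), (126, [(154, [(222, 7633154), (195, 16144642)])])]), (183, [(246, []), (222, []), (175, [(222, [(246, 0)])])]), (170, [(235, []), (195, []), (175, [(195, [(235, 0)])])]), (159, [(246, []), (222, []), (154, [(246, [(222, 0)])])]), (130, [(235, []), (195, []), (154, [(235, [(195, 0)])])]), (123, [(235, []), (222, [(235, [])]), (126,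 [])]), (102, [(246, []), (195, [(246, [])]), (126, [])])]), (34, [(246, [(238, []), (183, []), (159, [(238, [(183, 0)])]), (102, [(183, [(238, 14063874), (159, 7764226)])])]), (235, [(238, []), (170, []), (130, [(238, [(170, 0)])]), (123, [(170, [(238, 5921026), (130, 5789954)])])]), (222, [(219, []), (183, [(219, [])]), (159, []), (123, [(159, [(219, 5921026), (183, 5789954)])])]), (195, [(219, []), (170, [(219, [])]), (130, []), (102, [(130, [(219, 5396994), (170, 1)])])]), (175, [(238, []), (183, []), (170, [(183, [(238, 0)])])]), (154, [(219, []), (159, []), (130, [(159, [(219, 0)])])]), (126, [(238, []), (219, [(238, [])]), (123, []), (102, [(123, [(238, 9853186), (219, 6052098)])])]), (86, [])]), (18, [(246, [(222, []), (183, []), (175, [(222, [(183, 0)])]), (86, [(183, [(222, 5396994), (175, 7764226)])])]), (238, [(235, []), (183, [(235, [])]), (175, []), (123, [(175, [(235, 5921026), (183, 5789954)])])]), (219, [(222, []), (154, []), (130, [(222, [(154, 0)])]), (123, [(154, [(222, 5921026), (130, 5789954)])])]), (195, [(235, []), (154,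 [(235, [])]), (130, []), (86, [(130, [(235, 7895298), (154, 7895298)])])]), (170, [(235, []), (175, []), (130, [(175, [(235, 0)])])]), (159, [(222, []), (183, []), (154, [(183, [(222, 0)])])]), (126, [(235, []), (222, [(235, [])]), (123, []), (86, [(123, [(235, 6052098), (222, 11950338)])])]), (102, []), (34, [(183, []), (130, [(183, [])]), (123, [])])]), (15, [(238, [(246, []), (175, []), (170, [(246, [(175, 0)])]), (102, [(175, [(246, 14055682), (170, 5658882)])])]), (235, [(195, []), (175, [(195, [])]), (170, []), (86, [(170, [(195, 16283906), (175, 5658882)])])]), (222, [(246, []), (159, []), (154, [(246, [(159, 0)])]), (86, [(159, [(246, 5527810), (154, 5658882)])])]), (219, [(195, []), (159, [(195, [])]), (154, []), (102, [(154, [(195, 5527810), (159, 5658882)])])]), (183, [(246, []), (175, []), (159, [(175, [(246, 0)])])]), (130, [(195, []), (170, []), (154, [(170, [(195, 0)])])]), (126, [(246, []), (195, [(246, [])]), (102, []), (86, [(102, [(246, 5396994), (195, 8288514)])])]), (123, []), (34, [(170, []), (159, [(170, [])]), (102, [])]),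 (18, [(175, []), (154, [(175, [])]), (86, [])])]), (10, [(246, [(183, []), (175, []), (159, [(175, [(183, 0)])]), (15, [(183, [(175, 13785346), (159, 13785346)])])]), (238, [(183, []), (175, []), (170, [(183, [(175, 0)])]), (34, [(175, [(183, 5527810), (170, 5658882)])])]), (235, [(175, []), (170, []), (130, [(175, [(170, 0)])]), (18, [(170, [(175, 5658882), (130, 5527810)])])]), (222, [(183, []), (159, []), (154, [(183, [(159, 0)])]), (18, [(159, [(183, 5527810), (154, 5658882)])])]), (219, [(159, []), (154, []), (130, [(159, [(154, 0)])]), (34, [(154, [(159, 5658882), (130, 5527810)])])]), (195, [(170, []), (154, [(170, [])]), (130, []), (15, [(130, [(170, 13785346), (154, 13785346)])])]), (126, []), (123, [(183, []), (130, [(183, [])]), (34, []), (18, [(34, [(183, 5396994), (130, 31678721)])])]), (102, [(170, []), (159, [(170, [])]), (34, []), (15, [(34, [(170, 1), (159, 6052098)])])]), (86, [(175, []), (154, [(175, [])]), (18, []), (15, [(18, [(175, 6052098), (154, 6052098)])])])])] = true := by decide +kernel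

theorem ct0_143 : T0.chk1 sv0 lo0 143 [(238, []), (235, []), (231, [(235, [(238, [])])]), (222, [(238, []), (235, []), (231, [])]), (219, [(238, [(231, [])]), (235, [])]), (215, [(238, [(235, [])]), (231, []), (219, [(222, [])])]), (175, [(222, []), (219, [(231, [])]), (215, [(235, [])])]), (170, [(231, [(238, []), (175, [])]), (222, [(215, [])]), (219, [])]), (166, [(235, [(238, []), (175, [])]), (222, [(219, [])]), (215, []), (170, [(238, []), (175, [])])]), (159, [(238, []), (235, [(215, [])]), (231, [(219, [])]), (175, []), (170, [(215, [])]), (166, [(219, [])])]), (154, [(238, [(231, []), (166, [])]), (235, []), (215, [(222, []), (159, [])]), (175, [(231, []), (166, [])]), (170, [])]), (150, [(238, [(235, []), (170, [])]), (231, []), (219, [(222, []), (159, [])]), (175, [(235, []), (170, [])]), (166, []), (154, [(222, []), (159, [])])]), (126, [(175, [(238, []), (235, []), (231, [(235, [(238, 0)])])]), (170, [(238, []), (235, []), (215, [(238, [(235, 0)])])]), (166, [(238, []), (231, []), (219, [(238, [(231, 0)])])]), (159, [(222, []), (219,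 []), (215, [(219, [(222, 0)])])]), (154, [(231, []), (222, [(231, [])]), (219, [])]), (150, [(235, []), (222, [(235, [])]), (215, [])])]), (123, [(231, [(238, []), (219, [(238, [])]), (166, []), (126, [(166, [(238, 13785346), (219, 13785346)])])]), (215, [(235, []), (222, [(235, [])]), (150, []), (126, [(150, [(235, 13785346), (222, 13785346)])])]), (175, [(238, []), (235, []), (166, [(235, [(238, 0)])])]), (170, [(238, []), (235, []), (150, [(238, [(235, 0)])])]), (159, [(222, []), (219, []), (150, [(219, [(222, 0)])])]), (154, [(222, []), (219, []), (166, [(222, [(219, 0)])])])]), (119, [(235, [(238, []), (215, [(238, [])]), (170, []), (126, [(170, [(238, 5921026), (215, 16144642)])])]), (219, [(231, []), (222, [(231, [])]), (154, []), (126, [(154, [(231, 16144642), (222, 5921026)])])]), (175, [(238, []), (231, []), (170, [(231, [(238, 0)])])]), (166, [(238, []), (231, []), (154, [(238, [(231, 0)])])]), (159, [(222, []), (215, []), (154, [(215, [(222, 0)])])]), (150, [(222, []), (215, []), (170, [(222, [(215, 0)])])]), (123, [(238, []), (222,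 [(238, [])]), (126, [])])]), (66, [(238, [(235, []), (231, [(235, [])]), (175, []), (126, [(175, [(235, 5921026), (231, 16144642)])])]), (222, [(219, []), (215, [(219, [])]), (159, []), (126, [(159, [(219, 5921026), (215, 16144642)])])]), (170, [(235, []), (215, []), (175, [(215, [(235, 0)])])]), (166, [(231, []), (219, []), (175, [(219, [(231, 0)])])]), (154, [(231, []), (219, []), (159, [(231, [(219, 0)])])]), (150, [(235, []), (215, []), (159, [(235, [(215, 0)])])]), (123, [(235, []), (219, [(235, [])]), (126, [])]), (119, [(231, []), (215, [(231, [])]), (126, [])])]), (51, [(235, [(238, []), (170, []), (150, [(238, [(170, 0)])]), (123, [(170, [(238, 5921026), (150, 5789954)])])]), (231, [(238, []), (166, []), (154, [(238, [(166, 0)])]), (119, [(166, [(238, 14063874), (154, 7895298)])])]), (219, [(222, []), (166, [(222, [])]), (154, []), (123, [(154, [(222, 16292098), (166, 5789954)])])]), (215, [(222, []), (170, [(222, [])]), (150, []), (119, [(150, [(222, 5396994), (170, 7895298)])])]), (175, [(238, []), (170, []), (166, [(170, [(238, 0)])])]),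 (159, [(222, []), (154, []), (150, [(154, [(222, 0)])])]), (126, [(238, []), (222, [(238, [])]), (123, []), (119, [(123, [(238, 9853186), (222, 11950338)])])]), (66, [])]), (15, [(238, [(175, []), (170, []), (166, [(170, [(175, 0)])]), (51, [(175, [(170, 5658882), (166, 7764226)])])]), (235, [(175, []), (170, []), (150, [(175, [(170, 0)])])]), (231, [(175, []), (166, []), (154, [(175, [(166, 0)])])]), (222, [(159, []), (154, []), (150, [(154, [(159, 0)])]), (51, [(159, [(154, 5658882), (150, 5527810)])])]), (219, [(166, []), (159, [(166, [])]), (154, [])]), (215, [(170, []), (159, [(170, [])]), (150, [])]), (126, []), (123, [(166, []), (150, [(166, [])]), (51, [])]), (119, [(170, []), (154, [(170, [])]), (51, [])]), (66, [(175, []), (159, [(175, [])])])]), (10, [(238, [(231, []), (175, []), (170, [(231, [(175, 0)])]), (119, [(175, [(231, 5527810), (170, 5658882)])])]), (235, [(215, []), (175, [(215, [])]), (170, []), (66, [(170, [(215, 5527810), (175, 5658882)])])]), (222, [(215, []), (159, []), (154, [(215, [(159, 0)])]), (119, [(159, [(215, 5527810),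 (154, 5658882)])])]), (219, [(231, []), (159, [(231, [])]), (154, []), (66, [(154, [(231, 5527810), (159, 5658882)])])]), (166, [(231, []), (175, []), (154, [(175, [(231, 0)])]), (15, [(231, [(175, 13785346), (154, 13785346)])])]), (150, [(215, []), (170, []), (159, [(170, [(215, 0)])]), (15, [(215, [(170, 13785346), (159, 13785346)])])]), (126, [(231, []), (215, [(231, [])]), (119, []), (66, [(119, [(231, 5396994), (215, 8157442)])])]), (123, []), (51, [(170, []), (154, [(170, [])]), (119, []), (15, [(119, [(170, 1), (154, 6052098)])])])]), (6, [(238, [(235, []), (175, []), (166, [(235, [(175, 0)])]), (123, [(175, [(235, 5921026), (166, 5789954)])])]), (231, [(219, []), (175, [(219, [])]), (166, []), (66, [(166, [(219, 5396994), (175, 7764226)])])]), (222, [(219, []), (159, []), (150, [(219, [(159, 0)])]), (123, [(159, [(219, 7633154), (150, 5789954)])])]), (215, [(235, []), (159, [(235, [])]), (150, []), (66, [(150, [(235, 7633154), (159, 7764226)])])]), (170, [(235, []), (175, []), (150, [(175, [(235, 0)])]), (15, [(235, [(175, 5921026), (150,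 13793538)])])]), (154, [(219, []), (166, []), (159, [(166, [(219, 0)])]), (15, [(219, [(166, 5789954), (159, 5921026)])])]), (126, [(235, []), (219, [(235, [])]), (123, []), (66, [(123, [(235, 6052098), (219, 6052098)])])]), (119, []), (51, [(166, []), (150, [(166, [])]), (123, []), (15, [(123, [(166, 5396994), (150, 1)])])]), (10, [(175, []), (159, [(175, [])]), (66, []), (15, [(66, [(175, 6183426), (159, 6183170)])])])])] = true := by decide +kernel

theorem ct0_146 : T0.chk1 sv0 lo0 146 [(250, []), (246, [(250, [])]), (238, []), (219, [(246, []), (238, [(250, [])])]), (215, [(250, []), (238, [(246, [])]), (219, [])]), (195, [(250, [(219, [])]), (246, [(215, [])]), (238, [])]), (187, [(246, [(238, [])]), (215, []), (195, [(219, [])])]), (183, [(250, [(238, [])]), (219, []), (195, [(215, [])]), (187, [(238, [])])]), (175, [(219, [(250, []), (187, [])]), (215, [(246, []), (183, [])]), (195, [])]), (154, [(246, []), (238, [(250, []), (187, [])]), (215, [(195, [])]), (183, []), (175, [(250, []), (187, [])])]), (150, [(250, []), (238, [(246, []),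 (183, [])]), (219, [(195, [])]), (187, []), (175, [(246, []), (183, [])]), (154, [(195, [])])]), (130, [(250, [(219, []), (154, [])]), (246, [(215, []), (150, [])]), (238, []), (187, [(219, []), (154, [])]), (183, [(215, []), (150, [])]), (175, [])]), (126, [(187, [(250, []), (238, []), (219, [(238, [(250, 0)])])]), (183, [(246, []), (238, []), (215, [(238, [(246, 0)])])]), (175, [(250, []), (246, [(250, [])]), (238, [])]), (154, [(250, []), (219, []), (195, [(250, [(219, 0)])])]), (150, [(246, []), (215, []), (195, [(246, [(215, 0)])])]), (130, [(219, []), (215, [(219, [])]), (195, [])])]), (106, [(246, [(238, []), (215, [(238, [])]), (183, []), (126, [(183, [(238, 5527810), (215, 12237058)])])]), (219, [(250, []), (195, [(250, [])]), (154, []), (126, [(154, [(250, 14047490), (195, 7895298)])])]), (187, [(250, []), (238, []), (154, [(238, [(250, 0)])])]), (175, [(250, []), (238, []), (183, [(250, [(238, 0)])])]), (150, [(215, []), (195, []), (183, [(195, [(215, 0)])])]), (130, [(215, []), (195, []), (154, [(215, [(195, 0)])])])]), (102, [(250,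 [(238, []), (219, [(238, [])]), (187, []), (126, [(187, [(238, 7633154), (219, 21446913)])])]), (215, [(246, []), (195, [(246, [])]), (150, []), (126, [(150, [(246, 5789954), (195, 8288514)])])]), (183, [(246, []), (238, []), (150, [(238, [(246, 0)])])]), (175, [(246, []), (238, []), (187, [(246, [(238, 0)])])]), (154, [(219, []), (195, []), (187, [(195, [(219, 0)])])]), (130, [(219, []), (195, []), (150, [(219, [(195, 0)])])]), (106, [(238, []), (195, [(238, [])]), (126, [])])]), (95, [(238, [(250, []), (246, [(250, [])]), (175, []), (126, [(175, [(250, 11819266), (246, 6183170)])])]), (195, [(219, []), (215, [(219, [])]), (130, []), (126, [(130, [(219, 5527810), (215, 7633154)])])]), (187, [(250, []), (219, []), (175, [(219, [(250, 0)])])]), (183, [(246, []), (215, []), (175, [(215, [(246, 0)])])]), (154, [(250, []), (219, []), (130, [(250, [(219, 0)])])]), (150, [(246, []), (215, []), (130, [(246, [(215, 0)])])]), (106, [(250, []), (215, [(250, [])]), (126, [])]), (102, [(246, []), (219, [(246, [])]), (126, [])])]), (51, [(250, [(238, []), (187,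 []), (154, [(238, [(187, 0)])]), (106, [(187, [(238, 8157442), (154, 12212482)])])]), (246, [(238, []), (183, []), (150, [(238, [(183, 0)])]), (102, [(183, [(238, 7764226), (150, 6183170)])])]), (219, [(195, []), (187, [(195, [])]), (154, []), (102, [(154, [(195, 16144642), (187, 5658882)])])]), (215, [(195, []), (183, [(195, [])]), (150, []), (106, [(150, [(195, 16152834), (183, 5789954)])])]), (175, [(238, []), (187, []), (183, [(187, [(238, 0)])])]), (130, [(195, []), (154, []), (150, [(154, [(195, 0)])])]), (126, [(238, []), (195, [(238, [])]), (106, []), (102, [(106, [(238, 5658882), (195, 7764226)])])]), (95, [])]), (18, [(250, [(187, []), (175, []), (154, [(175, [(187, 0)])])]), (246, [(183, []), (175, []), (150, [(175, [(183, 0)])])]), (238, [(187, []), (183, [(187, [])]), (175, []), (51, [(175, [(187, 5658882), (183, 7764226)])])]), (219, [(187, []), (154, []), (130, [(187, [(154, 0)])])]), (215, [(183, []), (150, []), (130, [(183, [(150, 0)])])]), (195, [(154, []), (150, [(154, [])]), (130, []), (51, [(130, [(154, 6052098), (150, 13809922)])])]),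 (126, []), (106, [(183, []), (154, [(183, [])]), (51, [])]), (102, [(187, []), (150, [(187, [])]), (51, [])]), (95, [(175, []), (130, [(175, [])])])]), (10, [(246, [(215, []), (183, []), (175, [(215, [(183, 0)])]), (95, [(183, [(215, 16275714), (175, 7764226)])])]), (238, [(250, []), (183, [(250, [])]), (175, []), (106, [(175, [(250, 14047490), (183, 6183170)])])]), (219, [(250, []), (154, []), (130, [(250, [(154, 0)])]), (95, [(154, [(250, 14047490), (130, 6183170)])])]), (195, [(215, []), (154, [(215, [])]), (130, []), (106, [(130, [(215, 16275714), (154, 5527810)])])]), (187, [(250, []), (175, []), (154, [(175, [(250, 0)])]), (18, [(250, [(175, 5921026), (154, 11950338)])])]), (150, [(215, []), (183, []), (130, [(183, [(215, 0)])]), (18, [(215, [(183, 5527810), (130, 5527810)])])]), (126, [(250, []), (215, [(250, [])]), (106, []), (95, [(106, [(250, 6052098), (215, 11950338)])])]), (102, []), (51, [(183, []), (154, [(183, [])]), (106, []), (18, [(106, [(183, 5527810), (154, 10115330)])])])]), (6, [(250, [(219, []), (187, []), (175, [(219, [(187,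 0)])]), (95, [(187, [(219, 5658882), (175, 5658882)])])]), (238, [(246, []), (187, [(246, [])]), (175, []), (102, [(175, [(246, 16144642), (187, 5658882)])])]), (215, [(246, []), (150, []), (130, [(246, [(150, 0)])]), (95, [(150, [(246, 5789954), (130, 5789954)])])]), (195, [(219, []), (150, [(219, [])]), (130, []), (102, [(130, [(219, 6052098), (150, 1)])])]), (183, [(246, []), (175, []), (150, [(175, [(246, 0)])]), (18, [(246, [(175, 6052098), (150, 6183170)])])]), (154, [(219, []), (187, []), (130, [(187, [(219, 0)])]), (18, [(219, [(187, 5658882), (130, 7633154)])])]), (126, [(246, []), (219, [(246, [])]), (102, []), (95, [(102, [(246, 5658882), (219, 9853186)])])]), (106, []), (51, [(187, []), (150, [(187, [])]), (102, []), (18, [(102, [(187, 1), (150, 6183170)])])]), (10, [(175, []), (130, [(175, [])]), (95, []), (18, [(95, [(175, 29597953), (130, 7633154)])])])])] = true := by decide +kernel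

theorem ct0_162 : T0.chk1 sv0 lo0 162 [(250, []), (246, [(250, [])]), (235, [(246, [])]), (231, [(250, []), (235, [])]), (222, [(235, [(250, [])]), (231, [(246, [])])]), (195, [(250, [(235, [])]), (246, [(231, [])]), (222, [])]), (187, [(246, [(222, [])]), (231, []), (195, [(235, [])])]), (183, [(250, [(222, [])]), (235, []), (195, [(231, [])]), (187, [(222, [])])]), (170, [(246, []), (231, [(195, [])]), (222, [(250, []), (187, [])]), (183, [])]), (166, [(250, []), (235, [(195, [])]), (222, [(246, []), (183, [])]), (187, []), (170, [(195, [])])]), (159, [(235, [(250, []), (187, [])]), (231, [(246, []), (183, [])]), (195, []), (170, [(250, []), (187, [])]), (166, [(246, []), (183, [])])]), (130, [(250, [(235, []), (170, [])]), (246, [(231, []), (166, [])]), (222, []), (187, [(235, []), (170, [])]), (183, [(231, []), (166, [])]), (159, [])]), (126, [(187, [(250, []), (235, []), (222, [(235, [(250, 0)])])]), (183, [(246, []), (231, []), (222, [(231, [(246, 0)])])]), (170, [(250, []), (235, []), (195, [(250, [(235, 0)])])]), (166, [(246, []), (231,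 []), (195, [(246, [(231, 0)])])]), (159, [(250, []), (246, [(250, [])]), (222, [])]), (130, [(235, []), (231, [(235, [])]), (195, [])])]), (111, [(222, [(250, []), (246, [(250, [])]), (159, []), (126, [(159, [(250, 9722114), (246, 9730306)])])]), (195, [(235, []), (231, [(235, [])]), (130, []), (126, [(130, [(235, 5527810), (231, 7633154)])])]), (187, [(250, []), (235, []), (159, [(235, [(250, 0)])])]), (183, [(246, []), (231, []), (159, [(231, [(246, 0)])])]), (170, [(250, []), (235, []), (130, [(250, [(235, 0)])])]), (166, [(246, []), (231, []), (130, [(246, [(231, 0)])])])]), (90, [(246, [(231, []), (222, [(231, [])]), (183, []), (126, [(183, [(231, 21315841), (222, 5527810)])])]), (235, [(250, []), (195, [(250, [])]), (170, []), (126, [(170, [(250, 14047490), (195, 6183170)])])]), (187, [(250, []), (222, []), (170, [(222, [(250, 0)])])]), (166, [(231, []), (195, []), (183, [(195, [(231, 0)])])]), (159, [(250, []), (222, []), (183, [(250, [(222, 0)])])]), (130, [(231, []), (195, []), (170, [(231, [(195, 0)])])]), (111, [(250, []), (231, [(250,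 [])]), (126, [])])]), (86, [(250, [(235, []), (222, [(235, [])]), (187, []), (126, [(187, [(235, 10131714), (222, 7633154)])])]), (231, [(246, []), (195, [(246, [])]), (166, []), (126, [(166, [(246, 5789954), (195, 5789954)])])]), (183, [(246, []), (222, []), (166, [(222, [(246, 0)])])]), (170, [(235, []), (195, []), (187, [(195, [(235, 0)])])]), (159, [(246, []), (222, []), (187, [(246, [(222, 0)])])]), (130, [(235, []), (195, []), (166, [(235, [(195, 0)])])]), (111, [(246, []), (235, [(246, [])]), (126, [])]), (90, [(222, []), (195, [(222, [])]), (126, [])])]), (51, [(250, [(222, []), (187, []), (170, [(222, [(187, 0)])]), (90, [(187, [(222, 5658882), (170, 5658882)])])]), (246, [(222, []), (183, []), (166, [(222, [(183, 0)])]), (86, [(183, [(222, 6052098), (166, 6183170)])])]), (235, [(195, []), (187, [(195, [])]), (170, []), (86, [(170, [(195, 16144642), (187, 5658882)])])]), (231, [(195, []), (183, [(195, [])]), (166, []), (90, [(166, [(195, 5789954), (183, 7764226)])])]), (159, [(222, []), (187, []), (183, [(187, [(222, 0)])])]), (130, [(195,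 []), (170, []), (166, [(170, [(195, 0)])])]), (126, [(222, []), (195, [(222, [])]), (90, []), (86, [(90, [(222, 5658882), (195, 7764226)])])]), (111, [])]), (34, [(250, [(187, []), (170, []), (159, [(170, [(187, 0)])])]), (246, [(183, []), (166, []), (159, [(166, [(183, 0)])])]), (235, [(187, []), (170, []), (130, [(187, [(170, 0)])])]), (231, [(183, []), (166, []), (130, [(183, [(166, 0)])])]), (222, [(187, []), (183, [(187, [])]), (159, []), (51, [(159, [(187, 5658882), (183, 7764226)])])]), (195, [(170, []), (166, [(170, [])]), (130, []), (51, [(130, [(170, 13801730), (166, 6183170)])])]), (126, []), (111, [(159, []), (130, [(159, [])])]), (90, [(183, []), (170, [(183, [])]), (51, [])]), (86, [(187, []), (166, [(187, [])]), (51, [])])]), (10, [(246, [(231, []), (183, []), (159, [(231, [(183, 0)])]), (111, [(183, [(231, 7764226), (159, 5527810)])])]), (235, [(250, []), (170, []), (130, [(250, [(170, 0)])]), (111, [(170, [(250, 14047490), (130, 7895298)])])]), (222, [(250, []), (183, [(250, [])]), (159, []), (90, [(159, [(250, 14047490), (183,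 6183170)])])]), (195, [(231, []), (170, [(231, [])]), (130, []), (90, [(130, [(231, 16275714), (170, 1)])])]), (187, [(250, []), (170, []), (159, [(170, [(250, 0)])]), (34, [(250, [(170, 9853186), (159, 8157442)])])]), (166, [(231, []), (183, []), (130, [(183, [(231, 0)])]), (34, [(231, [(183, 5527810), (130, 5527810)])])]), (126, [(250, []), (231, [(250, [])]), (111, []), (90, [(111, [(250, 9853186), (231, 6183170)])])]), (86, []), (51, [(183, []), (170, [(183, [])]), (90, []), (34, [(90, [(183, 1), (170, 12212482)])])])]), (6, [(250, [(235, []), (187, []), (159, [(235, [(187, 0)])]), (111, [(187, [(235, 16283906), (159, 5658882)])])]), (231, [(246, []), (166, []), (130, [(246, [(166, 0)])]), (111, [(166, [(246, 14055682), (130, 5789954)])])]), (222, [(246, []), (187, [(246, [])]), (159, []), (86, [(159, [(246, 14055682), (187, 5658882)])])]), (195, [(235, []), (166, [(235, [])]), (130, []), (86, [(130, [(235, 6052098), (166, 6183170)])])]), (183, [(246, []), (166, []), (159, [(166, [(246, 0)])]), (34, [(246, [(166, 9861378), (159, 6052098)])])]),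 (170, [(235, []), (187, []), (130, [(187, [(235, 0)])]), (34, [(235, [(187, 5658882), (130, 7633154)])])]), (126, [(246, []), (235, [(246, [])]), (111, []), (86, [(111, [(246, 9861378), (235, 5658882)])])]), (90, []), (51, [(187, []), (166, [(187, [])]), (86, []), (34, [(86, [(187, 6052098), (166, 6183170)])])]), (10, [(159, []), (130, [(159, [])]), (111, []), (34, [(111, [(159, 5658882), (130, 31695105)])])])])] = true := by decide +kernel

theorem ct0_179 : T0.chk1 sv0 lo0 179 [(250, []), (246, [(250, [])]), (235, [(246, [])]), (231, [(250, []), (235, [])]), (219, [(246, [(231, [])]), (235, [(250, [])])]), (215, [(250, [(235, [])]), (231, [(246, [])]), (219, [])]), (187, [(246, []), (231, [(219, [])]), (215, [(235, [])])]), (183, [(250, []), (235, [(215, [])]), (219, [(231, [])]), (187, [])]), (170, [(246, [(215, [])]), (231, []), (219, [(250, []), (187, [])]), (183, [(215, [])])]), (166, [(250, [(219, [])]), (235, []), (215, [(246, []), (183, [])]), (187, [(219, [])]), (170, [])]), (154, [(246, [(231, []), (166, [])]), (235, [(250, []), (187,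 [])]), (215, []), (183, [(231, []), (166, [])]), (170, [(250, []), (187, [])])]), (150, [(250, [(235, []), (170, [])]), (231, [(246, []), (183, [])]), (219, []), (187, [(235, []), (170, [])]), (166, [(246, []), (183, [])]), (154, [])]), (126, [(187, [(250, []), (235, []), (219, [(235, [(250, 0)])])]), (183, [(246, []), (231, []), (215, [(231, [(246, 0)])])]), (170, [(250, []), (235, []), (215, [(250, [(235, 0)])])]), (166, [(246, []), (231, []), (219, [(246, [(231, 0)])])]), (154, [(250, []), (231, [(250, [])]), (219, [])]), (150, [(246, []), (235, [(246, [])]), (215, [])])]), (111, [(219, [(250, []), (231, [(250, [])]), (154, []), (126, [(154, [(250, 9722114), (231, 7633154)])])]), (215, [(246, []), (235, [(246, [])]), (150, []), (126, [(150, [(246, 9730306), (235, 5527810)])])]), (187, [(250, []), (235, []), (154, [(235, [(250, 0)])])]), (183, [(246, []), (231, []), (150, [(231, [(246, 0)])])]), (170, [(250, []), (235, []), (150, [(250, [(235, 0)])])]), (166, [(246, []), (231, []), (154, [(246, [(231, 0)])])])]), (95, [(235, [(250, []), (215,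 [(250, [])]), (170, []), (126, [(170, [(250, 11819266), (215, 7633154)])])]), (231, [(246, []), (219, [(246, [])]), (166, []), (126, [(166, [(246, 11827458), (219, 5527810)])])]), (187, [(250, []), (219, []), (170, [(219, [(250, 0)])])]), (183, [(246, []), (215, []), (166, [(215, [(246, 0)])])]), (154, [(250, []), (219, []), (166, [(250, [(219, 0)])])]), (150, [(246, []), (215, []), (170, [(246, [(215, 0)])])]), (111, [(250, []), (246, [(250, [])]), (126, [])])]), (66, [(250, [(235, []), (219, [(235, [])]), (187, []), (126, [(187, [(235, 7895298), (219, 5658882)])])]), (246, [(231, []), (215, [(231, [])]), (183, []), (126, [(183, [(231, 7764226), (215, 5789954)])])]), (170, [(235, []), (215, []), (187, [(215, [(235, 0)])])]), (166, [(231, []), (219, []), (183, [(219, [(231, 0)])])]), (154, [(231, []), (219, []), (187, [(231, [(219, 0)])])]), (150, [(235, []), (215, []), (183, [(235, [(215, 0)])])]), (111, [(235, []), (231, [(235, [])]), (126, [])]), (95, [(219, []), (215, [(219, [])]), (126, [])])]), (51, [(250, [(187, []), (170, []), (154, [(170,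 [(187, 0)])])]), (246, [(183, []), (166, []), (150, [(166, [(183, 0)])])]), (235, [(187, []), (170, []), (150, [(187, [(170, 0)])])]), (231, [(183, []), (166, []), (154, [(183, [(166, 0)])])]), (219, [(187, []), (166, [(187, [])]), (154, [])]), (215, [(183, []), (170, [(183, [])]), (150, [])]), (126, []), (111, [(154, []), (150, [(154, [])])]), (95, [(170, []), (166, [(170, [])])]), (66, [(187, []), (183, [(187, [])])])]), (34, [(250, [(219, []), (187, []), (170, [(219, [(187, 0)])]), (95, [(187, [(219, 7895298), (170, 5658882)])])]), (246, [(215, []), (183, []), (166, [(215, [(183, 0)])]), (95, [(183, [(215, 5789954), (166, 5789954)])])]), (235, [(215, []), (187, [(215, [])]), (170, []), (66, [(170, [(215, 16144642), (187, 5658882)])])]), (231, [(219, []), (183, [(219, [])]), (166, []), (66, [(166, [(219, 6052098), (183, 7764226)])])]), (154, [(219, []), (187, []), (166, [(187, [(219, 0)])]), (51, [(219, [(187, 5658882), (166, 8157442)])])]), (150, [(215, []), (183, []), (170, [(183, [(215, 0)])]), (51, [(215, [(183, 6183170), (170, 13801730)])])]),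 (126, [(219, []), (215, [(219, [])]), (95, []), (66, [(95, [(219, 5658882), (215, 7764226)])])]), (111, [])]), (18, [(250, [(235, []), (187, []), (154, [(235, [(187, 0)])]), (111, [(187, [(235, 7895298), (154, 12212482)])])]), (246, [(231, []), (183, []), (150, [(231, [(183, 0)])]), (111, [(183, [(231, 5789954), (150, 5789954)])])]), (219, [(231, []), (187, [(231, [])]), (154, []), (66, [(154, [(231, 16144642), (187, 5658882)])])]), (215, [(235, []), (183, [(235, [])]), (150, []), (66, [(150, [(235, 6052098), (183, 6183170)])])]), (170, [(235, []), (187, []), (150, [(187, [(235, 0)])]), (51, [(235, [(187, 5658882), (150, 13809922)])])]), (166, [(231, []), (183, []), (154, [(183, [(231, 0)])]), (51, [(231, [(183, 6183170), (154, 6052098)])])]), (126, [(235, []), (231, [(235, [])]), (111, []), (66, [(111, [(235, 5658882), (231, 7764226)])])]), (95, []), (34, [(187, []), (183, [(187, [])]), (66, []), (51, [(66, [(187, 6052098), (183, 6183170)])])])]), (15, [(235, [(250, []), (170, []), (150, [(250, [(170, 0)])]), (111, [(170, [(250, 14047490), (150,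 6183170)])])]), (231, [(246, []), (166, []), (154, [(246, [(166, 0)])]), (111, [(166, [(246, 16275714), (154, 5527810)])])]), (219, [(250, []), (166, [(250, [])]), (154, []), (95, [(154, [(250, 14047490), (166, 6183170)])])]), (215, [(246, []), (170, [(246, [])]), (150, []), (95, [(150, [(246, 16275714), (170, 8288514)])])]), (187, [(250, []), (170, []), (154, [(170, [(250, 0)])]), (51, [(250, [(170, 9853186), (154, 11950338)])])]), (183, [(246, []), (166, []), (150, [(166, [(246, 0)])]), (51, [(246, [(166, 9861378), (150, 5527810)])])]), (126, [(250, []), (246, [(250, [])]), (111, []), (95, [(111, [(250, 9853186), (246, 11950338)])])]), (66, []), (34, [(170, []), (166, [(170, [])]), (95, []), (51, [(95, [(170, 7633154), (166, 1)])])]), (18, [(154, []), (150, [(154, [])]), (111, []), (51, [(111, [(154, 1), (150, 5527810)])])])])] = true := by decide +kernel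

theorem ct0_199 : T0.chk1 sv0 lo0 199 [(250, []), (238, []), (231, [(250, [(238, [])])]), (222, [(238, [(250, [])]), (231, [])]), (215, [(250, [(222, [])]), (238, []), (231, [])]), (195, [(250, []), (238, [(231, [])]), (222, [(215, [])])]), (187, [(231, [(238, [])]), (215, [(222, [])]), (195, [])]), (175, [(222, [(250, []), (187, [])]), (215, []), (195, [(231, [])])]), (166, [(250, [(238, []), (175, [])]), (222, []), (215, [(195, [])]), (187, [(238, []), (175, [])])]), (159, [(238, [(250, []), (187, [])]), (231, []), (195, [(215, [])]), (175, [(250, []), (187, [])]), (166, [])]), (150, [(250, [(222, []), (159, [])]), (238, []), (231, [(195, [])]), (187, [(222, []), (159, [])]), (175, []), (166, [(195, [])])]), (130, [(250, []), (238, [(231, []), (166, [])]), (222, [(215, []), (150, [])]), (187, []), (175, [(231, []), (166, [])]), (159, [(215, []), (150, [])])]), (123, [(231, [(238, []), (166, []), (130, [(238, [(166, 0)])])]), (215, [(222, []), (150, []), (130, [(222, [(150, 0)])])]), (195, [(166, []), (150, [(166, [])]), (130, [])]), (187, [(250,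 []), (238, []), (222, [(238, [(250, 0)])])]), (175, [(250, []), (238, []), (166, [(250, [(238, 0)])])]), (159, [(250, []), (222, []), (150, [(250, [(222, 0)])])])]), (111, [(222, [(250, []), (159, []), (150, [(250, [(159, 0)])]), (123, [(159, [(250, 14047490), (150, 15890690)])])]), (215, [(159, []), (150, []), (130, [(159, [(150, 0)])])]), (195, [(231, []), (150, [(231, [])]), (130, [])]), (187, [(250, []), (238, []), (159, [(238, [(250, 0)])])]), (175, [(250, []), (238, []), (231, [(250, [(238, 0)])])]), (166, [(238, []), (231, []), (130, [(238, [(231, 0)])]), (123, [(231, [(238, 5527810), (130, 7633154)])])])]), (102, [(250, [(238, []), (187, []), (159, [(238, [(187, 0)])]), (111, [(187, [(238, 13793538), (159, 16275714)])])]), (222, [(187, []), (159, []), (150, [(187, [(159, 0)])])]), (215, [(195, []), (159, [(195, [])]), (150, [])]), (175, [(238, []), (231, []), (187, [(231, [(238, 0)])])]), (166, [(238, []), (231, []), (195, [(238, [(231, 0)])])]), (130, [(231, []), (195, []), (150, [(231, [(195, 0)])]), (111, [(195, [(231, 5789954), (150,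 13793538)])])]), (123, [(238, []), (150, [(238, [])]), (111, [])])]), (95, [(238, [(250, []), (175, []), (166, [(250, [(175, 0)])]), (123, [(175, [(250, 14047490), (166, 6183170)])])]), (231, [(175, []), (166, []), (130, [(175, [(166, 0)])])]), (195, [(215, []), (166, [(215, [])]), (130, [])]), (187, [(250, []), (222, []), (175, [(222, [(250, 0)])])]), (159, [(250, []), (222, []), (215, [(250, [(222, 0)])])]), (150, [(222, []), (215, []), (130, [(222, [(215, 0)])]), (123, [(215, [(222, 5527810), (130, 7633154)])])]), (111, [(250, []), (130, [(250, [])]), (123, [])]), (102, [])]), (86, [(250, [(222, []), (187, []), (175, [(222, [(187, 0)])]), (95, [(187, [(222, 5658882), (175, 5658882)])])]), (238, [(187, []), (175, []), (166, [(187, [(175, 0)])])]), (231, [(195, []), (175, [(195, [])]), (166, [])]), (159, [(222, []), (215, []), (187, [(215, [(222, 0)])])]), (150, [(222, []), (215, []), (195, [(222, [(215, 0)])])]), (130, [(215, []), (195, []), (166, [(215, [(195, 0)])]), (95, [(195, [(215, 5789954), (166, 5789954)])])]), (123, [(222, []), (166,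 [(222, [])]), (95, [])]), (111, []), (102, [(195, []), (187, [(195, [])])])]), (66, [(250, [(187, []), (175, []), (159, [(175, [(187, 0)])])]), (238, [(231, []), (187, [(231, [])]), (175, []), (102, [(175, [(231, 8026370), (187, 5658882)])])]), (222, [(215, []), (187, [(215, [])]), (159, []), (86, [(159, [(215, 8026370), (187, 5658882)])])]), (166, [(231, []), (195, []), (175, [(195, [(231, 0)])]), (86, [(231, [(195, 6183170), (175, 6052098)])])]), (150, [(215, []), (195, []), (159, [(195, [(215, 0)])]), (102, [(215, [(195, 15890690), (159, 6052098)])])]), (130, [(231, []), (215, [(231, [])]), (195, [])]), (123, []), (111, [(231, []), (159, [(231, [])]), (102, [])]), (95, [(215, []), (175, [(215, [])]), (86, [])])]), (51, [(250, [(238, []), (222, [(238, [])]), (187, []), (123, [(187, [(238, 14063874), (222, 16161026)])])]), (231, [(238, []), (195, [(238, [])]), (166, []), (102, [(166, [(238, 8026370), (195, 6183170)])])]), (215, [(222, []), (195, [(222, [])]), (150, []), (86, [(150, [(222, 6052098), (195, 7895298)])])]), (175, [(238, []), (187,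 []), (166, [(187, [(238, 0)])]), (86, [(238, [(187, 5658882), (166, 12474626)])])]), (159, [(222, []), (187, []), (150, [(187, [(222, 0)])]), (102, [(222, [(187, 5658882), (150, 10377474)])])]), (130, [(195, []), (166, []), (150, [(166, [(195, 0)])]), (123, [(195, [(166, 5789954), (150, 1)])])]), (111, [(238, []), (150, [(238, [])]), (123, []), (102, [(123, [(238, 5658882), (150, 12212482)])])]), (95, [(222, []), (166, [(222, [])]), (123, []), (86, [(123, [(222, 5658882), (166, 10115330)])])]), (66, [(195, []), (187, [(195, [])]), (102, []), (86, [(102, [(195, 1), (187, 6052098)])])])]), (10, [(238, [(250, []), (231, [(250, [])]), (175, []), (111, [(175, [(250, 14047490), (231, 16144642)])])]), (222, [(250, []), (215, [(250, [])]), (159, []), (95, [(159, [(250, 14047490), (215, 16144642)])])]), (195, [(231, []), (215, [(231, [])]), (130, []), (66, [(130, [(231, 5527810), (215, 5527810)])])]), (187, [(250, []), (175, []), (159, [(175, [(250, 0)])]), (66, [(250, [(175, 5921026), (159, 5921026)])])]), (166, [(231, []), (175, []), (130, [(175, [(231,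 0)])]), (95, [(231, [(175, 8026370), (130, 10377474)])])]), (150, [(215, []), (159, []), (130, [(159, [(215, 0)])]), (111, [(215, [(159, 5527810), (130, 12474626)])])]), (123, [(250, []), (130, [(250, [])]), (111, []), (95, [(111, [(250, 6052098), (130, 6183170)])])]), (102, [(231, []), (159, [(231, [])]), (111, []), (66, [(111, [(231, 5527810), (159, 10115330)])])]), (86, [(215, []), (175, [(215, [])]), (95, []), (66, [(95, [(215, 8157442), (175, 12212482)])])]), (51, [])])] = true := by decide +kernel

theorem ct0_203 : T0.chk1 sv0 lo0 203 [(246, []), (238, []), (235, [(246, [(238, [])])]), (222, [(238, [(246, [])]), (235, [])]), (219, [(246, [(222, [])]), (238, []), (235, [])]), (195, [(246, []), (238, [(235, [])]), (222, [(219, [])])]), (183, [(235, [(238, [])]), (219, [(222, [])]), (195, [])]), (175, [(222, [(246, []), (183, [])]), (219, []), (195, [(235, [])])]), (170, [(246, [(238, []), (175, [])]), (222, []), (219, [(195, [])]), (183, [(238, []), (175, [])])]), (159, [(238, [(246, []), (183, [])]), (235, []), (195, [(219, [])]), (175, [(246,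 []), (183, [])]), (170, [])]), (154, [(246, [(222, []), (159, [])]), (238, []), (235, [(195, [])]), (183, [(222, []), (159, [])]), (175, []), (170, [(195, [])])]), (130, [(246, []), (238, [(235, []), (170, [])]), (222, [(219, []), (154, [])]), (183, []), (175, [(235, []), (170, [])]), (159, [(219, []), (154, [])])]), (119, [(235, [(238, []), (170, []), (130, [(238, [(170, 0)])])]), (219, [(222, []), (154, []), (130, [(222, [(154, 0)])])]), (195, [(170, []), (154, [(170, [])]), (130, [])]), (183, [(246, []), (238, []), (222, [(238, [(246, 0)])])]), (175, [(246, []), (238, []), (170, [(246, [(238, 0)])])]), (159, [(246, []), (222, []), (154, [(246, [(222, 0)])])])]), (111, [(222, [(246, []), (159, []), (154, [(246, [(159, 0)])]), (119, [(159, [(246, 15882498), (154, 15882498)])])]), (219, [(159, []), (154, []), (130, [(159, [(154, 0)])])]), (195, [(235, []), (154, [(235, [])]), (130, [])]), (183, [(246, []), (238, []), (159, [(238, [(246, 0)])])]), (175, [(246, []), (238, []), (235, [(246, [(238, 0)])])]), (170, [(238, []), (235, []), (130, [(238,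 [(235, 0)])]), (119, [(235, [(238, 5658882), (130, 5527810)])])])]), (106, [(246, [(238, []), (183, []), (159, [(238, [(183, 0)])]), (111, [(183, [(238, 13785346), (159, 13785346)])])]), (222, [(183, []), (159, []), (154, [(183, [(159, 0)])])]), (219, [(195, []), (159, [(195, [])]), (154, [])]), (175, [(238, []), (235, []), (183, [(235, [(238, 0)])])]), (170, [(238, []), (235, []), (195, [(238, [(235, 0)])])]), (130, [(235, []), (195, []), (154, [(235, [(195, 0)])]), (111, [(195, [(235, 13785346), (154, 13785346)])])]), (119, [(238, []), (154, [(238, [])]), (111, [])])]), (95, [(238, [(246, []), (175, []), (170, [(246, [(175, 0)])]), (119, [(175, [(246, 15882498), (170, 15882498)])])]), (235, [(175, []), (170, []), (130, [(175, [(170, 0)])])]), (195, [(219, []), (170, [(219, [])]), (130, [])]), (183, [(246, []), (222, []), (175, [(222, [(246, 0)])])]), (159, [(246, []), (222, []), (219, [(246, [(222, 0)])])]), (154, [(222, []), (219, []), (130, [(222, [(219, 0)])]), (119, [(219, [(222, 5658882), (130, 5527810)])])]), (111, [(246, []), (130, [(246,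 [])]), (119, [])]), (106, [])]), (90, [(246, [(222, []), (183, []), (175, [(222, [(183, 0)])]), (95, [(183, [(222, 13785346), (175, 13785346)])])]), (238, [(183, []), (175, []), (170, [(183, [(175, 0)])])]), (235, [(195, []), (175, [(195, [])]), (170, [])]), (159, [(222, []), (219, []), (183, [(219, [(222, 0)])])]), (154, [(222, []), (219, []), (195, [(222, [(219, 0)])])]), (130, [(219, []), (195, []), (170, [(219, [(195, 0)])]), (95, [(195, [(219, 13785346), (170, 13785346)])])]), (119, [(222, []), (170, [(222, [])]), (95, [])]), (111, []), (106, [(195, []), (183, [(195, [])])])]), (66, [(246, [(183, []), (175, []), (159, [(175, [(183, 0)])])]), (238, [(235, []), (183, [(235, [])]), (175, []), (106, [(175, [(235, 5921026), (183, 5789954)])])]), (222, [(219, []), (183, [(219, [])]), (159, []), (90, [(159, [(219, 5921026), (183, 5789954)])])]), (170, [(235, []), (195, []), (175, [(195, [(235, 0)])]), (90, [(235, [(195, 15882498), (175, 15882498)])])]), (154, [(219, []), (195, []), (159, [(195, [(219, 0)])]), (106, [(219, [(195, 15882498), (159,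 15882498)])])]), (130, [(235, []), (219, [(235, [])]), (195, [])]), (119, []), (111, [(235, []), (159, [(235, [])]), (106, [])]), (95, [(219, []), (175, [(219, [])]), (90, [])])]), (51, [(246, [(238, []), (222, [(238, [])]), (183, []), (119, [(183, [(238, 14063874), (222, 16161026)])])]), (235, [(238, []), (195, [(238, [])]), (170, []), (106, [(170, [(238, 5921026), (195, 5789954)])])]), (219, [(222, []), (195, [(222, [])]), (154, []), (90, [(154, [(222, 5921026), (195, 5789954)])])]), (175, [(238, []), (183, []), (170, [(183, [(238, 0)])]), (90, [(238, [(183, 7764226), (170, 9853186)])])]), (159, [(222, []), (183, []), (154, [(183, [(222, 0)])]), (106, [(222, [(183, 5789954), (154, 11950338)])])]), (130, [(195, []), (170, []), (154, [(170, [(195, 0)])]), (119, [(195, [(170, 1), (154, 5396994)])])]), (111, [(238, []), (154, [(238, [])]), (119, []), (106, [(119, [(238, 6183170), (154, 9853186)])])]), (95, [(222, []), (170, [(222, [])]), (119, []), (90, [(119, [(222, 7764226), (170, 11950338)])])]), (66, [(195, []), (183, [(195, [])]), (106, []),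 (90, [(106, [(195, 5396994), (183, 1)])])])]), (6, [(238, [(246, []), (235, [(246, [])]), (175, []), (111, [(175, [(246, 5789954), (235, 5921026)])])]), (222, [(246, []), (219, [(246, [])]), (159, []), (95, [(159, [(246, 5789954), (219, 5921026)])])]), (195, [(235, []), (219, [(235, [])]), (130, []), (66, [(130, [(235, 7633154), (219, 7633154)])])]), (183, [(246, []), (175, []), (159, [(175, [(246, 0)])]), (66, [(246, [(175, 8026370), (159, 5396994)])])]), (170, [(235, []), (175, []), (130, [(175, [(235, 0)])]), (95, [(235, [(175, 5921026), (130, 5789954)])])]), (154, [(219, []), (159, []), (130, [(159, [(219, 0)])]), (111, [(219, [(159, 5921026), (130, 5789954)])])]), (119, [(246, []), (130, [(246, [])]), (111, []), (95, [(111, [(246, 5396994), (130, 8288514)])])]), (106, [(235, []), (159, [(235, [])]), (111, []), (66, [(111, [(235, 6052098), (159, 6052098)])])]), (90, [(219, []), (175, [(219, [])]), (95, []), (66, [(95, [(219, 6052098), (175, 6052098)])])]), (51, [])])] = true := by decide +kernel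

theorem ct0_206 : T0.chk1 sv0 lo0 206 [(238, []), (235, []), (231, [(235, [(238, [])])]), (222, [(238, []), (235, []), (231, [])]), (219, [(238, [(231, [])]), (235, [])]), (215, [(238, [(235, [])]), (231, []), (219, [(222, [])])]), (175, [(222, []), (219, [(231, [])]), (215, [(235, [])])]), (170, [(231, [(238, []), (175, [])]), (222, [(215, [])]), (219, [])]), (166, [(235, [(238, []), (175, [])]), (222, [(219, [])]), (215, []), (170, [(238, []), (175, [])])]), (159, [(238, []), (235, [(215, [])]), (231, [(219, [])]), (175, []), (170, [(215, [])]), (166, [(219, [])])]), (154, [(238, [(231, []), (166, [])]), (235, []), (215, [(222, []), (159, [])]), (175, [(231, []), (166, [])]), (170, [])]), (150, [(238, [(235, []), (170, [])]), (231, []), (219, [(222, []), (159, [])]), (175, [(235, []), (170, [])]), (166, []), (154, [(222, []), (159, [])])]), (111, [(222, [(159, []), (154, []), (150, [(154, [(159, 0)])])]), (219, [(231, []), (159, [(231, [])]), (154, [])]), (215, [(235, []), (159, [(235, [])]), (150, [])]), (175, [(238, []), (235, []), (231, [(235,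 [(238, 0)])])]), (170, [(238, []), (235, []), (150, [(238, [(235, 0)])])]), (166, [(238, []), (231, []), (154, [(238, [(231, 0)])])])]), (106, [(231, [(238, []), (166, []), (154, [(238, [(166, 0)])]), (111, [(166, [(238, 13785346), (154, 13785346)])])]), (222, [(215, []), (159, []), (154, [(215, [(159, 0)])])]), (219, [(166, []), (159, [(166, [])]), (154, [])]), (175, [(238, []), (235, []), (166, [(235, [(238, 0)])])]), (170, [(238, []), (235, []), (215, [(238, [(235, 0)])])]), (150, [(235, []), (215, []), (159, [(235, [(215, 0)])]), (111, [(215, [(235, 13785602), (159, 13785602)])])])]), (102, [(235, [(238, []), (170, []), (150, [(238, [(170, 0)])]), (111, [(170, [(238, 5921026), (150, 5789954)])])]), (222, [(219, []), (159, []), (150, [(219, [(159, 0)])])]), (215, [(170, []), (159, [(170, [])]), (150, [])]), (175, [(238, []), (231, []), (170, [(231, [(238, 0)])])]), (166, [(238, []), (231, []), (219, [(238, [(231, 0)])])]), (154, [(231, []), (219, []), (159, [(231, [(219, 0)])]), (111, [(219, [(231, 15882754), (159, 15882754)])])]), (106, [(238,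 []), (159, [(238, [])]), (111, [])])]), (95, [(238, [(175, []), (170, []), (166, [(170, [(175, 0)])])]), (235, [(215, []), (175, [(215, [])]), (170, [])]), (231, [(219, []), (175, [(219, [])]), (166, [])]), (159, [(222, []), (219, []), (215, [(219, [(222, 0)])])]), (154, [(222, []), (219, []), (166, [(222, [(219, 0)])])]), (150, [(222, []), (215, []), (170, [(222, [(215, 0)])])]), (111, []), (106, [(215, []), (166, [(215, [])])]), (102, [(219, []), (170, [(219, [])])])]), (90, [(238, [(231, []), (175, []), (170, [(231, [(175, 0)])]), (102, [(175, [(231, 15882498), (170, 15882498)])])]), (235, [(175, []), (170, []), (150, [(175, [(170, 0)])])]), (215, [(222, []), (170, [(222, [])]), (150, []), (95, [(150, [(222, 13785346), (170, 13785346)])])]), (166, [(231, []), (219, []), (175, [(219, [(231, 0)])]), (95, [(231, [(219, 13785602), (175, 13785602)])])]), (159, [(222, []), (219, []), (150, [(219, [(222, 0)])]), (102, [(222, [(219, 5658882), (150, 5527810)])])]), (154, [(231, []), (222, [(231, [])]), (219, [])]), (111, [(231, []), (150, [(231, [])]),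 (102, [])]), (106, [])]), (86, [(238, [(235, []), (175, []), (166, [(235, [(175, 0)])]), (106, [(175, [(235, 5921026), (166, 5789954)])])]), (231, [(175, []), (166, []), (154, [(175, [(166, 0)])])]), (219, [(222, []), (166, [(222, [])]), (154, []), (95, [(154, [(222, 5921026), (166, 5789954)])])]), (170, [(235, []), (215, []), (175, [(215, [(235, 0)])]), (95, [(235, [(215, 15882754), (175, 15882754)])])]), (159, [(222, []), (215, []), (154, [(215, [(222, 0)])]), (106, [(222, [(215, 15882498), (154, 15882498)])])]), (150, [(235, []), (222, [(235, [])]), (215, [])]), (111, [(235, []), (154, [(235, [])]), (106, [])]), (102, []), (90, [(222, []), (175, [(222, [])]), (95, [])])]), (34, [(235, [(238, []), (215, [(238, [])]), (170, []), (106, [(170, [(238, 5921026), (215, 5789954)])])]), (231, [(238, []), (219, [(238, [])]), (166, []), (102, [(166, [(238, 8026370), (219, 7895298)])])]), (222, [(219, []), (215, [(219, [])]), (159, []), (95, [(159, [(219, 5921026), (215, 5789954)])])]), (175, [(238, []), (170, []), (166, [(170, [(238, 0)])]), (95, [(238,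 [(170, 9853186), (166, 5789954)])])]), (154, [(219, []), (166, []), (159, [(166, [(219, 0)])]), (106, [(219, [(166, 5789954), (159, 5921026)])])]), (150, [(215, []), (170, []), (159, [(170, [(215, 0)])]), (102, [(215, [(170, 23552257), (159, 5396994)])])]), (111, [(238, []), (159, [(238, [])]), (106, []), (102, [(106, [(238, 9853186), (159, 6052098)])])]), (90, [(219, []), (170, [(219, [])]), (102, []), (95, [(102, [(219, 23421185), (170, 6183170)])])]), (86, [(215, []), (166, [(215, [])]), (106, []), (95, [(106, [(215, 5396994), (166, 8288514)])])])]), (18, [(238, [(235, []), (231, [(235, [])]), (175, []), (111, [(175, [(235, 5921026), (231, 5789954)])])]), (219, [(231, []), (222, [(231, [])]), (154, []), (90, [(154, [(231, 5789954), (222, 5921026)])])]), (215, [(235, []), (222, [(235, [])]), (150, []), (86, [(150, [(235, 7895298), (222, 8026370)])])]), (170, [(235, []), (175, []), (150, [(175, [(235, 0)])]), (90, [(235, [(175, 5921026), (150, 23421185)])])]), (166, [(231, []), (175, []), (154, [(175, [(231, 0)])]), (86, [(231, [(175, 8026370),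 (154, 5396994)])])]), (159, [(222, []), (154, []), (150, [(154, [(222, 0)])]), (111, [(222, [(154, 11950338), (150, 5789954)])])]), (106, [(235, []), (154, [(235, [])]), (111, []), (86, [(111, [(235, 6052098), (154, 6052098)])])]), (102, [(231, []), (150, [(231, [])]), (111, []), (90, [(111, [(231, 5396994), (150, 23552257)])])]), (95, [(222, []), (175, [(222, [])]), (90, []), (86, [(90, [(222, 11950338), (175, 6052098)])])]), (34, [])])] = true := by decide +kernel

theorem ct0_211 : T0.chk1 sv0 lo0 211 [(250, []), (246, [(250, [])]), (238, []), (219, [(246, []), (238, [(250, [])])]), (215, [(250, []), (238, [(246, [])]), (219, [])]), (195, [(250, [(219, [])]), (246, [(215, [])]), (238, [])]), (187, [(246, [(238, [])]), (215, []), (195, [(219, [])])]), (183, [(250, [(238, [])]), (219, []), (195, [(215, [])]), (187, [(238, [])])]), (175, [(219, [(250, []), (187, [])]), (215, [(246, []), (183, [])]), (195, [])]), (154, [(246, []), (238, [(250, []), (187, [])]), (215, [(195, [])]), (183, []), (175, [(250, []), (187, [])])]), (150, [(250, []), (238,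 [(246, []), (183, [])]), (219, [(195, [])]), (187, []), (175, [(246, []), (183, [])]), (154, [(195, [])])]), (130, [(250, [(219, []), (154, [])]), (246, [(215, []), (150, [])]), (238, []), (187, [(219, []), (154, [])]), (183, [(215, []), (150, [])]), (175, [])]), (123, [(246, [(238, []), (183, []), (150, [(238, [(183, 0)])])]), (215, [(183, []), (150, []), (130, [(183, [(150, 0)])])]), (195, [(219, []), (150, [(219, [])]), (130, [])]), (187, [(250, []), (238, []), (219, [(238, [(250, 0)])])]), (175, [(250, []), (238, []), (183, [(250, [(238, 0)])])]), (154, [(250, []), (219, []), (130, [(250, [(219, 0)])])])]), (119, [(250, [(238, []), (187, []), (154, [(238, [(187, 0)])])]), (219, [(187, []), (154, []), (130, [(187, [(154, 0)])])]), (195, [(215, []), (154, [(215, [])]), (130, [])]), (183, [(246, []), (238, []), (215, [(238, [(246, 0)])])]), (175, [(246, []), (238, []), (187, [(246, [(238, 0)])])]), (150, [(246, []), (215, []), (130, [(246, [(215, 0)])])]), (123, [(238, []), (130, [(238, [])])])]), (111, [(219, [(250, []), (154, []), (130, [(250,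 [(154, 0)])]), (123, [(154, [(250, 14047490), (130, 7633154)])])]), (215, [(246, []), (150, []), (130, [(246, [(150, 0)])]), (119, [(150, [(246, 5527810), (130, 5527810)])])]), (195, [(154, []), (150, [(154, [])]), (130, [])]), (187, [(250, []), (238, []), (154, [(238, [(250, 0)])]), (119, [(250, [(238, 7633154), (154, 16013570)])])]), (183, [(246, []), (238, []), (150, [(238, [(246, 0)])]), (123, [(246, [(238, 5527810), (150, 16021762)])])]), (175, [(250, []), (246, [(250, [])]), (238, [])])]), (90, [(246, [(183, []), (175, []), (150, [(175, [(183, 0)])])]), (238, [(250, []), (183, [(250, [])]), (175, []), (123, [(175, [(250, 11819266), (183, 7764226)])])]), (215, [(195, []), (183, [(195, [])]), (150, [])]), (187, [(250, []), (219, []), (175, [(219, [(250, 0)])])]), (154, [(250, []), (219, []), (195, [(250, [(219, 0)])])]), (130, [(219, []), (195, []), (150, [(219, [(195, 0)])]), (123, [(195, [(219, 5527810), (150, 13809922)])])]), (119, []), (111, [(250, []), (150, [(250, [])]), (123, [])])]), (86, [(250, [(187, []), (175, []), (154, [(175, [(187,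 0)])])]), (238, [(246, []), (187, [(246, [])]), (175, []), (119, [(175, [(246, 11827458), (187, 5658882)])])]), (219, [(195, []), (187, [(195, [])]), (154, [])]), (183, [(246, []), (215, []), (175, [(215, [(246, 0)])])]), (150, [(246, []), (215, []), (195, [(246, [(215, 0)])])]), (130, [(215, []), (195, []), (154, [(215, [(195, 0)])]), (119, [(195, [(215, 6183170), (154, 6052098)])])]), (123, []), (111, [(246, []), (154, [(246, [])]), (119, [])]), (90, [(195, []), (175, [(195, [])])])]), (66, [(250, [(219, []), (187, []), (175, [(219, [(187, 0)])]), (90, [(187, [(219, 8288514), (175, 5658882)])])]), (246, [(215, []), (183, []), (175, [(215, [(183, 0)])]), (86, [(183, [(215, 6183170), (175, 6052098)])])]), (238, [(187, []), (183, [(187, [])]), (175, [])]), (154, [(219, []), (195, []), (187, [(195, [(219, 0)])]), (86, [(219, [(195, 7895298), (187, 5658882)])])]), (150, [(215, []), (195, []), (183, [(195, [(215, 0)])]), (90, [(215, [(195, 15907074), (183, 5789954)])])]), (130, [(219, []), (215, [(219, [])]), (195, [])]), (123, [(219, []), (183, [(219,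 [])]), (90, [])]), (119, [(215, []), (187, [(215, [])]), (86, [])]), (111, [])]), (34, [(250, [(238, []), (219, [(238, [])]), (187, []), (123, [(187, [(238, 8157442), (219, 5658882)])])]), (246, [(238, []), (215, [(238, [])]), (183, []), (119, [(183, [(238, 7764226), (215, 6183170)])])]), (195, [(219, []), (215, [(219, [])]), (130, []), (66, [(130, [(219, 6052098), (215, 6183170)])])]), (175, [(238, []), (187, []), (183, [(187, [(238, 0)])]), (66, [(238, [(187, 5658882), (183, 7764226)])])]), (154, [(219, []), (187, []), (130, [(187, [(219, 0)])]), (119, [(219, [(187, 5658882), (130, 10377474)])])]), (150, [(215, []), (183, []), (130, [(183, [(215, 0)])]), (123, [(215, [(183, 5789954), (130, 5789954)])])]), (111, [(238, []), (130, [(238, [])]), (123, []), (119, [(123, [(238, 5658882), (130, 7764226)])])]), (90, [(219, []), (183, [(219, [])]), (123, []), (66, [(123, [(219, 5658882), (183, 10115330)])])]), (86, [(215, []), (187, [(215, [])]), (119, []), (66, [(119, [(215, 7764226), (187, 6052098)])])])]), (15, [(238, [(250, []), (246, [(250, [])]),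 (175, []), (111, [(175, [(250, 14047490), (246, 16144642)])])]), (219, [(250, []), (195, [(250, [])]), (154, []), (90, [(154, [(250, 14047490), (195, 16144642)])])]), (215, [(246, []), (195, [(246, [])]), (150, []), (86, [(150, [(246, 5527810), (195, 16152834)])])]), (187, [(250, []), (175, []), (154, [(175, [(250, 0)])]), (86, [(250, [(175, 5921026), (154, 11950338)])])]), (183, [(246, []), (175, []), (150, [(175, [(246, 0)])]), (90, [(246, [(175, 8026370), (150, 10377474)])])]), (130, [(195, []), (154, []), (150, [(154, [(195, 0)])]), (111, [(195, [(154, 5527810), (150, 1)])])]), (123, [(250, []), (150, [(250, [])]), (111, []), (90, [(111, [(250, 6052098), (150, 11950338)])])]), (119, [(246, []), (154, [(246, [])]), (111, []), (86, [(111, [(246, 5527810), (154, 10115330)])])]), (66, [(195, []), (175, [(195, [])]), (90, []), (86, [(90, [(195, 1), (175, 7633154)])])]), (34, [])])] = true := by decide +kernel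

theorem ct0_227 : T0.chk1 sv0 lo0 227 [(250, []), (246, [(250, [])]), (235, [(246, [])]), (231, [(250, []), (235, [])]), (222, [(235, [(250, [])]), (231, [(246, [])])]), (195, [(250, [(235, [])]), (246, [(231, [])]), (222, [])]), (187, [(246, [(222, [])]), (231, []), (195, [(235, [])])]), (183, [(250, [(222, [])]), (235, []), (195, [(231, [])]), (187, [(222, [])])]), (170, [(246, []), (231, [(195, [])]), (222, [(250, []), (187, [])]), (183, [])]), (166, [(250, []), (235, [(195, [])]), (222, [(246, []), (183, [])]), (187, []), (170, [(195, [])])]), (159, [(235, [(250, []), (187, [])]), (231, [(246, []), (183, [])]), (195, []), (170, [(250, []), (187, [])]), (166, [(246, []), (183, [])])]), (130, [(250, [(235, []), (170, [])]), (246, [(231, []), (166, [])]), (222, []), (187, [(235, []), (170, [])]), (183, [(231, []), (166, [])]), (159, [])]), (123, [(246, [(222, []), (183, []), (166, [(222, [(183, 0)])])]), (231, [(183, []), (166, []), (130, [(183, [(166, 0)])])]), (195, [(235, []), (166, [(235, [])]), (130, [])]), (187, [(250, []), (235, []), (222,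 [(235, [(250, 0)])])]), (170, [(250, []), (235, []), (130, [(250, [(235, 0)])])]), (159, [(250, []), (222, []), (183, [(250, [(222, 0)])])])]), (119, [(250, [(222, []), (187, []), (170, [(222, [(187, 0)])])]), (235, [(187, []), (170, []), (130, [(187, [(170, 0)])])]), (195, [(231, []), (170, [(231, [])]), (130, [])]), (183, [(246, []), (231, []), (222, [(231, [(246, 0)])])]), (166, [(246, []), (231, []), (130, [(246, [(231, 0)])])]), (159, [(246, []), (222, []), (187, [(246, [(222, 0)])])]), (123, [(222, []), (130, [(222, [])])])]), (106, [(246, [(183, []), (166, []), (159, [(166, [(183, 0)])])]), (231, [(195, []), (183, [(195, [])]), (166, [])]), (222, [(250, []), (183, [(250, [])]), (159, []), (123, [(159, [(250, 9722114), (183, 7764226)])])]), (187, [(250, []), (235, []), (159, [(235, [(250, 0)])])]), (170, [(250, []), (235, []), (195, [(250, [(235, 0)])])]), (130, [(235, []), (195, []), (166, [(235, [(195, 0)])]), (123, [(195, [(235, 5527810), (166, 8157442)])])]), (119, [])]), (102, [(250, [(187, []), (170, []), (159, [(170, [(187, 0)])])]),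 (235, [(195, []), (187, [(195, [])]), (170, [])]), (222, [(246, []), (187, [(246, [])]), (159, []), (119, [(159, [(246, 9730306), (187, 5658882)])])]), (183, [(246, []), (231, []), (159, [(231, [(246, 0)])])]), (166, [(246, []), (231, []), (195, [(246, [(231, 0)])])]), (130, [(231, []), (195, []), (170, [(231, [(195, 0)])]), (119, [(195, [(231, 6183170), (170, 13801730)])])]), (123, []), (106, [(195, []), (159, [(195, [])])])]), (95, [(235, [(250, []), (170, []), (130, [(250, [(170, 0)])]), (123, [(170, [(250, 14047490), (130, 7633154)])])]), (231, [(246, []), (166, []), (130, [(246, [(166, 0)])]), (119, [(166, [(246, 5527810), (130, 5527810)])])]), (195, [(170, []), (166, [(170, [])]), (130, [])]), (187, [(250, []), (222, []), (170, [(222, [(250, 0)])]), (119, [(250, [(222, 7633154), (170, 16013570)])])]), (183, [(246, []), (222, []), (166, [(222, [(246, 0)])]), (123, [(246, [(222, 5527810), (166, 16021762)])])]), (159, [(250, []), (246, [(250, [])]), (222, [])]), (106, [(250, []), (166, [(250, [])]), (123, [])]), (102, [(246, []), (170, [(246,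 [])]), (119, [])])]), (66, [(250, [(235, []), (187, []), (159, [(235, [(187, 0)])]), (106, [(187, [(235, 8288514), (159, 16275714)])])]), (246, [(231, []), (183, []), (159, [(231, [(183, 0)])]), (102, [(183, [(231, 6183170), (159, 6052098)])])]), (222, [(187, []), (183, [(187, [])]), (159, [])]), (170, [(235, []), (195, []), (187, [(195, [(235, 0)])]), (102, [(235, [(195, 15898882), (187, 5658882)])])]), (166, [(231, []), (195, []), (183, [(195, [(231, 0)])]), (106, [(231, [(195, 5789954), (183, 5789954)])])]), (130, [(235, []), (231, [(235, [])]), (195, [])]), (123, [(235, []), (183, [(235, [])]), (106, [])]), (119, [(231, []), (187, [(231, [])]), (102, [])]), (95, [])]), (18, [(250, [(235, []), (222, [(235, [])]), (187, []), (123, [(187, [(235, 8288514), (222, 5658882)])])]), (246, [(231, []), (222, [(231, [])]), (183, []), (119, [(183, [(231, 7764226), (222, 6052098)])])]), (195, [(235, []), (231, [(235, [])]), (130, []), (66, [(130, [(235, 6052098), (231, 6183170)])])]), (170, [(235, []), (187, []), (130, [(187, [(235, 0)])]), (119, [(235,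 [(187, 5658882), (130, 12474626)])])]), (166, [(231, []), (183, []), (130, [(183, [(231, 0)])]), (123, [(231, [(183, 7764226), (130, 5789954)])])]), (159, [(222, []), (187, []), (183, [(187, [(222, 0)])]), (66, [(222, [(187, 5658882), (183, 7764226)])])]), (106, [(235, []), (183, [(235, [])]), (123, []), (66, [(123, [(235, 5658882), (183, 12212482)])])]), (102, [(231, []), (187, [(231, [])]), (119, []), (66, [(119, [(231, 6183170), (187, 6052098)])])]), (95, [(222, []), (130, [(222, [])]), (123, []), (119, [(123, [(222, 5658882), (130, 7764226)])])])]), (15, [(235, [(250, []), (195, [(250, [])]), (170, []), (106, [(170, [(250, 14047490), (195, 16144642)])])]), (231, [(246, []), (195, [(246, [])]), (166, []), (102, [(166, [(246, 14055682), (195, 5527810)])])]), (222, [(250, []), (246, [(250, [])]), (159, []), (95, [(159, [(250, 14047490), (246, 16144642)])])]), (187, [(250, []), (170, []), (159, [(170, [(250, 0)])]), (102, [(250, [(170, 9853186), (159, 5921026)])])]), (183, [(246, []), (166, []), (159, [(166, [(246, 0)])]), (106, [(246, [(166, 12474626),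 (159, 5527810)])])]), (130, [(195, []), (170, []), (166, [(170, [(195, 0)])]), (95, [(195, [(170, 1), (166, 7633154)])])]), (123, [(250, []), (166, [(250, [])]), (106, []), (95, [(106, [(250, 9853186), (166, 6183170)])])]), (119, [(246, []), (170, [(246, [])]), (102, []), (95, [(102, [(246, 12081410), (170, 8288514)])])]), (66, [(195, []), (159, [(195, [])]), (106, []), (102, [(106, [(195, 5527810), (159, 1)])])]), (18, [])])] = true := by decide +kernel

theorem ct0_242 : T0.chk1 sv0 lo0 242 [(250, []), (246, [(250, [])]), (235, [(246, [])]), (231, [(250, []), (235, [])]), (219, [(246, [(231, [])]), (235, [(250, [])])]), (215, [(250, [(235, [])]), (231, [(246, [])]), (219, [])]), (187, [(246, []), (231, [(219, [])]), (215, [(235, [])])]), (183, [(250, []), (235, [(215, [])]), (219, [(231, [])]), (187, [])]), (170, [(246, [(215, [])]), (231, []), (219, [(250, []), (187, [])]), (183, [(215, [])])]), (166, [(250, [(219, [])]), (235, []), (215, [(246, []), (183, [])]), (187, [(219, [])]), (170, [])]), (154, [(246, [(231, []), (166, [])]), (235, [(250,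 []), (187, [])]), (215, []), (183, [(231, []), (166, [])]), (170, [(250, []), (187, [])])]), (150, [(250, [(235, []), (170, [])]), (231, [(246, []), (183, [])]), (219, []), (187, [(235, []), (170, [])]), (166, [(246, []), (183, [])]), (154, [])]), (123, [(246, [(183, []), (166, []), (150, [(166, [(183, 0)])])]), (231, [(219, []), (183, [(219, [])]), (166, [])]), (215, [(235, []), (183, [(235, [])]), (150, [])]), (187, [(250, []), (235, []), (219, [(235, [(250, 0)])])]), (170, [(250, []), (235, []), (150, [(250, [(235, 0)])])]), (154, [(250, []), (219, []), (166, [(250, [(219, 0)])])])]), (119, [(250, [(187, []), (170, []), (154, [(170, [(187, 0)])])]), (235, [(215, []), (187, [(215, [])]), (170, [])]), (219, [(231, []), (187, [(231, [])]), (154, [])]), (183, [(246, []), (231, []), (215, [(231, [(246, 0)])])]), (166, [(246, []), (231, []), (154, [(246, [(231, 0)])])]), (150, [(246, []), (215, []), (170, [(246, [(215, 0)])])]), (123, [])]), (106, [(246, [(215, []), (183, []), (166, [(215, [(183, 0)])])]), (231, [(183, []), (166, []), (154, [(183,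 [(166, 0)])])]), (219, [(250, []), (166, [(250, [])]), (154, []), (123, [(154, [(250, 9722114), (166, 8157698)])])]), (187, [(250, []), (235, []), (154, [(235, [(250, 0)])])]), (170, [(250, []), (235, []), (215, [(250, [(235, 0)])])]), (150, [(235, []), (215, []), (183, [(235, [(215, 0)])]), (123, [(215, [(235, 5527810), (183, 7764226)])])]), (119, [(215, []), (154, [(215, [])])])]), (102, [(250, [(219, []), (187, []), (170, [(219, [(187, 0)])])]), (235, [(187, []), (170, []), (150, [(187, [(170, 0)])])]), (215, [(246, []), (170, [(246, [])]), (150, []), (119, [(150, [(246, 6183170), (170, 8288514)])])]), (183, [(246, []), (231, []), (150, [(231, [(246, 0)])])]), (166, [(246, []), (231, []), (219, [(246, [(231, 0)])])]), (154, [(231, []), (219, []), (187, [(231, [(219, 0)])]), (119, [(219, [(231, 7633154), (187, 5658882)])])]), (123, [(219, []), (150, [(219, [])])]), (106, [])]), (90, [(246, [(231, []), (183, []), (150, [(231, [(183, 0)])]), (102, [(183, [(231, 7764226), (150, 5527810)])])]), (235, [(250, []), (170, []), (150, [(250, [(170, 0)])]),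 (123, [(170, [(250, 11819266), (150, 6183170)])])]), (215, [(183, []), (170, [(183, [])]), (150, [])]), (187, [(250, []), (219, []), (170, [(219, [(250, 0)])]), (102, [(250, [(219, 5921026), (170, 16013570)])])]), (166, [(231, []), (219, []), (183, [(219, [(231, 0)])]), (123, [(231, [(219, 5527810), (183, 7764226)])])]), (154, [(250, []), (231, [(250, [])]), (219, [])]), (119, [(231, []), (170, [(231, [])]), (102, [])]), (106, [(250, []), (183, [(250, [])]), (123, [])])]), (86, [(250, [(235, []), (187, []), (154, [(235, [(187, 0)])]), (106, [(187, [(235, 7633410), (154, 5658882)])])]), (231, [(246, []), (166, []), (154, [(246, [(166, 0)])]), (119, [(166, [(246, 11827458), (154, 6052354)])])]), (219, [(187, []), (166, [(187, [])]), (154, [])]), (183, [(246, []), (215, []), (166, [(215, [(246, 0)])]), (106, [(246, [(215, 5790210), (166, 16021762)])])]), (170, [(235, []), (215, []), (187, [(215, [(235, 0)])]), (119, [(235, [(215, 7633154), (187, 5658882)])])]), (150, [(246, []), (235, [(246, [])]), (215, [])]), (123, [(235, []), (166, [(235, [])]),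 (106, [])]), (102, [(246, []), (187, [(246, [])]), (119, [])]), (90, [])]), (10, [(246, [(231, []), (215, [(231, [])]), (183, []), (119, [(183, [(231, 5527810), (215, 5527810)])])]), (235, [(250, []), (215, [(250, [])]), (170, []), (106, [(170, [(250, 14047490), (215, 16144642)])])]), (219, [(250, []), (231, [(250, [])]), (154, []), (90, [(154, [(250, 14047490), (231, 16144642)])])]), (187, [(250, []), (170, []), (154, [(170, [(250, 0)])]), (119, [(250, [(170, 9853186), (154, 11950338)])])]), (166, [(231, []), (183, []), (154, [(183, [(231, 0)])]), (106, [(231, [(183, 7764226), (154, 5527810)])])]), (150, [(215, []), (183, []), (170, [(183, [(215, 0)])]), (90, [(215, [(183, 7764226), (170, 23552257)])])]), (123, [(250, []), (183, [(250, [])]), (106, []), (90, [(106, [(250, 9853186), (183, 11950338)])])]), (102, [(231, []), (170, [(231, [])]), (119, []), (90, [(119, [(231, 7764226), (170, 23552257)])])]), (86, [(215, []), (154, [(215, [])]), (119, []), (106, [(119, [(215, 7764226), (154, 5527810)])])])]), (6, [(250, [(235, []), (219, [(235, [])]),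 (187, []), (123, [(187, [(235, 7633154), (219, 7633154)])])]), (231, [(246, []), (219, [(246, [])]), (166, []), (102, [(166, [(246, 6183170), (219, 6052098)])])]), (215, [(246, []), (235, [(246, [])]), (150, []), (86, [(150, [(246, 6183170), (235, 6052098)])])]), (183, [(246, []), (166, []), (150, [(166, [(246, 0)])]), (123, [(246, [(166, 5789954), (150, 5789954)])])]), (170, [(235, []), (187, []), (150, [(187, [(235, 0)])]), (102, [(235, [(187, 5658882), (150, 23421185)])])]), (154, [(219, []), (187, []), (166, [(187, [(219, 0)])]), (86, [(219, [(187, 5658882), (166, 7633154)])])]), (119, [(246, []), (187, [(246, [])]), (102, []), (86, [(102, [(246, 6183170), (187, 6052098)])])]), (106, [(235, []), (166, [(235, [])]), (123, []), (86, [(123, [(235, 5658882), (166, 7633154)])])]), (90, [(219, []), (150, [(219, [])]), (123, []), (102, [(123, [(219, 5658882), (150, 23421185)])])]), (10, [])])] = true := by decide +kernel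

end Cfsg.Agent.LargeExtra.Enum9
end
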